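import Cfsg.Agent.Lib.SDKeystone.Budget.Setting

/-!
# Fourier on a root group

* `const_of_sum_eq_zero` : a linear relation between the values of functions along independent
  dilations makes each of them constant;
* `conj_eq_of_quadratic` : a linear character of an abelian normal subgroup fixed by `t` and `y` and moved
  by a root group excludes a quadratic action of `y` on the centraliser of `t`.
-/

set_option autoImplicit false
set_option linter.unusedSectionVars false
set_option linter.style.haveILetI false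

namespace Cfsg.Agent.SDKeystone.Budget

open Subgroup Cfsg Cfsg.Agent.Char Cfsg.Agent.InvolChar

section Functional

variable {V B : Type*} [AddCommGroup V] [Finite V] [AddCommGroup B]

/-- If all differences of `g` are constant, `g` is constant. -/
theorem const_of_diff_const (hB : ∀ d : B, Nat.card V • d = 0 → d = 0) {g : V → B}
    (h : ∀ k x, g (x + k) - g x = g k - g 0) (x : V) : g x = g 0 := by
  have hn : ∀ n : ℕ, g (n • x) = g 0 + n • (g x - g 0) := by
    intro n
    induction n with
    | zero => simp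
    | succ n ih =>
      have h1 := h x (n • x)
      rw [sub_eq_iff_eq_add] at h1
      rw [succ_nsmul, h1, ih, succ_nsmul]
      abel
  have h2 := hn (Nat.card V)
  rw [card_nsmul_eq_zero', left_eq_add] at h2
  exact sub_eq_zero.1 (hB _ h2)

/-- The functional equation: `g (c + s) + ∑ gᵢ (c + κᵢ s) = 0` with every `κᵢ - 1` injective. -/
theorem const_of_sum_eq_zero (hB : ∀ d : B, Nat.card V • d = 0 → d = 0)
    (L : List ((V → B) × (V →+ V))) :
    ∀ g : V → B, (∀ p ∈ L, ∀ v, p.2 v = v → v = 0) →
      (∀ c s, g (c + s) + (L.map fun p => p.1 (c + p.2 s)).sum = 0) → ∀ x, g x = g 0 := by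
  induction hn : L.length generalizing L with
  | zero =>
    intro g _ h x
    rw [List.length_eq_zero_iff.1 hn] at h
    have h1 := h x 0
    have h2 := h 0 0
    simp only [List.map_nil, List.sum_nil, add_zero] at h1 h2
    rw [h1, h2]
  | succ n ih =>
    intro g hinj h
    obtain ⟨⟨g0, κ0⟩, L', rfl⟩ := List.exists_cons_of_length_eq_add_one hn
    have hn' : L'.length = n := by simpa using hn
    refine const_of_diff_const hB fun k => ?_
    have hb : Function.Injective (κ0 - AddMonoidHom.id V) := by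
      refine (injective_iff_map_eq_zero _).2 fun v hv => hinj _ (List.mem_cons_self ..) v ?_
      exact sub_eq_zero.1 hv
    obtain ⟨u, hu⟩ := (Finite.injective_iff_surjective.1 hb) k
    have hu' : κ0 u = k + u := sub_eq_iff_eq_add.1 hu
    have key := ih (L'.map fun p => (fun v => p.1 (v + (κ0 u - p.2 u)) - p.1 v, p.2))
      (by simpa using hn') (fun v => g (v + k) - g v)
      (fun p hp v hv => by
        obtain ⟨q, hq, rfl⟩ := List.mem_map.1 hp
        exact hinj q (List.mem_cons_of_mem _ hq) v hv)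
      (fun c s => ?_)
    · intro x
      have := key x
      simpa using this
    have h1 := h (c + κ0 u) (s - u)
    have h2 := h c s
    rw [List.map_cons, List.sum_cons] at h1 h2
    have e1 : c + κ0 u + (s - u) = c + s + k := by rw [hu']; abel
    have e0 : c + κ0 u + κ0 (s - u) = c + κ0 s := by rw [map_sub]; abel
    simp only [e1, e0] at h1
    have e2 : ∀ M : List ((V → B) × (V →+ V)),
        ((M.map fun p => ((fun v => p.1 (v + (κ0 u - p.2 u)) - p.1 v, p.2) : (V → B) × (V →+ V))).map
            fun p => p.1 (c + p.2 s)).sum =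
          (M.map fun p => p.1 (c + κ0 u + p.2 (s - u))).sum - (M.map fun p => p.1 (c + p.2 s)).sum := by
      intro M
      induction M with
      | nil => simp
      | cons p M ihM =>
        simp only [List.map_cons, List.sum_cons, ihM]
        rw [show c + p.2 s + (κ0 u - p.2 u) = c + κ0 u + p.2 (s - u) by rw [map_sub]; abel]
        abel
    rw [e2]
    have h3 : g (c + s + k) + (g0 (c + κ0 s) + (L'.map fun p => p.1 (c + κ0 u + p.2 (s - u))).sum) -
        (g (c + s) + (g0 (c + κ0 s) + (L'.map fun p => p.1 (c + p.2 s)).sum)) = 0 := by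
      rw [h1, h2, sub_zero]
    rw [← h3]
    abel

/-- No common value of `v` and `-v` under an automorphism of odd order. -/
theorem eq_zero_of_iterate (hV : Odd (Nat.card V)) (a : V →+ V) {m : ℕ} (hm : Odd m)
    (ha : ∀ v, a^[m] v = v) (hfix : ∀ v, a v = v → v = 0) :
    (∀ v, a v = -v → v = 0) ∧ (∀ v, a (a v) = v → v = 0) ∧ (∀ v, a (a v) = -v → v = 0) ∧
      ∀ v : V, -v = v → v = 0 := by
  obtain ⟨j, rfl⟩ := hm
  have h2 : ∀ v : V, v + v = 0 → v = 0 := fun v hv => by
    have h : addOrderOf v ∣ 2 := addOrderOf_dvd_of_nsmul_eq_zero (by rw [two_nsmul]; exact hv)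
    rcases (Nat.dvd_prime Nat.prime_two).1 h with h1 | h1
    · exact AddMonoid.addOrderOf_eq_one_iff.1 h1
    · exact absurd (h1 ▸ addOrderOf_dvd_natCard v) (by rw [← even_iff_two_dvd]; exact Nat.not_even_iff_odd.2 hV)
  have hsq : ∀ (c : V →+ V) (v : V), c (c v) = v → ∀ i, c^[2 * i] v = v := fun c v hv i => by
    induction i with
    | zero => rfl
    | succ i ih => rw [Nat.mul_succ, Function.iterate_add_apply]; exact (congrArg _ hv).trans ih
  have hodd : ∀ v, a (a v) = v → v = 0 := fun v hv => hfix v <| by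
    have h := ha v
    rwa [show 2 * j + 1 = Nat.succ (2 * j) from rfl, Function.iterate_succ_apply', hsq a v hv j] at h
  refine ⟨fun v hv => hodd v (by rw [hv, map_neg, hv, neg_neg]), hodd, fun v hv => ?_,
    fun v hv => h2 v (neg_eq_iff_add_eq_zero.1 hv)⟩
  have hc : ∀ n w, (a.comp a)^[n] w = a^[2 * n] w := fun n w => by
    induction n with
    | zero => rfl
    | succ n ih => rw [Function.iterate_succ_apply', ih, Nat.mul_succ, Function.iterate_succ_apply',
        Function.iterate_succ_apply']; rfl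
  have hm2 : (a.comp a)^[2 * j + 1] v = v := by
    rw [hc, two_mul (2 * j + 1), Function.iterate_add_apply, ha, ha]
  have h4 : (a.comp a) ((a.comp a) v) = v := by
    show a (a (a (a v))) = v
    rw [hv, map_neg, map_neg, hv, neg_neg]
  have h5 : a (a v) = v := by
    rwa [show 2 * j + 1 = Nat.succ (2 * j) from rfl, Function.iterate_succ_apply',
      hsq (a.comp a) v h4 j] at hm2
  exact h2 v (eq_neg_iff_add_eq_zero.1 (h5.symm.trans hv))

/-- The equation of a quadratic action. -/
theorem const_of_second_diff (hV : Odd (Nat.card V)) (hB : ∀ d : B, Nat.card V • d = 0 → d = 0)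
    (a : V →+ V) {m : ℕ} (hm : Odd m) (ha : ∀ v, a^[m] v = v) (hfix : ∀ v, a v = v → v = 0)
    (f : V → B) (h : ∀ c s, f (c + a (a s)) + f (c - a (a s)) + (f (c + s) + f (c - s)) =
      (f (c + a s) + f (c - a s)) + (f (c + a s) + f (c - a s))) (x : V) : f x = f 0 := by
  obtain ⟨h1, h2, h3, h4⟩ := eq_zero_of_iterate hV a hm ha hfix
  refine const_of_sum_eq_zero hB [(f, -AddMonoidHom.id V), (f, a.comp a), (f, -(a.comp a)),
    (fun v => -(f v + f v), a), (fun v => -(f v + f v), -a)] f ?_ ?_ x
  · intro p hp v hv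
    simp only [List.mem_cons, List.not_mem_nil, or_false] at hp
    rcases hp with rfl | rfl | rfl | rfl | rfl
    · exact h4 v hv
    · exact h2 v hv
    · exact h3 v (neg_eq_iff_eq_neg.1 hv)
    · exact hfix v hv
    · exact h1 v (neg_eq_iff_eq_neg.1 hv)
  · intro c s
    have e := h c s
    rw [← sub_eq_zero] at e
    simp only [List.map_cons, List.map_nil, List.sum_cons, List.sum_nil, AddMonoidHom.neg_apply,
      AddMonoidHom.id_apply, AddMonoidHom.comp_apply, ← sub_eq_add_neg, add_zero]
    rw [← e]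
    abel

end Functional

section Group

universe u v

variable {C : Type u} [Group C] {H : Type v} [Group H] {φ : C →* H} {M : Type*} [CommGroup M]

/-- Conjugation in the kernel. -/
def cj (φ : C →* H) : C →* MulAut φ.ker := MulAut.conjNormal

theorem cj_coe (c : C) (x : φ.ker) : (cj φ c x : C) = c * x * c⁻¹ := MulAut.conjNormal_apply c x

theorem cj_mul (c d : C) (x : φ.ker) : cj φ (c * d) x = cj φ c (cj φ d x) := by
  rw [map_mul, MulAut.mul_apply]

/-- Over an abelian kernel conjugation only depends on the image. -/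
theorem cj_congr (hab : ∀ x ∈ φ.ker, ∀ y ∈ φ.ker, Commute x y) {c d : C} (h : φ c = φ d) (x : φ.ker) :
    cj φ c x = cj φ d x := by
  have hk : d⁻¹ * c ∈ φ.ker := by rw [MonoidHom.mem_ker, map_mul, map_inv, h, inv_mul_cancel]
  refine Subtype.ext ?_
  rw [cj_coe, cj_coe]
  calc c * (x : C) * c⁻¹ = d * (d⁻¹ * c * x * (d⁻¹ * c)⁻¹) * d⁻¹ := by group
    _ = d * (x : C) * d⁻¹ := by rw [(hab _ hk _ x.2).eq, mul_inv_cancel_right]

variable [Finite C]

/-- **The Borel orbit**: a character of the abelian kernel fixed by `t` and `y` is fixed by the root group `V`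
if `y` acts quadratically on the centraliser of `t`. -/
theorem conj_eq_of_quadratic (hab : ∀ x ∈ φ.ker, ∀ y ∈ φ.ker, Commute x y)
    (hsurj : Function.Surjective φ) {V : Subgroup H} (hVab : ∀ a ∈ V, ∀ b ∈ V, Commute a b)
    (hVodd : Odd (Nat.card V)) (lam : φ.ker →* M) (hlam : ∀ x, lam x ^ Nat.card V = 1 → lam x = 1)
    {t y : C} (ht : t * t = 1) (hy : Odd (orderOf y)) (htV : ∀ v ∈ V, φ t * v * (φ t)⁻¹ = v⁻¹)
    (hyV : ∀ v ∈ V, φ y * v * (φ y)⁻¹ ∈ V) (hfree : ∀ v ∈ V, φ y * v * (φ y)⁻¹ = v → v = 1)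
    (hlt : ∀ x, lam (cj φ t x) = lam x) (hly : ∀ x, lam (cj φ y x) = lam x)
    (hquad : ∀ x ∈ φ.ker, Commute t x → Commute y (y * x * y⁻¹ * x⁻¹))
    {c : C} (hc : φ c ∈ V) (x : φ.ker) : lam (cj φ c x) = lam x := by
  classical
  haveI : Finite H := Finite.of_surjective φ hsurj
  letI : CommGroup V :=
    { (inferInstance : Group V) with mul_comm := fun a b => Subtype.ext (hVab a a.2 b b.2).eq }
  let σ : Additive V → C := fun s => Function.surjInv hsurj (Additive.toMul s : V)
  have hσ : ∀ s, φ (σ s) = (Additive.toMul s : V) := fun s => Function.surjInv_eq hsurj _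
  let a : Additive V →+ Additive V := MonoidHom.toAdditive
    { toFun := fun v => ⟨φ y * v * (φ y)⁻¹, hyV v v.2⟩
      map_one' := Subtype.ext (by simp)
      map_mul' := fun v w => Subtype.ext (by simp [mul_assoc]) }
  have ha : ∀ s, ((Additive.toMul (a s) : V) : H) = φ y * (Additive.toMul s : V) * (φ y)⁻¹ := fun _ => rfl
  have haiter : ∀ k s, ((Additive.toMul (a^[k] s) : V) : H) =
      φ y ^ k * (Additive.toMul s : V) * (φ y ^ k)⁻¹ := fun k s => by
    induction k with
    | zero => simp
    | succ k ih => rw [Function.iterate_succ_apply', ha, ih, pow_succ']; group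
  let f : φ.ker → Additive V → Additive lam.range :=
    fun x s => Additive.ofMul ⟨lam (cj φ (σ s) x), ⟨_, rfl⟩⟩
  have hf_mul : ∀ x x' s, f (x * x') s = f x s + f x' s := fun x x' s =>
    congrArg Additive.ofMul (Subtype.ext (by simp [f]))
  have hf_add : ∀ x c s, f (cj φ (σ c) x) s = f x (c + s) := fun x c s => by
    refine congrArg Additive.ofMul (Subtype.ext ?_)
    show lam (cj φ (σ s) (cj φ (σ c) x)) = lam (cj φ (σ (c + s)) x)
    rw [← cj_mul, cj_congr hab (d := σ (c + s))]
    rw [map_mul, hσ, hσ, hσ, add_comm c s]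
    rfl
  have hf_t : ∀ x s, f (cj φ t x) s = f x (-s) := fun x s => by
    refine congrArg Additive.ofMul (Subtype.ext ?_)
    show lam (cj φ (σ s) (cj φ t x)) = lam (cj φ (σ (-s)) x)
    rw [← cj_mul, cj_congr hab (d := t * σ (-s)), cj_mul, hlt]
    rw [map_mul, map_mul, hσ, hσ]
    have h := htV _ (Additive.toMul (-s) : V).2
    rw [show ((Additive.toMul (-s) : V) : H) = ((Additive.toMul s : V) : H)⁻¹ from rfl, inv_inv,
      mul_inv_eq_iff_eq_mul] at h
    exact h.symm
  have hly' : ∀ x, lam (cj φ y⁻¹ x) = lam x := fun x => by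
    conv_rhs => rw [← mul_inv_cancel_right x 1]
    rw [← hly (cj φ y⁻¹ x), ← cj_mul, mul_inv_cancel, map_one, MulAut.one_apply]
    simp
  have hf_y : ∀ x s, f (cj φ y⁻¹ x) s = f x (a s) := fun x s => by
    refine congrArg Additive.ofMul (Subtype.ext ?_)
    show lam (cj φ (σ s) (cj φ y⁻¹ x)) = lam (cj φ (σ (a s)) x)
    rw [← cj_mul, cj_congr hab (d := y⁻¹ * σ (a s)), cj_mul, hly']
    rw [map_mul, map_mul, map_inv, hσ, hσ, ha]
    group
  have hquad' : ∀ p : φ.ker, cj φ t p = p →
      cj φ y⁻¹ (cj φ y⁻¹ p) * p = cj φ y⁻¹ p * cj φ y⁻¹ p := fun p hp => by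
    have hcomm : Commute t (p : C) := by
      have h := congrArg Subtype.val hp
      rw [cj_coe, mul_inv_eq_iff_eq_mul] at h
      exact h
    have hd := hquad p p.2 hcomm
    set d : C := y * (p : C) * y⁻¹ * (p : C)⁻¹ with hdd
    have e1 : y⁻¹ * (p : C) * y = d⁻¹ * p := by
      calc y⁻¹ * (p : C) * y = (y⁻¹ * d⁻¹) * (y * p * y⁻¹) * y := by rw [hdd]; group
        _ = d⁻¹ * p := by
          rw [hd.inv_right.inv_left.eq]
          group
    have hdk : d ∈ φ.ker := φ.ker.mul_mem ((MonoidHom.normal_ker φ).conj_mem _ p.2 y) (φ.ker.inv_mem p.2)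
    refine Subtype.ext ?_
    show (cj φ y⁻¹ (cj φ y⁻¹ p) : C) * p = (cj φ y⁻¹ p : C) * (cj φ y⁻¹ p : C)
    rw [cj_coe, cj_coe, inv_inv, e1]
    calc y⁻¹ * (d⁻¹ * (p : C)) * y * p = (y⁻¹ * d⁻¹ * y) * (y⁻¹ * p * y) * p := by group
      _ = d⁻¹ * (d⁻¹ * p) * p := by rw [hd.inv_right.inv_left.eq, inv_mul_cancel_right, e1]
      _ = d⁻¹ * p * (d⁻¹ * p) := by
        simp only [mul_assoc]
        rw [← mul_assoc d⁻¹ (p : C), ← mul_assoc (p : C) d⁻¹,
          (hab _ p.2 _ (φ.ker.inv_mem hdk)).eq, mul_assoc]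
  have key := const_of_second_diff (V := Additive V) (B := Additive lam.range) hVodd ?_ a
    (m := orderOf y) hy ?_ ?_ (f x) ?_ (Additive.ofMul ⟨φ c, hc⟩)
  · have h := congrArg (fun b : Additive lam.range => ((Additive.toMul b : lam.range) : M)) key
    change lam (cj φ (σ _) x) = lam (cj φ (σ 0) x) at h
    rw [cj_congr hab (d := c) (by rw [hσ]; rfl), cj_congr hab (c := σ 0) (d := 1) (by rw [hσ, map_one]; rfl),
      map_one, MulAut.one_apply] at h
    exact h
  · intro d hd
    obtain ⟨x', hx'⟩ := (Additive.toMul d).2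
    refine Subtype.ext (?_ : ((Additive.toMul d : lam.range) : M) = 1)
    rw [← hx']
    refine hlam x' ?_
    rw [hx']
    exact congrArg (fun b : Additive lam.range => ((Additive.toMul b : lam.range) : M)) hd
  · intro s
    refine Additive.toMul.injective (Subtype.ext ?_)
    rw [haiter, ← map_pow, pow_orderOf_eq_one, map_one, one_mul, inv_one, mul_one]
  · intro s hs
    refine Additive.toMul.injective (Subtype.ext ?_)
    exact hfree _ (Additive.toMul s : V).2 ((ha s).symm.trans (by rw [hs]))
  · intro c' s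
    set p := cj φ (σ c') x * cj φ t (cj φ (σ c') x) with hp
    have htp : cj φ t p = p := by
      rw [hp, map_mul, ← cj_mul (φ := φ) t t, ht, map_one, MulAut.one_apply]
      exact Subtype.ext (hab _ (cj φ t _).2 _ (cj φ (σ c') x).2).eq
    have hfp : ∀ s', f p s' = f x (c' + s') + f x (c' - s') := fun s' => by
      rw [hp, hf_mul, hf_t, hf_add, hf_add, sub_eq_add_neg]
    have h := congrArg (fun w => f w s) (hquad' p htp)
    simp only [hf_mul, hf_y] at h
    rw [hfp, hfp, hfp] at h
    exact h

end Group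

end Cfsg.Agent.SDKeystone.Budget
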