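import Cfsg.Agent.Lib.SDKeystone.Budget.Setting

/-!
# The degree budget: the core carries no field automorphism

Between the two passes of the budget.  `K` the core of `C(z)`, `g` a swap of `z` and `t`, `s` carries
`t` to `t * z`, `A = K ∩ C(t)`.

* `core_free` : `g A g⁻¹ ≤ C₀`, provided no element of `[A, A]` lying in the core of `C(t z)` is visible
  at `t` (`hsym`) and no element outside `C₀` cubes to zero on the torus (`hcube`);
* `false_of_point_kernels` : the counting over the points that gives `hsym` in the split case.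
-/

set_option autoImplicit false
set_option linter.unusedSectionVars false
set_option linter.style.haveILetI false

open scoped commutatorElement

namespace Cfsg.Agent.SDKeystone.Budget

open Subgroup

universe u v

variable {G : Type u} [Group G] {H : Type v} [Group H]

/-- **The core has no field part at `t`.** -/
theorem core_free {A : Type*} [CommGroup A] {z t g s : G} {C₀ K : Subgroup G}
    (χ : centralizer ({z} : Set G) →* A)
    (hC₀ : ∀ x (hx : x ∈ centralizer ({z} : Set G)), x ∈ C₀ ↔ χ ⟨x, hx⟩ = 1)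
    (φ : C₀ →* H) (hK : K = φ.ker.map C₀.subtype)
    (hKn : ∀ c, Commute z c → ∀ k ∈ K, c * k * c⁻¹ ∈ K) (hKz : ∀ k ∈ K, Commute z k)
    (hgz : g * z * g⁻¹ = t) (hgt : g * t * g⁻¹ = z) (hzt : Commute z t)
    (hs : s ∈ C₀) (hsz : Commute z s) (hst : s * t * s⁻¹ = t * z)
    (htor : ∀ x y : C₀, Commute t (x : G) → Commute t (y : G) → Commute z (x : G) →
      Commute z (y : G) → Commute (φ x) (φ y))
    (hcube : ∀ y : G, Commute z y → Commute t y → y ∉ C₀ →
      ∃ x ∈ C₀, x ∈ centralizer ({z} : Set G) ⊓ centralizer ({t} : Set G) ∧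
        ∀ h : ⁅⁅⁅x, y⁆, y⁆, y⁆ ∈ C₀, φ ⟨_, h⟩ ≠ 1)
    (hsym : ∀ u ∈ ⁅K ⊓ centralizer ({t} : Set G), K ⊓ centralizer ({t} : Set G)⁆,
      (s * g)⁻¹ * u * (s * g) ∈ K → g * u * g⁻¹ ∈ C₀ → g * u * g⁻¹ ∈ K)
    (a : G) (ha : a ∈ K) (hta : Commute t a) : g * a * g⁻¹ ∈ C₀ := by
  have mc : ∀ {e x : G}, x ∈ centralizer ({e} : Set G) ↔ Commute e x := fun {e x} =>
    ⟨fun h => (mem_centralizer_singleton_iff.1 h).symm, fun h => mem_centralizer_singleton_iff.2 h.symm⟩
  have cj : ∀ (k e e' x : G), k * e * k⁻¹ = e' → Commute e x → Commute e' (k * x * k⁻¹) := by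
    intro k e e' x he h
    have h' := h.map (MulAut.conj k)
    simp only [MulAut.conj_apply, he] at h'
    exact h'
  have cjinv : ∀ (k e e' x : G), k * e * k⁻¹ = e' → Commute e' x → Commute e (k⁻¹ * x * k) := by
    intro k e e' x he h
    have h' := cj k⁻¹ e' e x (by rw [← he]; group) h
    simpa using h'
  -- commutators in the centraliser of `z` lie in `C₀`
  have hcomm : ∀ x y, Commute z x → Commute z y → ⁅x, y⁆ ∈ C₀ := by
    intro x y hx hy
    have hxy : ⁅x, y⁆ ∈ centralizer ({z} : Set G) :=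
      mc.2 (((hx.mul_right hy).mul_right hx.inv_right).mul_right hy.inv_right)
    rw [hC₀ _ hxy, show (⟨⁅x, y⁆, hxy⟩ : centralizer ({z} : Set G)) = ⁅(⟨x, mc.2 hx⟩ : centralizer ({z} : Set G)), (⟨y, mc.2 hy⟩ : centralizer ({z} : Set G))⁆ from
      Subtype.ext rfl, map_commutatorElement, commutatorElement_eq_one_iff_commute]
    exact Commute.all _ _
  have hKC : ∀ k ∈ K, k ∈ C₀ := fun k hk => by
    rw [hK] at hk; obtain ⟨x, -, rfl⟩ := hk; exact x.2
  have hKφ : ∀ k (h : k ∈ C₀), k ∈ K ↔ φ ⟨k, h⟩ = 1 := fun k h => by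
    rw [hK]
    exact ⟨fun ⟨x, hx, e⟩ => (congrArg φ (show x = (⟨k, h⟩ : C₀) from Subtype.ext e)).symm.trans hx,
      fun e => ⟨⟨k, h⟩, e, rfl⟩⟩
  by_contra hy0
  set y := g * a * g⁻¹ with hy
  set W := K ⊓ centralizer ({t} : Set G) with hW
  set Y := W.map (MulAut.conj g).toMonoidHom with hYdef
  have haW : a ∈ W := ⟨ha, mc.2 hta⟩
  have hzy : Commute z y := cj g t z a hgt hta
  have hty : Commute t y := cj g z t a hgz (hKz a ha)
  obtain ⟨x, hx, ⟨hxz', hxt'⟩, hne⟩ := hcube y hzy hty hy0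
  have hzx : Commute z x := mc.1 hxz'
  have htx : Commute t x := mc.1 hxt'
  -- `Y` is normalised by `C(z) ∩ C(t)`
  have hYn : ∀ w, Commute z w → Commute t w → ∀ m ∈ Y, w * m * w⁻¹ ∈ Y := by
    rintro w hzw htw _ ⟨k, ⟨hk, hkt⟩, rfl⟩
    have h1 : Commute z (g⁻¹ * w * g) := cjinv g z t w hgz htw
    have h2 : Commute t (g⁻¹ * w * g) := cjinv g t z w hgt hzw
    refine ⟨(g⁻¹ * w * g) * k * (g⁻¹ * w * g)⁻¹, ⟨hKn _ h1 k hk, mc.2 ?_⟩, ?_⟩
    · exact ((h2.mul_right (mc.1 hkt)).mul_right h2.inv_right)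
    · simp only [MulEquiv.coe_toMonoidHom, MulAut.conj_apply]
      group
  have hYY : ∀ w, Commute z w → Commute t w → ∀ m ∈ ⁅Y, Y⁆, w * m * w⁻¹ ∈ ⁅Y, Y⁆ := by
    intro w hzw htw m hm
    have hle : Y.map (MulAut.conj w).toMonoidHom ≤ Y := by
      rintro _ ⟨m', hm', rfl⟩; exact hYn w hzw htw m' hm'
    exact commutator_mono hle hle
      (map_commutator Y Y (MulAut.conj w).toMonoidHom ▸ mem_map_of_mem (MulAut.conj w).toMonoidHom hm)
  have hyY : y ∈ Y := ⟨a, haW, rfl⟩
  have hxy : ⁅x, y⁆ ∈ Y := by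
    rw [commutatorElement_def]; exact Y.mul_mem (hYn x hzx htx y hyY) (Y.inv_mem hyY)
  have hh : ⁅⁅x, y⁆, y⁆ ∈ ⁅Y, Y⁆ := commutator_mem_commutator hxy hyY
  set h := ⁅⁅x, y⁆, y⁆ with hhdef
  have hzc : Commute z ⁅x, y⁆ := ((hzx.mul_right hzy).mul_right hzx.inv_right).mul_right hzy.inv_right
  have htc : Commute t ⁅x, y⁆ := ((htx.mul_right hty).mul_right htx.inv_right).mul_right hty.inv_right
  have hzh : Commute z h := ((hzc.mul_right hzy).mul_right hzc.inv_right).mul_right hzy.inv_right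
  have hth : Commute t h := ((htc.mul_right hty).mul_right htc.inv_right).mul_right hty.inv_right
  have hh0 : h ∈ C₀ := hcomm _ _ hzc hzy
  -- the conjugate of `y` in the core of `t z`
  set y'' := s * y * s⁻¹ with hy''
  have hs2 : (s * g) * z * (s * g)⁻¹ = t * z := by
    rw [← hst, ← hgz]; group
  have hgtz : g * (t * z) * g⁻¹ = t * z :=
    calc g * (t * z) * g⁻¹ = (g * t * g⁻¹) * (g * z * g⁻¹) := by group
      _ = t * z := by rw [hgt, hgz, hzt.eq]
  have hzy'' : Commute z y'' := (hsz.mul_right hzy).mul_right hsz.inv_right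
  have hty'' : Commute t y'' := by
    have h1 : Commute (t * z) y'' := cj s t (t * z) y hst hty
    have h2 := h1.mul_left hzy''.inv_left
    rwa [mul_inv_cancel_right] at h2
  set c := ⁅h, y''⁆ with hc
  have hcY : c ∈ ⁅Y, Y⁆ := by
    rw [hc, commutatorElement_def, mul_assoc, mul_assoc, ← mul_assoc y'']
    exact mul_mem hh (hYY y'' hzy'' hty'' _ (inv_mem hh))
  have hc0 : c ∈ C₀ := hcomm _ _ hzh hzy''
  -- `c` lies in the core of `t z`, and so does its preimage under `g`
  have hK2n : ∀ w, Commute (t * z) w → ∀ m, (s * g)⁻¹ * m * (s * g) ∈ K →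
      (s * g)⁻¹ * (w * m * w⁻¹) * (s * g) ∈ K := by
    intro w hw m hm
    have := hKn _ (cjinv (s * g) z (t * z) w hs2 hw) _ hm
    convert this using 1
    group
  have hy''2 : (s * g)⁻¹ * y'' * (s * g) ∈ K := by
    convert ha using 1
    rw [hy'', hy]; group
  have hc2 : (s * g)⁻¹ * c * (s * g) ∈ K := by
    have := K.mul_mem (hK2n h (hth.mul_left hzh) y'' hy''2) (K.inv_mem hy''2)
    convert this using 1
    rw [hc, commutatorElement_def]; group
  have hu2 : (s * g)⁻¹ * (g⁻¹ * c * g) * (s * g) ∈ K := by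
    have hg' : Commute (t * z) g⁻¹ := by
      have h1 : g * (t * z) = t * z * g := by rw [← mul_inv_eq_iff_eq_mul, hgtz]
      exact Commute.inv_right h1.symm
    simpa using hK2n g⁻¹ hg' c hc2
  have huW : g⁻¹ * c * g ∈ ⁅W, W⁆ := by
    rw [← map_commutator] at hcY
    obtain ⟨u, hu, hue⟩ := hcY
    simp only [MulEquiv.coe_toMonoidHom, MulAut.conj_apply] at hue
    rw [← hue]
    simpa [mul_assoc] using hu
  have hcK : c ∈ K := by
    have := hsym _ huW hu2
    simp only [mul_assoc, mul_inv_cancel_left, mul_inv_cancel, mul_one] at this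
    exact this hc0
  -- but its image is that of the triple commutator
  set e := ⁅y⁻¹, s⁆ with he
  have hye : y'' = y * e := by rw [hy'', he, commutatorElement_def]; group
  have he0 : e ∈ C₀ := hcomm _ _ hzy.inv_right hsz
  have hze : Commute z e := ((hzy.inv_right.mul_right hsz).mul_right hzy.inv_right.inv_right).mul_right
    hsz.inv_right
  have hte : Commute t e := by
    have h1 := hty.inv_right.mul_right hty''
    rwa [hye, inv_mul_cancel_left] at h1
  have hhe : ⁅h, e⁆ ∈ K := by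
    rw [hKφ _ (hcomm _ _ hzh hze),
      show (⟨⁅h, e⁆, hcomm _ _ hzh hze⟩ : C₀) = ⁅(⟨h, hh0⟩ : C₀), (⟨e, he0⟩ : C₀)⁆ from Subtype.ext rfl,
      map_commutatorElement, commutatorElement_eq_one_iff_commute]
    exact htor ⟨h, hh0⟩ ⟨e, he0⟩ hth hte hzh hze
  have hfin : ⁅h, y⁆ ∈ K := by
    have hid : ⁅h, y⁆ = c * (y * ⁅h, e⁆ * y⁻¹)⁻¹ := by
      rw [hc, hye]; simp only [commutatorElement_def]; group
    rw [hid]
    exact K.mul_mem hcK (K.inv_mem (hKn y hzy _ hhe))
  exact hne (hKC _ hfin) ((hKφ _ (hKC _ hfin)).1 hfin)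

/-- When no core element fixed by `t` is invisible at `t`, the core has no field part at `t`. -/
theorem core_free_of_invisible {A : Type*} [CommGroup A] {z t g s : G} {C₀ K : Subgroup G}
    (χ : centralizer ({z} : Set G) →* A)
    (hC₀ : ∀ x (hx : x ∈ centralizer ({z} : Set G)), x ∈ C₀ ↔ χ ⟨x, hx⟩ = 1)
    (φ : C₀ →* H) (hK : K = φ.ker.map C₀.subtype)
    (hKn : ∀ c, Commute z c → ∀ k ∈ K, c * k * c⁻¹ ∈ K) (hKz : ∀ k ∈ K, Commute z k)
    (hgz : g * z * g⁻¹ = t) (hgt : g * t * g⁻¹ = z) (hzt : Commute z t)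
    (hs : s ∈ C₀) (hsz : Commute z s) (hst : s * t * s⁻¹ = t * z)
    (htor : ∀ x y : C₀, Commute t (x : G) → Commute t (y : G) → Commute z (x : G) →
      Commute z (y : G) → Commute (φ x) (φ y))
    (hcube : ∀ y : G, Commute z y → Commute t y → y ∉ C₀ →
      ∃ x ∈ C₀, x ∈ centralizer ({z} : Set G) ⊓ centralizer ({t} : Set G) ∧
        ∀ h : ⁅⁅⁅x, y⁆, y⁆, y⁆ ∈ C₀, φ ⟨_, h⟩ ≠ 1)
    (hinvis : ∀ k ∈ K, g * k * g⁻¹ ∈ K → k = 1)
    (a : G) (ha : a ∈ K) (hta : Commute t a) : g * a * g⁻¹ ∈ C₀ := by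
  refine core_free χ hC₀ φ hK hKn hKz hgz hgt hzt hs hsz hst htor hcube (fun u hu hu2 _ => ?_) a ha hta
  have huK : u ∈ K := commutator_le_self K (commutator_mono inf_le_left inf_le_left hu)
  have h1 := hKn s⁻¹ hsz.inv_right u huK
  rw [inv_inv] at h1
  have hk : g * ((s * g)⁻¹ * u * (s * g)) * g⁻¹ = s⁻¹ * u * s := by group
  have he := hinvis _ hu2 (hk ▸ h1)
  have hu1 : u = 1 := by
    have h := congrArg (fun x => (s * g) * x * (s * g)⁻¹) he
    simpa [mul_assoc] using h
  simp [hu1]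

/-- **Counting the point kernels.**  Every element outside `B` lies in at most one point kernel; no kernel
is smaller than `B`; the permutation `σ` of the points moves `u` out of `B`. -/
theorem false_of_point_kernels {A : Type*} [Group A] [Finite A] {X : Type*} [Finite X] (B : Subgroup A)
    (Kp : X → Subgroup A) (σ : A ≃* A) (σX : X → X) (hσX : Function.Injective σX)
    (hσ : ∀ v a, a ∈ Kp v → σ a ∈ Kp (σX v)) (hB : ∀ v, Nat.card B ≤ Nat.card (Kp v))
    (hone : ∀ a, a ∉ B → ∀ v w, a ∈ Kp v → a ∈ Kp w → v = w) {u : A} (huB : u ∉ B)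
    (hu : σ.symm u ∈ B) {p : X} (hp : u ∈ Kp p)
    (hcard : 2 * Nat.card A < (Nat.card X + 1) * Nat.card B) : False := by
  classical
  haveI := Fintype.ofFinite X
  haveI := Fintype.ofFinite A
  have hSB : ∀ v, Kp v = B → σX v = p := fun v hv => by
    have h := hσ v (σ.symm u) (hv.symm ▸ hu)
    rw [σ.apply_symm_apply] at h
    exact hone u huB _ _ h hp
  set S := Finset.univ.filter fun v => Kp v ≠ B with hS
  have hScard : Nat.card X ≤ S.card + 1 := by
    rw [Nat.card_eq_fintype_card, ← Finset.card_univ,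
      ← Finset.card_filter_add_card_filter_not (s := Finset.univ) (fun v => Kp v ≠ B)]
    refine Nat.add_le_add_left (Finset.card_le_one.2 fun v hv w hw => ?_) _
    simp only [Finset.mem_filter, not_not] at hv hw
    exact hσX ((hSB v hv.2).trans (hSB w hw.2).symm)
  let out : X → Finset A := fun v => Finset.univ.filter fun a => a ∈ Kp v ∧ a ∉ B
  have hdisj : (S : Set X).PairwiseDisjoint out := fun v _ w _ hvw => Finset.disjoint_left.2 fun a hv hw => by
    simp only [out, Finset.mem_filter] at hv hw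
    exact hvw (hone a hv.2.2 _ _ hv.2.1 hw.2.1)
  have hcount : (S.biUnion out).card + Nat.card B ≤ Nat.card A := by
    rw [Nat.card_eq_fintype_card (α := A), ← Finset.card_univ,
      ← Finset.card_filter_add_card_filter_not (s := Finset.univ) (fun a => a ∉ B)]
    refine Nat.add_le_add (Finset.card_le_card fun a ha => ?_) (le_of_eq ?_)
    · simp only [out, Finset.mem_biUnion, Finset.mem_filter] at ha ⊢
      obtain ⟨v, -, hv⟩ := ha
      exact ⟨Finset.mem_univ _, hv.2.2⟩
    · rw [Nat.card_eq_fintype_card, Fintype.card_subtype]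
      congr 1
      ext a
      simp
  have hout : ∀ v ∈ S, Nat.card B ≤ 2 * (out v).card := by
    intro v hv
    have hv' : Kp v ≠ B := by simpa [hS] using hv
    set I := B.subgroupOf (Kp v) with hI
    have hIne : I ≠ ⊤ := fun h => hv' (eq_of_le_of_card_ge (subgroupOf_eq_top.1 h) (hB v))
    have hout' : Nat.card {a : Kp v // a ∉ I} = (out v).card := by
      rw [← Fintype.card_coe, ← Nat.card_eq_fintype_card]
      exact Nat.card_congr
        ⟨fun a => ⟨a.1.1, Finset.mem_filter.2 ⟨Finset.mem_univ _, a.1.2, a.2⟩⟩,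
          fun a => ⟨⟨a.1, (Finset.mem_filter.1 a.2).2.1⟩, (Finset.mem_filter.1 a.2).2.2⟩,
          fun _ => rfl, fun _ => rfl⟩
    have hsplit : Nat.card I + (out v).card = Nat.card (Kp v) := by
      rw [← hout', ← Nat.card_sum]
      exact Nat.card_congr (Equiv.sumCompl (fun a : Kp v => a ∈ I))
    have h2 : 2 * Nat.card I ≤ Nat.card (Kp v) := by
      have h3 := I.card_mul_index
      have h4 : 1 < I.index := one_lt_index_of_ne_top hIne
      rw [← h3, mul_comm]
      exact Nat.mul_le_mul_left _ h4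
    have := hB v
    omega
  have hsum : S.card * Nat.card B ≤ 2 * (S.biUnion out).card := by
    rw [Finset.card_biUnion hdisj, Finset.mul_sum, ← smul_eq_mul, ← Finset.sum_const]
    exact Finset.sum_le_sum hout
  nlinarith [Nat.mul_le_mul_right (Nat.card B) hScard]

end Cfsg.Agent.SDKeystone.Budget
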