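import Mathlib
import Cfsg.Agent.EqLemmas

/-!
# Integers of small variance

`exists_center` : at least six integers with squared deviation from the mean below two sum to a
little after subtracting a suitable integer.
-/

set_option autoImplicit false

namespace Cfsg.Agent.SDKeystone.Budget

/-- Integers of small variance are near a single integer. -/
theorem exists_center {α : Type*} (s : Finset α) (m : α → ℤ) (hk : 6 ≤ s.card)
    (hV : ∑ x ∈ s, ((m x : ℝ) - (∑ y ∈ s, (m y : ℝ)) / s.card) ^ 2 < 2) :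
    (∀ x ∈ s, ∀ y ∈ s, |m x - m y| ≤ 1) ∧ ∃ c : ℤ, ∀ e : ℝ, e ≤ ∑ x ∈ s, |(m x : ℝ) - c| →
      (s.card ≤ 8 → e ≤ 2) → e ≤ 3 / 2 * ∑ x ∈ s, ((m x : ℝ) - (∑ y ∈ s, (m y : ℝ)) / s.card) ^ 2 := by
  classical
  obtain ⟨a, ha⟩ : ∃ a : ℝ, a = (∑ y ∈ s, (m y : ℝ)) / s.card := ⟨_, rfl⟩
  rw [← ha] at hV ⊢
  have hdiff : ∀ x ∈ s, ∀ y ∈ s, |m x - m y| ≤ 1 := by
    intro x hx y hy
    by_contra hlt
    push Not at hlt
    have hne : x ≠ y := fun h => by subst h; simp at hlt
    have h2 : ((m x : ℝ) - a) ^ 2 + ((m y : ℝ) - a) ^ 2 ≤ ∑ z ∈ s, ((m z : ℝ) - a) ^ 2 := by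
      rw [← Finset.sum_pair hne (f := fun z => ((m z : ℝ) - a) ^ 2)]
      exact Finset.sum_le_sum_of_subset_of_nonneg (by simp [Finset.insert_subset_iff, hx, hy])
        fun _ _ _ => sq_nonneg _
    have h4 : (4 : ℝ) ≤ ((m x : ℝ) - (m y : ℝ)) ^ 2 := by
      have : (4 : ℤ) ≤ (m x - m y) ^ 2 := by nlinarith [sq_abs (m x - m y)]
      exact_mod_cast this
    nlinarith [sq_nonneg ((m x : ℝ) + m y - 2 * a)]
  refine ⟨hdiff, ?_⟩
  obtain ⟨x0, hx0, hmin⟩ := s.exists_min_image m (Finset.card_pos.1 (by omega))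
  have hb : ∀ x ∈ s, (m x : ℝ) = m x0 + if m x = m x0 then 0 else 1 := by
    intro x hx
    split_ifs with h
    · rw [h, add_zero]
    · have : m x = m x0 + 1 := by
        have := hmin x hx
        have := (abs_le.1 (hdiff x hx x0 hx0)).2
        omega
      rw [this, Int.cast_add, Int.cast_one]
  obtain ⟨p, hp⟩ : ∃ p : ℕ, p = (s.filter fun x => m x = m x0).card := ⟨_, rfl⟩
  obtain ⟨j, hj⟩ : ∃ j : ℕ, j = (s.filter fun x => ¬ m x = m x0).card := ⟨_, rfl⟩
  have hpj : p + j = s.card := by rw [hp, hj, Finset.card_filter_add_card_filter_not]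
  have hsum : ∀ F : ℝ → ℝ, ∑ x ∈ s, F (m x : ℝ) = p * F (m x0) + j * F ((m x0 : ℝ) + 1) := by
    intro F
    rw [← Finset.sum_filter_add_sum_filter_not s (fun x => m x = m x0), hp, hj]
    congr 1
    · rw [Finset.sum_congr rfl fun x hx => show F (m x : ℝ) = F (m x0 : ℝ) by rw [(Finset.mem_filter.1 hx).2],
        Finset.sum_const, nsmul_eq_mul]
    · rw [Finset.sum_congr rfl fun x hx => show F (m x : ℝ) = F ((m x0 : ℝ) + 1) by
        obtain ⟨hxs, hne⟩ := Finset.mem_filter.1 hx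
        rw [hb x hxs, if_neg hne], Finset.sum_const, nsmul_eq_mul]
  have hk0 : (0 : ℝ) < (s.card : ℝ) := by exact_mod_cast (show 0 < s.card by omega)
  have hkr : (p : ℝ) + j = (s.card : ℝ) := by exact_mod_cast hpj
  have hS : a = (m x0 : ℝ) + j / s.card := by
    rw [ha, hsum fun z => z, eq_comm, eq_div_iff hk0.ne', add_mul, div_mul_cancel₀ _ hk0.ne', ← hkr]
    ring
  have hVal : ∑ x ∈ s, ((m x : ℝ) - a) ^ 2 = p * j / s.card := by
    rw [hsum fun z => (z - a) ^ 2, hS, eq_div_iff hk0.ne', ← hkr]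
    have : (p : ℝ) + j ≠ 0 := by rw [hkr]; exact hk0.ne'
    field_simp
    ring
  rw [hVal] at hV ⊢
  have main : ∀ u w : ℕ, u + w = s.card → u ≤ w → (w : ℝ) * u / s.card < 2 → ∀ e : ℝ, e ≤ (u : ℝ) →
      (s.card ≤ 8 → e ≤ 2) → e ≤ 3 / 2 * ((w : ℝ) * u / s.card) := by
    intro u w huw hle hlt e he h8
    rw [mul_div_assoc', le_div_iff₀ hk0]
    rw [div_lt_iff₀ hk0] at hlt
    have hlt' : w * u < 2 * s.card := by exact_mod_cast hlt
    rcases Nat.lt_or_ge u 3 with h3 | h3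
    · interval_cases u
      · norm_num at he ⊢; exact mul_nonpos_of_nonpos_of_nonneg he hk0.le
      · have : (6 : ℝ) ≤ s.card := by exact_mod_cast hk
        have : (w : ℝ) = (s.card : ℝ) - 1 := by rw [eq_sub_iff_add_eq, add_comm]; exact_mod_cast huw
        rw [this]; norm_num at he ⊢; nlinarith
      · have : (6 : ℝ) ≤ s.card := by exact_mod_cast hk
        have : (w : ℝ) = (s.card : ℝ) - 2 := by rw [eq_sub_iff_add_eq, add_comm]; exact_mod_cast huw
        rw [this]; norm_num at he ⊢; nlinarith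
    · have h3w : w * 3 ≤ w * u := Nat.mul_le_mul_left _ h3
      have hbig : 3 * (s.card - 3) ≤ w * u := by
        zify [show 3 ≤ s.card by omega]
        have : (s.card : ℤ) = u + w := by exact_mod_cast huw.symm
        nlinarith [mul_nonneg (show (0 : ℤ) ≤ (u : ℤ) - 3 by omega) (show (0 : ℤ) ≤ (w : ℤ) - 3 by omega)]
      have hw8 : s.card ≤ 8 := by omega
      have hbig' : (3 : ℝ) * s.card ≤ (w : ℝ) * u + 9 := by
        exact_mod_cast (show 3 * s.card ≤ w * u + 9 by omega)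
      have : (6 : ℝ) ≤ s.card := by exact_mod_cast hk
      have : e * (s.card : ℝ) ≤ 2 * s.card := mul_le_mul_of_nonneg_right (h8 hw8) hk0.le
      linarith
  rcases Nat.le_total j p with h | h
  · refine ⟨m x0, fun e he h8 => main j p (by omega) h hV e (he.trans_eq ?_) h8⟩
    rw [hsum fun z => |z - (m x0 : ℝ)|]
    simp
  · refine ⟨m x0 + 1, fun e he h8 => ?_⟩
    rw [mul_comm (p : ℝ)] at hV ⊢
    refine main p j hpj h hV e (he.trans_eq ?_) h8
    rw [hsum fun z => |z - ((m x0 + 1 : ℤ) : ℝ)|]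
    simp

end Cfsg.Agent.SDKeystone.Budget
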