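import Cfsg.Agent.Lib.SDKeystone.Budget.DeviationTwist
import Cfsg.Agent.Lib.SDKeystone.Budget.DeviationInt

/-!
# Deviation of a restriction from its averages over twists

For `K` normal in `T` with abelian quotient, `trivHoms K` are the linear characters trivial on `K`.

* `apply_eq_sum_dev` : outside `K` the restriction is given by the deviations;
* `sum_dev_lt`, `sum_var_lt` : if the elements of `T` outside `K` are trivially intersecting with a normaliser of
  at most twice the order of `T`, the variances of the multiplicities in a restriction, over all orbits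
  of twists, sum to less than `2 * index K`.
-/

set_option autoImplicit false
set_option linter.unusedSectionVars false
set_option linter.style.haveILetI false

open scoped ComplexConjugate

namespace Cfsg.Agent.SDKeystone.Budget

open Cfsg Cfsg.Agent.Char

variable {Γ : Type*} [Group Γ] [Fintype Γ]

theorem hom_normSq (l : Γ →* ℂ) (x : Γ) : l x * conj (l x) = 1 := by
  rw [← IsCharacter.apply_inv (isCharacter_of_hom l), ← map_mul, mul_inv_cancel, map_one]

/-- The conjugate linear character. -/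
noncomputable def conjHom (l : Γ →* ℂ) : Γ →* ℂ := (starRingEnd ℂ).toMonoidHom.comp l

@[simp] theorem conjHom_apply (l : Γ →* ℂ) (x : Γ) : conjHom l x = conj (l x) := rfl

/-- The product of two linear characters. -/
def mulHom (l l' : Γ →* ℂ) : Γ →* ℂ := l * l'

@[simp] theorem mulHom_apply (l l' : Γ →* ℂ) (x : Γ) : mulHom l l' x = l x * l' x := rfl

/-- The twist of irreducible characters by a linear character. -/
noncomputable def twistIrr (l : Γ →* ℂ) : IrrCharacter Γ ≃ IrrCharacter Γ where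
  toFun θ := ⟨fun g => (θ : Γ → ℂ) g * l g, IsIrrCharacter.mul_linear θ.2 l⟩
  invFun θ := ⟨fun g => (θ : Γ → ℂ) g * conjHom l g, IsIrrCharacter.mul_linear θ.2 _⟩
  left_inv θ := Subtype.ext (funext fun g => by
    show (θ : Γ → ℂ) g * l g * conjHom l g = _
    rw [conjHom_apply, mul_assoc, hom_normSq, mul_one])
  right_inv θ := Subtype.ext (funext fun g => by
    show (θ : Γ → ℂ) g * conjHom l g * l g = _
    rw [conjHom_apply, mul_assoc, mul_comm (conj _), hom_normSq, mul_one])

@[simp] theorem twistIrr_apply (l : Γ →* ℂ) (θ : IrrCharacter Γ) (g : Γ) :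
    (twistIrr l θ : Γ → ℂ) g = (θ : Γ → ℂ) g * l g := rfl

/-- The linear characters trivial on `K`. -/
def TrivHom (K : Subgroup Γ) : Type _ := {l : Γ →* ℂ // ∀ x ∈ K, l x = 1}

variable {K : Subgroup Γ}

/-- Multiplication by a member. -/
noncomputable def shiftHom (a : TrivHom K) : TrivHom K ≃ TrivHom K where
  toFun b := ⟨mulHom a.1 b.1, fun x hx => by rw [mulHom_apply, a.2 x hx, b.2 x hx, mul_one]⟩
  invFun b := ⟨mulHom (conjHom a.1) b.1, fun x hx => by
    rw [mulHom_apply, conjHom_apply, a.2 x hx, b.2 x hx, map_one, mul_one]⟩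
  left_inv b := Subtype.ext (MonoidHom.ext fun x => by
    show conj (a.1 x) * (a.1 x * b.1 x) = b.1 x
    rw [← mul_assoc, mul_comm (conj _), hom_normSq, one_mul])
  right_inv b := Subtype.ext (MonoidHom.ext fun x => by
    show a.1 x * (conj (a.1 x) * b.1 x) = b.1 x
    rw [← mul_assoc, hom_normSq, one_mul])

variable (hab : ∀ x y : Γ, x * y * x⁻¹ * y⁻¹ ∈ K)
include hab

/-- The linear characters trivial on `K` are the characters trivial on `K`. -/
noncomputable def trivHomEquiv : TrivHom K ≃ {β // β ∈ trivChars K} :=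
  Equiv.ofBijective (fun l => ⟨⟨l.1, isIrrCharacter_of_hom l.1⟩, mem_trivChars_of_hom l.1 l.2⟩)
    ⟨fun a b h => Subtype.ext (DFunLike.coe_injective (congrArg Subtype.val (congrArg Subtype.val h))),
      fun β => by
        obtain ⟨l, hl, hlK⟩ := trivChars_hom hab β.2
        exact ⟨⟨l, hlK⟩, Subtype.ext (Subtype.ext hl)⟩⟩

theorem finite_trivHom : Finite (TrivHom K) := Finite.of_equiv _ (trivHomEquiv hab).symm

theorem card_trivHom [K.Normal] [Fintype (TrivHom K)] : Fintype.card (TrivHom K) = K.index := by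
  rw [Fintype.card_congr (trivHomEquiv hab), Fintype.card_coe, card_trivChars hab]

open scoped Classical in
theorem sum_trivHom_conj [K.Normal] [Fintype (TrivHom K)] (x : Γ) :
    ∑ l : TrivHom K, conj (l.1 x) = if x ∈ K then (K.index : ℂ) else 0 := by
  rw [← sum_trivChars_conj hab x, ← Finset.sum_coe_sort (trivChars K)]
  exact Fintype.sum_equiv (trivHomEquiv hab) _ _ fun l => rfl

omit hab

section variance

variable {C : Type*} [Group C] [Fintype C] {T : Subgroup C} [Fintype T] {K : Subgroup T}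

/-- The multiplicities of a restriction at the twists of `θ`. -/
noncomputable def twistMult (ψ : C → ℂ) (θ : IrrCharacter T) (l : TrivHom K) : ℂ :=
  classInner (fun x : T => ψ x) (twistIrr l.1 θ : T → ℂ)

/-- The multiplicity less its mean over twists. -/
noncomputable def twistDev [Fintype (TrivHom K)] (ψ : C → ℂ) (θ : IrrCharacter T) : ℂ :=
  classInner (fun x : T => ψ x) (θ : T → ℂ) - (∑ l : TrivHom K, twistMult ψ θ l) / (K.index : ℂ)

theorem twistDev_twist [Fintype (TrivHom K)] (ψ : C → ℂ) (θ : IrrCharacter T) (l : TrivHom K) :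
    twistDev (K := K) ψ (twistIrr l.1 θ) =
      twistMult ψ θ l - (∑ l' : TrivHom K, twistMult ψ θ l') / (K.index : ℂ) := by
  rw [twistDev, ← Equiv.sum_comp (shiftHom l) (twistMult ψ θ)]
  refine congrArg (fun S : ℂ => twistMult ψ θ l - S / (K.index : ℂ)) (Finset.sum_congr rfl fun l' _ => ?_)
  refine congrArg (classInner _) (funext fun x => ?_)
  show (θ : T → ℂ) x * l.1 x * l'.1 x = (θ : T → ℂ) x * (l.1 x * l'.1 x)
  ring

/-- The deviations from the means are small. -/
theorem sum_dev_lt [K.Normal] (hab : ∀ x y : T, x * y * x⁻¹ * y⁻¹ ∈ K) [Fintype (TrivHom K)]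
    [Fintype (IrrCharacter T)] {M : Subgroup C} (hM : Nat.card M ≤ 2 * Nat.card T)
    (hti : ∀ (h : C) (x x' : T), x ∉ K → h * x * h⁻¹ = x' → h ∈ M)
    {ψ : C → ℂ} (hψ : IsIrrCharacter C ψ) :
    ∑ θ : IrrCharacter T, ‖twistDev (K := K) ψ θ‖ ^ 2 < 2 := by
  classical
  obtain ⟨F, hF⟩ : ∃ F : T → ℂ, F = fun x => if x ∈ K then 0 else ψ x := ⟨_, rfl⟩
  have hψc := IsIrrCharacter.isClassFunction hψ
  have hFc : IsClassFunction T F := fun x g => by
    simp only [hF]
    refine if_congr ⟨fun h => ?_, fun h => Subgroup.Normal.conj_mem ‹_› _ h g⟩ rfl ?_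
    · simpa [mul_assoc] using Subgroup.Normal.conj_mem ‹_› _ h g⁻¹
    · push_cast; exact hψc x g
  have hk : (K.index : ℂ) ≠ 0 := Nat.cast_ne_zero.2 Subgroup.index_ne_zero_of_finite
  have hcoef : ∀ θ : IrrCharacter T, classInner F (θ : T → ℂ) = classInner (fun x : T => ψ x) (θ : T → ℂ) -
      (∑ l : TrivHom K, twistMult ψ θ l) / (K.index : ℂ) := by
    intro θ
    have h : ∑ l : TrivHom K, twistMult ψ θ l = (K.index : ℂ) *
        classInner (fun x : T => if x ∈ K then ψ x else 0) (θ : T → ℂ) := by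
      simp only [twistMult, classInner, twistIrr_apply, map_mul, ← Finset.mul_sum]
      rw [Finset.sum_comm, mul_left_comm (K.index : ℂ), Finset.mul_sum (a := (K.index : ℂ))]
      congr 1
      refine Finset.sum_congr rfl fun x _ => ?_
      rw [← Finset.mul_sum, ← Finset.mul_sum, sum_trivHom_conj hab]
      split_ifs <;> ring
    rw [h, mul_div_cancel_left₀ _ hk, ← classInner_sub_left]
    congr 1
    funext x
    simp only [hF, Pi.sub_apply]
    split_ifs <;> ring
  simp only [twistDev, ← hcoef]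
  have hpar : ∑ θ : IrrCharacter T, ‖classInner F (θ : T → ℂ)‖ ^ 2 = (Nat.card T : ℝ)⁻¹ * ∑ x : T, ‖F x‖ ^ 2 := by
    have h := classInner_eq_sum hFc F
    simp only [Complex.mul_conj'] at h
    rw [classInner_self_eq] at h
    exact_mod_cast h.symm
  rw [hpar, inv_mul_lt_iff₀ (Nat.cast_pos.2 Nat.card_pos)]
  have hC : ∑ y : C, ‖ψ y‖ ^ 2 = (Nat.card C : ℝ) := by
    have := classInner_irr_self hψ
    rwa [classInner_self_eq, Complex.ofReal_eq_one,
      inv_mul_eq_iff_eq_mul₀ (Nat.cast_ne_zero.mpr Nat.card_pos.ne'), mul_one] at this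
  obtain ⟨p, hp⟩ : ∃ p : C × {x : T // x ∉ K} → C, p = fun a => a.1 * (a.2.1 : C) * a.1⁻¹ := ⟨_, rfl⟩
  have hfib : ∀ y : C, (Finset.univ.filter fun a => p a = y).card ≤ Nat.card M := by
    intro y
    rcases (Finset.univ.filter fun a => p a = y).eq_empty_or_nonempty with he | ⟨a0, ha0⟩
    · rw [he, Finset.card_empty]; exact Nat.zero_le _
    rw [Finset.mem_filter, hp] at ha0
    have hmem : ∀ a ∈ Finset.univ.filter fun a => p a = y, a.1⁻¹ * a0.1 ∈ M := fun a ha => by
      rw [Finset.mem_filter, hp] at ha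
      refine hti _ a0.2.1 a.2.1 a0.2.2 ?_
      have h := ha0.2.trans ha.2.symm
      calc a.1⁻¹ * a0.1 * (a0.2.1 : C) * (a.1⁻¹ * a0.1)⁻¹
          = a.1⁻¹ * (a0.1 * (a0.2.1 : C) * a0.1⁻¹) * a.1 := by group
        _ = (a.2.1 : C) := by rw [show a0.1 * (a0.2.1 : C) * a0.1⁻¹ = _ from h]; group
    rw [Nat.card_eq_fintype_card, ← Finset.card_univ]
    refine Finset.card_le_card_of_injOn (fun a => if h : a.1⁻¹ * a0.1 ∈ M then ⟨_, h⟩ else 1)
      (fun _ _ => Finset.mem_univ _) fun a ha b hb hab' => ?_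
    rw [Finset.mem_coe] at ha hb
    simp only [dif_pos (hmem a ha), dif_pos (hmem b hb), Subtype.mk.injEq, mul_left_inj, inv_inj] at hab'
    rw [Finset.mem_filter, hp] at ha hb
    have h := ha.2.trans hb.2.symm
    simp only [hab', mul_left_inj, mul_right_inj] at h
    exact Prod.ext hab' (Subtype.ext (Subtype.ext h))
  have h1 : ∑ a : C × {x : T // x ∉ K}, ‖ψ (p a)‖ ^ 2 = (Nat.card C : ℝ) * ∑ x : T, ‖F x‖ ^ 2 := by
    rw [Fintype.sum_prod_type, Finset.sum_congr rfl fun g _ => show
        ∑ x : {x : T // x ∉ K}, ‖ψ (p (g, x))‖ ^ 2 = ∑ x : T, ‖F x‖ ^ 2 from by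
      rw [← Finset.sum_subset (Finset.subset_univ (Finset.univ.filter fun x : T => x ∉ K))
        fun x _ hx => by
          have : x ∈ K := by simpa using hx
          simp [hF, this],
        Finset.sum_subtype (p := fun x : T => x ∉ K) _ (fun x => by simp)]
      refine Finset.sum_congr rfl fun x _ => ?_
      simp only [hp, hF, if_neg x.2]
      rw [hψc _ g]]
    rw [Finset.sum_const, Finset.card_univ, nsmul_eq_mul, Nat.card_eq_fintype_card]
  have h2 : ∑ a : C × {x : T // x ∉ K}, ‖ψ (p a)‖ ^ 2 ≤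
      ∑ y ∈ (Finset.univ : Finset C).erase 1, (Nat.card M : ℝ) * ‖ψ y‖ ^ 2 := by
    rw [← Finset.sum_fiberwise_of_maps_to (s := Finset.univ) (t := (Finset.univ : Finset C).erase 1)
      (g := p) (fun a _ => Finset.mem_erase.2 ⟨fun h1 => a.2.2 (by
        have hx : (a.2.1 : C) = 1 := by
          have h := congrArg (fun z => a.1⁻¹ * z * a.1) h1
          simpa [hp, mul_assoc] using h
        rw [show a.2.1 = 1 from Subtype.ext hx]
        exact K.one_mem), Finset.mem_univ _⟩)]
    refine Finset.sum_le_sum fun y _ => ?_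
    rw [Finset.sum_congr rfl fun a ha => by rw [(Finset.mem_filter.1 ha).2], Finset.sum_const, nsmul_eq_mul]
    exact mul_le_mul_of_nonneg_right (Nat.cast_le.2 (hfib y)) (sq_nonneg _)
  have hlt : ∑ y ∈ (Finset.univ : Finset C).erase 1, ‖ψ y‖ ^ 2 < (Nat.card C : ℝ) := by
    have e := Finset.add_sum_erase (Finset.univ : Finset C) (fun y => ‖ψ y‖ ^ 2) (Finset.mem_univ 1)
    have : 0 < ‖ψ 1‖ ^ 2 := pow_pos (norm_pos_iff.2 (IsIrrCharacter.apply_one_ne_zero hψ)) 2
    linarith
  have hM' : (Nat.card M : ℝ) ≤ 2 * (Nat.card T : ℝ) := by exact_mod_cast hM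
  have hT : (0 : ℝ) < (Nat.card T : ℝ) := Nat.cast_pos.2 Nat.card_pos
  have hCp : (0 : ℝ) < (Nat.card C : ℝ) := Nat.cast_pos.2 Nat.card_pos
  rw [h1, ← Finset.mul_sum] at h2
  have h3 := h2.trans_lt ((mul_le_mul_of_nonneg_right hM' (Finset.sum_nonneg fun _ _ => sq_nonneg _)).trans_lt
    ((mul_lt_mul_iff_right₀ (by positivity)).2 hlt))
  nlinarith

/-- Outside `K` the restriction is given by the deviations. -/
theorem apply_eq_sum_dev [K.Normal] (hab : ∀ x y : T, x * y * x⁻¹ * y⁻¹ ∈ K) [Fintype (TrivHom K)]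
    [Fintype (IrrCharacter T)] {ψ : C → ℂ} (hψ : IsClassFunction C ψ) {x : T} (hx : x ∉ K) :
    ψ (x : C) = ∑ θ : IrrCharacter T, twistDev (K := K) ψ θ * (θ : T → ℂ) x := by
  classical
  have hψT : IsClassFunction T (fun y : T => ψ y) := fun y g => by
    show ψ ((g * y * g⁻¹ : T) : C) = ψ y
    push_cast
    exact hψ y g
  have h0 : ∑ θ : IrrCharacter T, (∑ l : TrivHom K, twistMult ψ θ l) * (θ : T → ℂ) x = 0 := by
    simp only [Finset.sum_mul]
    rw [Finset.sum_comm]
    have key : ∀ l : TrivHom K, ∑ θ : IrrCharacter T, twistMult ψ θ l * (θ : T → ℂ) x =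
        ψ (x : C) * conj (l.1 x) := fun l => by
      have e := congrFun (classFunction_eq_sum hψT) x
      simp only [Finset.sum_apply, Pi.smul_apply, smul_eq_mul] at e
      rw [e, Finset.sum_mul, ← Equiv.sum_comp (twistIrr l.1) fun θ : IrrCharacter T =>
        classInner (fun y : T => ψ y) (θ : T → ℂ) * (θ : T → ℂ) x * conj (l.1 x)]
      refine Finset.sum_congr rfl fun θ _ => ?_
      show _ = _ * ((θ : T → ℂ) x * l.1 x) * _
      rw [mul_assoc, mul_assoc ((θ : T → ℂ) x), hom_normSq, mul_one]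
      rfl
    rw [Finset.sum_congr rfl fun l _ => key l, ← Finset.mul_sum, sum_trivHom_conj hab, if_neg hx, mul_zero]
  have e := congrFun (classFunction_eq_sum hψT) x
  simp only [Finset.sum_apply, Pi.smul_apply, smul_eq_mul] at e
  simp only [twistDev, sub_mul, Finset.sum_sub_distrib, div_mul_eq_mul_div, ← Finset.sum_div, h0,
    zero_div, sub_zero]
  exact e

/-- The variances over twists are small. -/
theorem sum_var_lt [K.Normal] (hab : ∀ x y : T, x * y * x⁻¹ * y⁻¹ ∈ K) [Fintype (TrivHom K)]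
    [Fintype (IrrCharacter T)] {M : Subgroup C} (hM : Nat.card M ≤ 2 * Nat.card T)
    (hti : ∀ (h : C) (x x' : T), x ∉ K → h * x * h⁻¹ = x' → h ∈ M)
    {ψ : C → ℂ} (hψ : IsIrrCharacter C ψ) :
    ∑ θ : IrrCharacter T, ∑ l : TrivHom K,
      ‖twistMult ψ θ l - (∑ l' : TrivHom K, twistMult ψ θ l') / (K.index : ℂ)‖ ^ 2 <
        2 * (K.index : ℝ) := by
  simp only [← twistDev_twist]
  rw [Finset.sum_comm, Finset.sum_congr rfl fun (l : TrivHom K) _ =>
    Equiv.sum_comp (twistIrr l.1) fun θ : IrrCharacter T => ‖twistDev (K := K) ψ θ‖ ^ 2,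
    Finset.sum_const, Finset.card_univ, card_trivHom hab, nsmul_eq_mul, mul_comm]
  exact mul_lt_mul_of_pos_right (sum_dev_lt hab hM hti hψ)
    (Nat.cast_pos.2 (Nat.pos_of_ne_zero Subgroup.index_ne_zero_of_finite))

end variance

end Cfsg.Agent.SDKeystone.Budget
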