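import Cfsg.Agent.Lib.SDKeystone.Budget.Setting
import Cfsg.Agent.Lib.SDKeystone.Budget.DeviationGen

/-!
# The deviation core on the setting of the budget

* `torusPre`, `zPre` : the preimage of the torus of `t` and, inside it, that of `Z`;
* `zPre_index`, `zPre_comm`, `tT_notMem` : the quotient is abelian of order `2 ^ n * o`, non-trivial at `t`;
* `dev_lt`, `apply_t_eq` : the deviations of an irreducible character of `C` have square sum below two
  and give its value at `t`.
-/

set_option autoImplicit false
set_option linter.unusedSectionVars false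
set_option linter.style.haveILetI false

open scoped ComplexConjugate

namespace Cfsg.Agent.SDKeystone.Budget

open Subgroup Cfsg Cfsg.Agent.Char

universe u v w

variable {G : Type u} [Group G] [Fintype G] {H : Type v} [Group H] [Finite H] {X : Type w} [MulAction H X]
  {z t g : G} {C : Subgroup G} [Fintype C] {φ : C →* H} {Z : Subgroup H}
  {n q o : ℕ} {δ : ℤ} {b : IrrCharacter G}

namespace Setting

variable (D : Setting X z t g C φ Z n q o δ b)
include D

/-- The preimage of the torus of `t`. -/
def torusPre : Subgroup C := (centralizer ({φ D.tC} : Set H)).comap φ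

/-- The map of the preimage onto the torus. -/
def torusMap : D.torusPre →* centralizer ({φ D.tC} : Set H) :=
  (φ.comp D.torusPre.subtype).codRestrict _ fun x => x.2

theorem torusMap_surjective : Function.Surjective D.torusMap := fun a => by
  obtain ⟨c, hc⟩ := D.surj (a : H)
  exact ⟨⟨c, show φ c ∈ centralizer _ from hc ▸ a.2⟩, Subtype.ext hc⟩

/-- The preimage of `Z` in that of the torus. -/
def zPre : Subgroup D.torusPre := Z.comap (φ.comp D.torusPre.subtype)

theorem zPre_comm (x y : D.torusPre) : x * y * x⁻¹ * y⁻¹ ∈ D.zPre := by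
  show φ ((x * y * x⁻¹ * y⁻¹ : D.torusPre) : C) ∈ Z
  push_cast
  rw [map_mul, map_mul, map_mul, map_inv, map_inv, (D.line.torus_comm _ x.2 _ y.2).eq,
    mul_inv_cancel_right, mul_inv_cancel]
  exact Z.one_mem

theorem zPre_normal : D.zPre.Normal := ⟨fun x hx y => by
  have h : y * x * y⁻¹ * x⁻¹ * x ∈ D.zPre := D.zPre.mul_mem (D.zPre_comm y x) hx
  rwa [inv_mul_cancel_right] at h⟩

theorem Z_le_torus : Z ≤ centralizer ({φ D.tC} : Set H) := fun x hx =>
  mem_centralizer_singleton_iff.2 (D.line.central_Z x hx _).eq

theorem zPre_index : D.zPre.index = 2 ^ n * o := by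
  have e : D.zPre = (Z.subgroupOf (centralizer ({φ D.tC} : Set H))).comap D.torusMap := rfl
  rw [e, index_comap_of_surjective _ D.torusMap_surjective]
  have h := (Z.subgroupOf (centralizer ({φ D.tC} : Set H))).card_mul_index
  rw [Nat.card_congr (subgroupOfEquivOfLe D.Z_le_torus).toEquiv, D.line.card_Z] at h
  exact mul_left_cancel₀ (pow_ne_zero n two_ne_zero) (h.trans D.line.torus_card)

/-- The element `t` of the preimage. -/
def tT : D.torusPre := ⟨D.tC, mem_centralizer_singleton_iff.2 rfl⟩

theorem tT_notMem : D.tT ∉ D.zPre := D.line.t_notMem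

theorem tT_sq : D.tT * D.tT = 1 :=
  Subtype.ext (Subtype.ext (show t * t = 1 by rw [← pow_two, ← D.t2, pow_orderOf_eq_one]))

/-- The preimage of the normaliser of the torus. -/
def normPre : Subgroup C := (normalizer ((centralizer ({φ D.tC} : Set H)) : Set H)).comap φ

theorem card_normPre : Nat.card D.normPre = 2 * Nat.card D.torusPre := by
  have h1 := D.normPre.card_mul_index
  have h2 := D.torusPre.card_mul_index
  have h3 := (normalizer ((centralizer ({φ D.tC} : Set H)) : Set H)).card_mul_index
  have h4 := (centralizer ({φ D.tC} : Set H)).card_mul_index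
  rw [show D.normPre.index = (normalizer ((centralizer ({φ D.tC} : Set H)) : Set H)).index from
    index_comap_of_surjective _ D.surj] at h1
  rw [show D.torusPre.index = (centralizer ({φ D.tC} : Set H)).index from
    index_comap_of_surjective _ D.surj] at h2
  rw [show Nat.card (normalizer ((centralizer ({φ D.tC} : Set H)) : Set H)) =
    2 * Nat.card (centralizer ({φ D.tC} : Set H)) from D.line.torus_norm.trans (by rw [← D.line.torus_card]; rfl)] at h3
  have hI : (centralizer ({φ D.tC} : Set H)).index =
      2 * (normalizer ((centralizer ({φ D.tC} : Set H)) : Set H)).index := by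
    refine mul_left_cancel₀ (Nat.card_pos (α := centralizer ({φ D.tC} : Set H))).ne' ?_
    rw [h4, ← h3]; ring
  rw [hI] at h2
  refine mul_right_cancel₀
    (index_ne_zero_of_finite (H := normalizer ((centralizer ({φ D.tC} : Set H)) : Set H))) ?_
  rw [h1, ← h2]; ring

theorem torus_hti (h : C) (x x' : D.torusPre) (hx : x ∉ D.zPre) (e : h * x * h⁻¹ = x') : h ∈ D.normPre := by
  refine D.line.torus_ti (φ h) (φ x) x.2 hx ?_
  rw [← map_inv, ← map_mul, ← map_mul, e]
  exact x'.2

/-- The square sum of the deviations is below two. -/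
theorem dev_lt [Fintype D.torusPre] [Fintype (TrivHom D.zPre)] [Fintype (IrrCharacter D.torusPre)]
    (ψ : IrrCharacter C) :
    ∑ θ : IrrCharacter D.torusPre, ‖twistDev (K := D.zPre) (ψ : C → ℂ) θ‖ ^ 2 < 2 :=
  haveI := D.zPre_normal
  sum_dev_lt D.zPre_comm D.card_normPre.le D.torus_hti ψ.2

/-- The value at `t` by the deviations. -/
theorem apply_t_eq [Fintype D.torusPre] [Fintype (TrivHom D.zPre)] [Fintype (IrrCharacter D.torusPre)]
    (ψ : IrrCharacter C) :
    (ψ : C → ℂ) D.tC = ∑ θ : IrrCharacter D.torusPre,
      twistDev (K := D.zPre) (ψ : C → ℂ) θ * (θ : D.torusPre → ℂ) D.tT :=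
  haveI := D.zPre_normal
  apply_eq_sum_dev D.zPre_comm (IsIrrCharacter.isClassFunction ψ.2) D.tT_notMem

end Setting

end Cfsg.Agent.SDKeystone.Budget
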