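import Cfsg.Agent.Lib.CharApp.CoprimeFixed
import Cfsg.Agent.Lib.CharApp.Clifford

/-!
# The characters trivial on a normal subgroup with abelian quotient

* `trivChars N` : the irreducible characters trivial on `N`;
* `trivChars_hom`, `card_trivChars`, `sum_trivChars_conj` : they are linear, as many as the index, and
  separate the elements outside `N`;
* `exists_trivChar_eq_neg_one` : one of them is `-1` at an involution outside `N`.
-/

set_option autoImplicit false
set_option linter.unusedSectionVars false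
set_option linter.style.haveILetI false

open scoped ComplexConjugate

namespace Cfsg.Agent.SDKeystone.Budget

open Cfsg Cfsg.Agent.Char

variable {Γ : Type*} [Group Γ] [Fintype Γ]

open scoped Classical in
/-- The irreducible characters trivial on `N`. -/
noncomputable def trivChars (N : Subgroup Γ) : Finset (IrrCharacter Γ) :=
  haveI := Fintype.ofFinite (IrrCharacter Γ)
  Finset.univ.filter fun β => CharApp.TrivOn N (β : Γ → ℂ)

theorem mem_trivChars {N : Subgroup Γ} {β : IrrCharacter Γ} :
    β ∈ trivChars N ↔ CharApp.TrivOn N (β : Γ → ℂ) := by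
  classical
  simp [trivChars]

variable {N : Subgroup Γ} (hab : ∀ x y : Γ, x * y * x⁻¹ * y⁻¹ ∈ N)
include hab

theorem trivChars_hom {β : IrrCharacter Γ} (hβ : β ∈ trivChars N) :
    ∃ l : Γ →* ℂ, ⇑l = (β : Γ → ℂ) ∧ ∀ n ∈ N, l n = 1 := by
  have ht := mem_trivChars.1 hβ
  have h1 := CharApp.degree_one_of_trivOn N hab β.2 ht
  obtain ⟨l, hl⟩ := exists_hom_of_degree_one (IsIrrCharacter.isCharacter β.2) h1
  exact ⟨l, hl, fun n hn => by rw [hl]; exact (ht ⟨n, hn⟩).trans h1⟩

omit hab in
theorem mem_trivChars_of_hom (l : Γ →* ℂ) (hl : ∀ n ∈ N, l n = 1) :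
    (⟨l, isIrrCharacter_of_hom l⟩ : IrrCharacter Γ) ∈ trivChars N :=
  mem_trivChars.2 fun n => by
    show l n = l 1
    rw [hl n n.2, map_one]

open scoped Classical in
theorem sum_trivChars_apply [N.Normal] (x : Γ) :
    ∑ β ∈ trivChars N, (β : Γ → ℂ) x = if x ∈ N then (N.index : ℂ) else 0 := by
  haveI := Fintype.ofFinite (IrrCharacter Γ)
  haveI := Fintype.ofFinite N
  have e := congrFun (CharApp.indFun_one_eq_sum N) x
  rw [Finset.sum_apply] at e
  have hi : indFun N (1 : N → ℂ) x = if x ∈ N then (N.index : ℂ) else 0 := by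
    have hconj : ∀ g : Γ, g⁻¹ * x * g ∈ N ↔ x ∈ N := fun g => by
      refine ⟨fun h => ?_, fun h => ?_⟩
      · simpa [mul_assoc] using Subgroup.Normal.conj_mem ‹_› _ h g
      · simpa [mul_assoc] using Subgroup.Normal.conj_mem ‹_› _ h g⁻¹
    unfold indFun
    split_ifs with hx
    · rw [Finset.sum_congr rfl fun g _ => show extendByZero N (1 : N → ℂ) (g⁻¹ * x * g) = 1 by
        rw [extendByZero_mem _ _ ((hconj g).2 hx), Pi.one_apply]]
      rw [Finset.sum_const, Finset.card_univ, nsmul_one, ← Nat.card_eq_fintype_card,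
        CharApp.card_eq_index_mul N, mul_comm (N.index : ℂ), ← mul_assoc,
        inv_mul_cancel₀ (Nat.cast_ne_zero.2 Nat.card_pos.ne'), one_mul]
    · rw [Finset.sum_eq_zero fun g _ => extendByZero_not_mem _ _ (fun h => hx ((hconj g).1 h)),
        mul_zero]
  rw [← hi, e, trivChars]
  refine Finset.sum_congr (by ext; simp) fun β hβ => ?_
  rw [Pi.smul_apply, CharApp.degree_one_of_trivOn N hab β.2 (Finset.mem_filter.1 hβ).2, one_smul]

theorem card_trivChars [N.Normal] : (trivChars N).card = N.index := by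
  classical
  have h := sum_trivChars_apply hab (1 : Γ)
  rw [if_pos N.one_mem, Finset.sum_congr rfl fun β hβ =>
    CharApp.degree_one_of_trivOn N hab β.2 (mem_trivChars.1 hβ), Finset.sum_const, nsmul_one] at h
  exact_mod_cast h

open scoped Classical in
theorem sum_trivChars_conj [N.Normal] (x : Γ) :
    ∑ β ∈ trivChars N, conj ((β : Γ → ℂ) x) = if x ∈ N then (N.index : ℂ) else 0 := by
  rw [← map_sum, sum_trivChars_apply hab]
  split_ifs <;> simp

theorem exists_trivChar_eq_neg_one [N.Normal] {x : Γ} (hx : x ∉ N) (hx2 : x * x = 1) :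
    ∃ β ∈ trivChars N, (β : Γ → ℂ) x = -1 := by
  classical
  by_contra hno
  push Not at hno
  have h := sum_trivChars_apply hab x
  rw [if_neg hx, Finset.sum_congr rfl fun (β : IrrCharacter Γ) (hβ : β ∈ trivChars N) => show (β : Γ → ℂ) x = 1 by
    obtain ⟨l, hl, -⟩ := trivChars_hom hab hβ
    have h2 : l x * l x = 1 := by rw [← map_mul, hx2, map_one]
    rcases mul_self_eq_one_iff.1 h2 with h | h
    · rw [← hl, h]
    · exact absurd (hl ▸ h) (hno β hβ), Finset.sum_const, nsmul_one, card_trivChars hab] at h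
  exact Subgroup.index_ne_zero_of_finite (by exact_mod_cast h)

end Cfsg.Agent.SDKeystone.Budget
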