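import Cfsg.Agent.Lib.SDKeystone.Budget.DeviationTriv
import Cfsg.Agent.Lib.CharExtend.Coprime
import Cfsg.Agent.Lib.Char.Linear
import Cfsg.Agent.Lib.Char.Integral

/-!
# An involution acting on a normal subgroup of odd order with a two-group quotient

`InvolQuot N t ι` : `N` normal of odd order, `Γ / N` an abelian two-group, `t` an involution and `ι`
an embedding with image the centraliser of `t` in `N`.  For a linear character `l` invariant in
`C(t)` and `θ` irreducible, `twistVal t ι θ l` is the inner product of `y ↦ θ (t (ι y))` with `l`.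

* `InvolQuot.norm_sum` : the Bessel equality;
* `InvolQuot.exists_fixed` : an invariant irreducible character of `N` meeting `l` with odd multiplicity;
* `InvolQuot.twist_bound`, `InvolQuot.twist_res`, `InvolQuot.twist_unique` : the value is of modulus at most
  one, non-zero only where the restriction to `N` is irreducible, and for one `l` only.
-/

set_option autoImplicit false
set_option linter.unusedSectionVars false
set_option linter.style.haveILetI false

open scoped ComplexConjugate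

namespace Cfsg.Agent.SDKeystone.Budget

open Cfsg Cfsg.Agent.Char

variable {Γ : Type*} [Group Γ] [Fintype Γ] {V : Type*} [Group V] [Fintype V]

/-- A normal subgroup of odd order, a two-group quotient and an involution. -/
structure InvolQuot (N : Subgroup Γ) (t : Γ) (ι : V →* Γ) : Prop where
  normal : N.Normal
  odd : ¬ 2 ∣ Nat.card N
  index : ∃ r, N.index = 2 ^ r
  comm : ∀ x y : Γ, x * y * x⁻¹ * y⁻¹ ∈ N
  t_sq : t * t = 1
  inj : Function.Injective ι
  range : ∀ x, (∃ y, ι y = x) ↔ x ∈ N ∧ x * t = t * x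

/-- Invariant in the centraliser of `t`. -/
def CentInv (t : Γ) (ι : V →* Γ) (f : V → ℂ) : Prop :=
  ∀ (c : Γ) (y y' : V), c * t = t * c → c * ι y * c⁻¹ = ι y' → f y' = f y

/-- The inner product of the values at the elements `t y` with `f`. -/
noncomputable def twistVal (t : Γ) (ι : V →* Γ) (θ : Γ → ℂ) (f : V → ℂ) : ℂ :=
  classInner (fun y : V => θ (t * ι y)) f

namespace InvolQuot

variable {N : Subgroup Γ} {t : Γ} {ι : V →* Γ} (Q : InvolQuot N t ι)
include Q

theorem memN (y : V) : ι y ∈ N := ((Q.range _).1 ⟨y, rfl⟩).1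

theorem comm_t (y : V) : ι y * t = t * ι y := ((Q.range _).1 ⟨y, rfl⟩).2

theorem odd_card : Odd (Nat.card N) := Nat.not_even_iff_odd.1 fun h => Q.odd h.two_dvd

theorem exists_commute (x : Γ) : ∃ r ∈ N, (r * x) * t = t * (r * x) := by
  haveI := Q.normal
  obtain ⟨m, hm⟩ : ∃ m, m = t * (x * t * x⁻¹) := ⟨_, rfl⟩
  have hmN : m ∈ N := by
    rw [hm, show t * (x * t * x⁻¹) = t * (x * t * x⁻¹ * t⁻¹) * t⁻¹ * (t * t) by group, Q.t_sq, mul_one]
    exact Q.normal.conj_mem _ (Q.comm x t) t
  have htm : x * t * x⁻¹ = t * m := by rw [hm, ← mul_assoc t t, Q.t_sq, one_mul]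
  have hti : t⁻¹ = t := inv_eq_of_mul_eq_one_left Q.t_sq
  have hinv : t * m * t = m⁻¹ := by
    have h : (t * m) * (t * m) = 1 := by rw [← htm, conj_mul, Q.t_sq, mul_one, mul_inv_cancel]
    refine eq_inv_of_mul_eq_one_left ?_
    rw [← h, mul_assoc (t * m) t m]
  obtain ⟨a, ha⟩ := Q.odd_card
  obtain ⟨r, hr⟩ : ∃ r, r = m ^ (a + 1) := ⟨_, rfl⟩
  have hrN : r ∈ N := hr ▸ N.pow_mem hmN _
  have hr2 : r * r = m := by
    rw [hr, ← pow_add, show a + 1 + (a + 1) = Nat.card N + 1 by omega, pow_succ,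
      orderOf_dvd_iff_pow_eq_one.1 (Subgroup.orderOf_dvd_natCard N hmN), one_mul]
  have hrt : t * r * t = r⁻¹ := by
    rw [hr, show t * m ^ (a + 1) * t = t * m ^ (a + 1) * t⁻¹ by rw [hti], ← conj_pow, hti, hinv, inv_pow]
  refine ⟨r, hrN, ?_⟩
  have h1 : r⁻¹ * t * r = t * m := by
    calc r⁻¹ * t * r = t * r * (t * t) * r := by rw [← hrt]; group
      _ = t * m := by rw [Q.t_sq, mul_one, mul_assoc, hr2]
  rw [← htm] at h1
  have h2 : r * x * t * (r * x)⁻¹ = t := by
    calc r * x * t * (r * x)⁻¹ = r * (x * t * x⁻¹) * r⁻¹ := by group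
      _ = r * (r⁻¹ * t * r) * r⁻¹ := by rw [h1]
      _ = t := by group
  exact mul_inv_eq_iff_eq_mul.1 h2

theorem card_cent : Nat.card (Subgroup.centralizer ({t} : Set Γ)) = N.index * Nat.card V := by
  haveI := Q.normal
  obtain ⟨π, hπ⟩ : ∃ π : Subgroup.centralizer ({t} : Set Γ) →* Γ ⧸ N,
      π = (QuotientGroup.mk' N).comp (Subgroup.centralizer ({t} : Set Γ)).subtype := ⟨_, rfl⟩
  have hsurj : Function.Surjective π := fun q => by
    obtain ⟨x, rfl⟩ := QuotientGroup.mk_surjective q
    obtain ⟨r, hr, hc⟩ := Q.exists_commute x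
    refine ⟨⟨r * x, Subgroup.mem_centralizer_singleton_iff.2 hc⟩, ?_⟩
    rw [hπ]
    show ((r * x : Γ) : Γ ⧸ N) = x
    rw [QuotientGroup.mk_mul, (QuotientGroup.eq_one_iff r).2 hr, one_mul]
  have hk : ∀ c, c ∈ π.ker ↔ (c : Γ) ∈ N := fun c => by
    rw [MonoidHom.mem_ker, hπ]; exact QuotientGroup.eq_one_iff _
  let e : V → π.ker := fun y =>
    ⟨⟨ι y, Subgroup.mem_centralizer_singleton_iff.2 (Q.comm_t y)⟩, (hk _).2 (Q.memN y)⟩
  have hker : Nat.card V = Nat.card π.ker := Nat.card_eq_of_bijective e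
    ⟨fun a b h => Q.inj (congrArg (fun c : π.ker => ((c : Subgroup.centralizer ({t} : Set Γ)) : Γ)) h),
      fun c => by
        obtain ⟨y, hy⟩ := (Q.range _).2 ⟨(hk _).1 c.2, Subgroup.mem_centralizer_singleton_iff.1 c.1.2⟩
        exact ⟨y, Subtype.ext (Subtype.ext hy)⟩⟩
  rw [hker, ← Subgroup.index_mul_card π.ker, Subgroup.index_ker,
    MonoidHom.range_eq_top.2 hsurj, Nat.card_congr Subgroup.topEquiv.toEquiv, ← Subgroup.index_eq_card]

theorem conj_commute {g : Γ} {y y' : V} (h : g * (t * ι y) * g⁻¹ = t * ι y') : g * t = t * g := by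
  have hpow : ∀ y : V, (t * ι y) ^ Nat.card N = t := fun y => by
    obtain ⟨a, ha⟩ := Q.odd_card
    rw [Commute.mul_pow (Q.comm_t y).symm,
      orderOf_dvd_iff_pow_eq_one.1 (Subgroup.orderOf_dvd_natCard N (Q.memN y)), mul_one, ha, pow_succ,
      pow_mul, sq, Q.t_sq, one_pow, one_mul]
  have h2 := congrArg (· ^ Nat.card N) h
  simp only [conj_pow, hpow] at h2
  exact mul_inv_eq_iff_eq_mul.1 h2

/-- The Bessel equality. -/
theorem norm_sum [Fintype (IrrCharacter Γ)] {f : V → ℂ} (hf : CentInv t ι f) :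
    ∑ θ : IrrCharacter Γ, ((Complex.normSq (twistVal t ι (θ : Γ → ℂ) f) : ℝ) : ℂ) =
      (N.index : ℂ) * classInner f f := by
  classical
  obtain ⟨Φ, hΦ⟩ : ∃ Φ : Γ → ℂ,
      Φ = fun x => ∑ g : Γ, ∑ y : V, if g * (t * ι y) * g⁻¹ = x then f y else 0 := ⟨_, rfl⟩
  have hcl : IsClassFunction Γ Φ := fun x a => by
    rw [hΦ]
    show ∑ g : Γ, _ = ∑ g : Γ, _
    rw [← Equiv.sum_comp (Equiv.mulLeft a)]
    refine Finset.sum_congr rfl fun g _ => Finset.sum_congr rfl fun y _ => if_congr ?_ rfl rfl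
    show a * g * (t * ι y) * (a * g)⁻¹ = a * x * a⁻¹ ↔ _
    rw [show a * g * (t * ι y) * (a * g)⁻¹ = a * (g * (t * ι y) * g⁻¹) * a⁻¹ by group,
      mul_left_inj, mul_right_inj]
  have hV : (Nat.card V : ℂ) ≠ 0 := Nat.cast_ne_zero.2 Nat.card_pos.ne'
  have hG : (Nat.card Γ : ℂ) ≠ 0 := Nat.cast_ne_zero.2 Nat.card_pos.ne'
  have hpair : ∀ F : Γ → ℂ, IsClassFunction Γ F →
      classInner F Φ = (Nat.card V : ℂ) * twistVal t ι F f := by
    intro F hF
    have h1 : ∑ x : Γ, F x * conj (Φ x) =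
        (Nat.card Γ : ℂ) * ∑ y : V, F (t * ι y) * conj (f y) := by
      simp only [hΦ, map_sum, apply_ite (starRingEnd ℂ), map_zero, Finset.mul_sum, mul_ite, mul_zero]
      rw [Finset.sum_comm]
      rw [Finset.sum_congr rfl fun g _ => show
          ∑ x : Γ, ∑ y : V, (if g * (t * ι y) * g⁻¹ = x then F x * conj (f y) else 0) =
            ∑ y : V, F (t * ι y) * conj (f y) from by
        rw [Finset.sum_comm]
        refine Finset.sum_congr rfl fun y _ => ?_
        rw [Finset.sum_ite_eq, if_pos (Finset.mem_univ _), hF (t * ι y) g]]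
      rw [Finset.sum_const, Finset.card_univ, nsmul_eq_mul, Nat.card_eq_fintype_card, ← Finset.mul_sum]
    rw [classInner, h1, twistVal, classInner, ← mul_assoc, inv_mul_cancel₀ hG, one_mul, ← mul_assoc,
      mul_inv_cancel₀ hV, one_mul]
  have hval : ∀ y : V, Φ (t * ι y) = (Nat.card (Subgroup.centralizer ({t} : Set Γ)) : ℂ) * f y := by
    intro y
    rw [hΦ]
    show ∑ g : Γ, _ = _
    rw [Finset.sum_congr rfl fun g _ => show
        (∑ y' : V, if g * (t * ι y') * g⁻¹ = t * ι y then f y' else 0) =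
          if g ∈ Subgroup.centralizer ({t} : Set Γ) then f y else 0 from by
      split_ifs with hg
      · rw [Subgroup.mem_centralizer_singleton_iff] at hg
        haveI := Q.normal
        obtain ⟨y0, hy0⟩ := (Q.range (g⁻¹ * ι y * g)).2 ⟨by
            simpa using Q.normal.conj_mem _ (Q.memN y) g⁻¹,
          (((show Commute g t from hg).inv_left).mul_left (Q.comm_t y)).mul_left hg⟩
        rw [Finset.sum_eq_single y0 (fun y' _ hne => ?_) (fun h => absurd (Finset.mem_univ _) h),
          if_pos (by rw [hy0, ← mul_assoc g, hg]; group), hf g y0 y hg (by rw [hy0]; group)]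
        refine if_neg fun h => hne (Q.inj ?_)
        rw [← mul_assoc g, hg, mul_assoc t g, mul_assoc t] at h
        rw [hy0, ← mul_left_cancel h]
        group
      · exact Finset.sum_eq_zero fun y' _ => if_neg fun h => hg
          (Subgroup.mem_centralizer_singleton_iff.2 (Q.conj_commute h))]
    rw [← Finset.sum_filter, Finset.sum_const, nsmul_eq_mul, Nat.card_eq_fintype_card,
      Fintype.card_subtype]
  have h1 : classInner Φ Φ = (Nat.card V : ℂ) * (Nat.card V : ℂ) * ((N.index : ℂ) * classInner f f) := by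
    rw [hpair Φ hcl, twistVal, show (fun y : V => Φ (t * ι y)) =
      (Nat.card (Subgroup.centralizer ({t} : Set Γ)) : ℂ) • f from funext hval, classInner_smul_left,
      Q.card_cent]
    push_cast
    ring
  rw [classInner_eq_sum hcl, Finset.sum_congr rfl fun (θ : IrrCharacter Γ) _ => show
      classInner Φ (θ : Γ → ℂ) * conj (classInner Φ (θ : Γ → ℂ)) =
        (Nat.card V : ℂ) * (Nat.card V : ℂ) * ((Complex.normSq (twistVal t ι (θ : Γ → ℂ) f) : ℝ) : ℂ) from by
    rw [← classInner_conj_symm (θ : Γ → ℂ) Φ, hpair _ (IsIrrCharacter.isClassFunction θ.2),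
      Complex.normSq_eq_conj_mul_self]
    simp only [map_mul, Complex.conj_natCast, RingHomCompTriple.comp_apply, RingHom.id_apply]
    ring, ← Finset.mul_sum] at h1
  exact mul_left_cancel₀ (mul_ne_zero hV hV) h1

/-- The value is an integer of the parity of the multiplicity. -/
theorem exists_int {θ : Γ → ℂ} (hθ : IsCharacter Γ θ) (l : V →* ℂ) :
    ∃ a : ℤ, ∃ b : ℕ, twistVal t ι θ l = a ∧ classInner (fun y : V => θ (ι y)) l = b ∧ Even (a + b) := by
  let e : Multiplicative (ZMod 2) →* Γ :=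
    { toFun := fun i => if i = 1 then 1 else t
      map_one' := if_pos rfl
      map_mul' := fun i j => by
        have key : ∀ i : Multiplicative (ZMod 2), i = 1 ∨ i = Multiplicative.ofAdd 1 := by decide
        rcases key i with rfl | rfl <;> rcases key j with rfl | rfl
        · simp
        · simp
        · simp
        · rw [show Multiplicative.ofAdd (1 : ZMod 2) * Multiplicative.ofAdd 1 = 1 by decide, if_pos rfl,
            if_neg (by decide : ¬ Multiplicative.ofAdd (1 : ZMod 2) = 1), Q.t_sq] }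
  have he : e (Multiplicative.ofAdd 1) = t := by
    show (if Multiplicative.ofAdd (1 : ZMod 2) = 1 then (1 : Γ) else t) = t
    exact if_neg (by decide)
  let μ : V × Multiplicative (ZMod 2) →* Γ :=
    { toFun := fun p => ι p.1 * e p.2
      map_one' := by simp
      map_mul' := fun p p' => by
        have hc : Commute (ι p'.1) (e p.2) := by
          show Commute (ι p'.1) (if p.2 = 1 then 1 else t)
          split_ifs
          · exact Commute.one_right _
          · exact Q.comm_t p'.1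
        simp only [Prod.fst_mul, Prod.snd_mul, map_mul]
        rw [mul_assoc (ι p.1), ← mul_assoc (ι p'.1), hc.eq]
        simp only [mul_assoc] }
  obtain ⟨m, hm⟩ := IsCharacter.classInner_nat (IsCharacter.comp_hom hθ μ)
    (IsCharacter.prodMul (IsIrrCharacter.isCharacter (isIrrCharacter_of_hom l))
      (IsIrrCharacter.isCharacter (isIrrCharacter_one (G := Multiplicative (ZMod 2)))))
  obtain ⟨b, hb⟩ := IsCharacter.classInner_nat (IsCharacter.comp_hom hθ ι)
    (IsIrrCharacter.isCharacter (isIrrCharacter_of_hom l))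
  refine ⟨2 * (m : ℤ) - b, b, ?_, hb, ⟨m, by ring⟩⟩
  have h2 : classInner (fun p : V × Multiplicative (ZMod 2) => θ (μ p))
      (fun p => l p.1 * (1 : Multiplicative (ZMod 2) → ℂ) p.2) =
        (classInner (fun y : V => θ (ι y)) l + twistVal t ι θ l) / 2 := by
    simp only [classInner, twistVal, Fintype.card_prod, Fintype.sum_prod_type, Nat.card_eq_fintype_card,
      Fintype.card_multiplicative, ZMod.card, Pi.one_apply, mul_one]
    rw [Finset.sum_congr rfl fun y _ => show
        ∑ i : Multiplicative (ZMod 2), θ (μ (y, i)) * conj (l y) =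
          θ (ι y) * conj (l y) + θ (t * ι y) * conj (l y) from by
      rw [show (Finset.univ : Finset (Multiplicative (ZMod 2))) = {1, Multiplicative.ofAdd 1} by decide,
        Finset.sum_pair (by decide)]
      show θ (ι y * e 1) * _ + θ (ι y * e (Multiplicative.ofAdd 1)) * _ = _
      rw [map_one, mul_one, he, Q.comm_t], Finset.sum_add_distrib]
    push_cast
    ring
  rw [hm, hb] at h2
  push_cast
  linear_combination (-2 : ℂ) * h2

/-- An invariant irreducible character of `N` with odd multiplicity. -/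
theorem exists_fixed {l : V →* ℂ} (hl : CentInv t ι l) :
    ∃ χ : N → ℂ, IsIrrCharacter N χ ∧
      (∀ (g : Γ) (x : N), χ ⟨g * x * g⁻¹, Q.normal.conj_mem x x.2 g⟩ = χ x) ∧
      ∃ b : ℕ, Odd b ∧ classInner (fun y : V => χ ⟨ι y, Q.memN y⟩) l = b := by
  classical
  haveI := Q.normal
  haveI := Fintype.ofFinite N
  haveI := Fintype.ofFinite (IrrCharacter N)
  let ι' : V →* N := ι.codRestrict N Q.memN
  choose b hb using fun χ : IrrCharacter N =>
    IsCharacter.classInner_nat (IsCharacter.comp_hom (IsIrrCharacter.isCharacter χ.2) ι')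
      (IsIrrCharacter.isCharacter (isIrrCharacter_of_hom l))
  choose d _hd0 hd hdvd using fun χ : IrrCharacter N => IsIrrCharacter.degree_dvd_card χ.2
  obtain ⟨e, he⟩ := Subgroup.card_dvd_of_injective ι' fun a c h => Q.inj (congrArg Subtype.val h)
  have hsum : ∑ χ : IrrCharacter N, d χ * b χ = e := by
    have h : ∑ χ : IrrCharacter N, (χ : N → ℂ) 1 * classInner (fun y : V => (χ : N → ℂ) (ι' y)) l =
        (e : ℂ) := by
      simp only [classInner, Finset.mul_sum]
      rw [Finset.sum_comm, Finset.sum_congr rfl fun y _ => show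
          ∑ χ : IrrCharacter N, (χ : N → ℂ) 1 * ((Nat.card V : ℂ)⁻¹ * ((χ : N → ℂ) (ι' y) * conj (l y))) =
            (Nat.card V : ℂ)⁻¹ * conj (l y) *
              ∑ χ : IrrCharacter N, (χ : N → ℂ) 1 * (χ : N → ℂ) (ι' y) from by
        rw [Finset.mul_sum]
        exact Finset.sum_congr rfl fun χ _ => by ring]
      rw [Finset.sum_eq_single (1 : V) (fun y _ hy => by
          rw [sum_degree_mul_apply, if_neg (fun h => hy (Q.inj (by
            rw [map_one]; exact congrArg Subtype.val h))), mul_zero])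
        (fun h => absurd (Finset.mem_univ _) h), map_one ι', sum_degree_mul_apply, if_pos rfl,
        map_one l, map_one, mul_one, he, Nat.cast_mul, ← mul_assoc,
        inv_mul_cancel₀ (Nat.cast_ne_zero.2 Nat.card_pos.ne'), one_mul]
    rw [Finset.sum_congr rfl fun (χ : IrrCharacter N) _ => show (χ : N → ℂ) 1 *
      classInner (fun y : V => (χ : N → ℂ) (ι' y)) l = ((d χ * b χ : ℕ) : ℂ) by
      rw [hd, hb, Nat.cast_mul], ← Nat.cast_sum] at h
    exact_mod_cast h
  have hodd : Odd (Finset.univ.filter fun χ : IrrCharacter N => Odd (b χ)).card := by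
    have h : Odd (∑ χ : IrrCharacter N, d χ * b χ) := by
      rw [hsum]; exact Odd.of_dvd_nat Q.odd_card ⟨_, he.trans (mul_comm _ _)⟩
    rw [Finset.odd_sum_iff_odd_card_odd] at h
    convert h using 3 with χ
    exact ⟨fun hx => (Odd.of_dvd_nat Q.odd_card (hdvd χ)).mul hx, fun hx => (Nat.odd_mul.1 hx).2⟩
  have hinv : ∀ (g : Γ) (χ : IrrCharacter N),
      b ⟨_, CliffordChar.isIrr_conjFun N g χ.2⟩ = b χ := by
    intro g χ
    obtain ⟨r, hr, hc⟩ := Q.exists_commute g
    have hfun : CliffordChar.conjFun N g (χ : N → ℂ) = CliffordChar.conjFun N (r * g) (χ : N → ℂ) := by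
      funext n
      rw [CliffordChar.conjFun_apply, CliffordChar.conjFun_apply]
      have h := IsIrrCharacter.isClassFunction χ.2
        (⟨g⁻¹ * n * g, by simpa using Q.normal.conj_mem n n.2 g⁻¹⟩ : N)
      have e1 := h ⟨(g⁻¹ * r⁻¹ * g), by simpa using Q.normal.conj_mem _ (N.inv_mem hr) g⁻¹⟩
      rw [← e1]
      exact congrArg _ (Subtype.ext (by push_cast; group))
    have hsig : ∀ y : V, ∃ y' : V, ι y' = (r * g)⁻¹ * ι y * (r * g) := fun y =>
      (Q.range _).2 ⟨by simpa using Q.normal.conj_mem _ (Q.memN y) (r * g)⁻¹,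
        (((show Commute (r * g) t from hc).inv_left).mul_left (Q.comm_t y)).mul_left hc⟩
    choose σ hσ using hsig
    have hσb : Function.Bijective σ := Finite.injective_iff_bijective.1 fun a c h => by
      refine Q.inj ?_
      have := congrArg ι h
      rw [hσ, hσ] at this
      exact mul_left_cancel (mul_right_cancel this)
    have h := hb ⟨_, CliffordChar.isIrr_conjFun N g χ.2⟩
    have h2 : classInner (fun y : V => CliffordChar.conjFun N g (χ : N → ℂ) (ι' y)) l =
        classInner (fun y : V => (χ : N → ℂ) (ι' y)) l := by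
      rw [hfun, classInner, classInner]
      congr 1
      refine Fintype.sum_bijective σ hσb _ _ fun y => ?_
      rw [hl (r * g) (σ y) y hc (by rw [hσ]; group)]
      congr 1
      rw [CliffordChar.conjFun_apply]
      exact congrArg _ (Subtype.ext (hσ y).symm)
    rw [h] at h2
    rw [hb] at h2
    exact_mod_cast h2
  letI act : MulAction Γ (IrrCharacter N) :=
    { smul := fun g χ => ⟨_, CliffordChar.isIrr_conjFun N g χ.2⟩
      one_smul := fun χ => Subtype.ext (CliffordChar.conjFun_one N _)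
      mul_smul := fun g g' χ => Subtype.ext (CliffordChar.conjFun_mul N g g' _) }
  let S : SubMulAction Γ (IrrCharacter N) :=
    { carrier := {χ | Odd (b χ)}
      smul_mem' := fun g χ hχ => by
        show Odd (b ⟨_, CliffordChar.isIrr_conjFun N g χ.2⟩)
        rw [hinv]; exact hχ }
  haveI : Fact (Nat.Prime 2) := ⟨Nat.prime_two⟩
  have hker : N ≤ (MulAction.toPermHom Γ S).ker := fun n hn => by
    rw [MonoidHom.mem_ker]
    refine Equiv.ext fun χ => Subtype.ext (Subtype.ext (funext fun x => ?_))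
    show CliffordChar.conjFun N n ((χ : IrrCharacter N) : N → ℂ) x = _
    rw [CliffordChar.conjFun_apply]
    have := IsIrrCharacter.isClassFunction (χ : IrrCharacter N).2 x (⟨n, hn⟩⁻¹ : N)
    refine Eq.trans ?_ this
    exact congrArg _ (Subtype.ext (by push_cast; group))
  have hp : IsPGroup 2 (MulAction.toPermHom Γ S).range := by
    obtain ⟨r, hr⟩ := Q.index
    obtain ⟨k, -, hk⟩ := (Nat.dvd_prime_pow Nat.prime_two).1
      (hr ▸ Subgroup.index_dvd_of_le hker)
    exact IsPGroup.of_card (n := k) (by rw [← Subgroup.index_ker]; exact hk)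
  have hmod := hp.card_modEq_card_fixedPoints (α := S)
  have hcS : Nat.card S = (Finset.univ.filter fun χ : IrrCharacter N => Odd (b χ)).card := by
    rw [← Fintype.card_subtype, ← Nat.card_eq_fintype_card]
    rfl
  obtain ⟨⟨χ, hχ⟩⟩ : Nonempty (MulAction.fixedPoints (MulAction.toPermHom Γ S).range S) := by
    by_contra hne
    rw [not_nonempty_iff] at hne
    rw [hcS, Nat.card_of_isEmpty] at hmod
    rw [Nat.ModEq, Nat.odd_iff.1 hodd] at hmod
    exact absurd hmod (by norm_num)
  refine ⟨_, (χ : IrrCharacter N).2, fun g x => ?_, b (χ : IrrCharacter N), χ.2, hb _⟩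
  have hfix := congrArg (fun c : S => ((c : IrrCharacter N) : N → ℂ) x)
    (hχ ⟨_, ⟨g⁻¹, rfl⟩⟩)
  change CliffordChar.conjFun N g⁻¹ ((χ : IrrCharacter N) : N → ℂ) x = _ at hfix
  rw [CliffordChar.conjFun_apply] at hfix
  refine Eq.trans ?_ hfix
  exact congrArg _ (Subtype.ext (by simp))

/-- The extension seen by `l`, and all that `l` sees. -/
theorem exists_seen [Fintype (IrrCharacter Γ)] {l : V →* ℂ} (hl : CentInv t ι l) :
    ∃ θ0 : IrrCharacter Γ, IsIrrCharacter N (fun n : N => (θ0 : Γ → ℂ) n) ∧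
      ∀ θ : IrrCharacter Γ, twistVal t ι (θ : Γ → ℂ) l ≠ 0 →
        Complex.normSq (twistVal t ι (θ : Γ → ℂ) l) = 1 ∧
          ∃ β ∈ trivChars N, (θ : Γ → ℂ) = (θ0 : Γ → ℂ) * (β : Γ → ℂ) := by
  classical
  haveI := Q.normal
  haveI := Fintype.ofFinite N
  obtain ⟨χ, hχ, hinv, b, hb, hbl⟩ := Q.exists_fixed hl
  obtain ⟨r, hr⟩ := Q.index
  obtain ⟨θ0, h0, h0res⟩ := CharExtend.extends_of_coprime hχ hinv (by
    rw [hr]
    exact Nat.Coprime.pow_right _ ((Nat.prime_two.coprime_iff_not_dvd.2 Q.odd).symm))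
  have hresf : (fun n : N => θ0 n) = χ := funext h0res
  have hres : IsIrrCharacter N (fun n : N => θ0 n) := hresf ▸ hχ
  refine ⟨⟨θ0, h0⟩, hres, ?_⟩
  obtain ⟨a0, b0, ha0, hb0, hpar⟩ := Q.exists_int (IsIrrCharacter.isCharacter h0) l
  have hbb : b0 = b := by
    have : (fun y : V => θ0 (ι y)) = fun y : V => χ ⟨ι y, Q.memN y⟩ :=
      funext fun y => h0res ⟨ι y, Q.memN y⟩
    rw [this, hbl] at hb0
    exact_mod_cast hb0.symm
  have ha0' : a0 ≠ 0 := fun h => by
    rw [h, zero_add, Int.even_coe_nat, hbb] at hpar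
    exact (Nat.not_even_iff_odd.2 hb) hpar
  let M : {β // β ∈ trivChars N} → IrrCharacter Γ := fun β =>
    ⟨θ0 * ((β : IrrCharacter Γ) : Γ → ℂ),
      CharApp.gallagher_irr N h0 hres β.1.2 (mem_trivChars.1 β.2)⟩
  have hM : Function.Injective M := fun β β' h => Subtype.ext (Subtype.ext
    (CharApp.gallagher_injective N h0 hres β.1.2 β'.1.2 (mem_trivChars.1 β.2) (mem_trivChars.1 β'.2)
      (congrArg Subtype.val h)))
  have hval : ∀ β, Complex.normSq (twistVal t ι (M β : Γ → ℂ) l) = (a0 : ℝ) ^ 2 := by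
    intro β
    obtain ⟨m, hm, hmN⟩ := trivChars_hom Q.comm β.2
    have : (fun y : V => (M β : Γ → ℂ) (t * ι y)) = m t • fun y : V => θ0 (t * ι y) := by
      funext y
      show θ0 (t * ι y) * ((β : IrrCharacter Γ) : Γ → ℂ) (t * ι y) = m t * θ0 (t * ι y)
      rw [← hm, map_mul, hmN _ (Q.memN y), mul_one, mul_comm]
    have h1 : Complex.normSq (m t) = 1 := by
      have h2 : m t * m t = 1 := by rw [← map_mul, Q.t_sq, map_one]
      rcases mul_self_eq_one_iff.1 h2 with h | h <;> simp [h]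
    rw [twistVal, this, classInner_smul_left, ← twistVal, ha0, map_mul, h1, one_mul, sq]
    simp [Complex.normSq]
  have hsum : ∑ θ : IrrCharacter Γ, Complex.normSq (twistVal t ι (θ : Γ → ℂ) l) = (N.index : ℝ) := by
    have h := Q.norm_sum hl
    rw [classInner_irr_self (isIrrCharacter_of_hom l), mul_one] at h
    exact_mod_cast h
  rw [← Finset.sum_add_sum_compl (Finset.univ.image M), Finset.sum_image fun x _ y _ h => hM h] at hsum
  rw [Finset.sum_congr rfl fun β _ => hval β, Finset.sum_const, Finset.card_univ, Fintype.card_coe,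
    card_trivChars Q.comm, nsmul_eq_mul] at hsum
  have hpos : (0 : ℝ) < N.index := Nat.cast_pos.2 (Nat.pos_of_ne_zero Subgroup.index_ne_zero_of_finite)
  have hC0 : 0 ≤ ∑ θ ∈ (Finset.univ.image M)ᶜ, Complex.normSq (twistVal t ι (θ : Γ → ℂ) l) :=
    Finset.sum_nonneg fun θ _ => Complex.normSq_nonneg _
  have h1a : (1 : ℝ) ≤ (a0 : ℝ) ^ 2 := by
    exact_mod_cast (show (1 : ℤ) ≤ a0 ^ 2 from by nlinarith [mul_self_pos.2 ha0'])
  have hC : ∑ θ ∈ (Finset.univ.image M)ᶜ, Complex.normSq (twistVal t ι (θ : Γ → ℂ) l) = 0 := by nlinarith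
  have ha1 : (a0 : ℝ) ^ 2 = 1 := by nlinarith
  intro θ hθ
  by_cases hmem : θ ∈ Finset.univ.image M
  · obtain ⟨β, -, rfl⟩ := Finset.mem_image.1 hmem
    exact ⟨(hval β).trans ha1, β, β.2, rfl⟩
  · exact absurd (Complex.normSq_eq_zero.1 ((Finset.sum_eq_zero_iff_of_nonneg fun θ _ =>
      Complex.normSq_nonneg _).1 hC θ (Finset.mem_compl.2 hmem))) hθ

theorem twist_bound [Fintype (IrrCharacter Γ)] {l : V →* ℂ} (hl : CentInv t ι l) (θ : IrrCharacter Γ) :
    ‖twistVal t ι (θ : Γ → ℂ) l‖ ≤ 1 := by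
  by_cases h : twistVal t ι (θ : Γ → ℂ) l = 0
  · simp [h]
  obtain ⟨θ0, -, h0⟩ := Q.exists_seen hl
  rw [← sq_le_one_iff₀ (norm_nonneg _), ← Complex.normSq_eq_norm_sq, (h0 θ h).1]

theorem twist_res [Fintype (IrrCharacter Γ)] {l : V →* ℂ} (hl : CentInv t ι l) {θ : IrrCharacter Γ}
    (h : twistVal t ι (θ : Γ → ℂ) l ≠ 0) : IsIrrCharacter N (fun n : N => (θ : Γ → ℂ) n) := by
  obtain ⟨θ0, hres, h0⟩ := Q.exists_seen hl
  obtain ⟨-, β, hβ, e⟩ := h0 θ h
  obtain ⟨m, hm, hmN⟩ := trivChars_hom Q.comm hβ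
  have : (fun n : N => (θ : Γ → ℂ) n) = fun n : N => (θ0 : Γ → ℂ) n := by
    funext n
    rw [e, Pi.mul_apply, ← hm, hmN n n.2, mul_one]
  rwa [this]

theorem twist_unique [Fintype (IrrCharacter Γ)] {l l' : V →* ℂ} (hl : CentInv t ι l)
    (hl' : CentInv t ι l') {θ : IrrCharacter Γ} (h : twistVal t ι (θ : Γ → ℂ) l ≠ 0)
    (h' : twistVal t ι (θ : Γ → ℂ) l' ≠ 0) : l = l' := by
  classical
  haveI := Q.normal
  by_contra hne
  have hres := Q.twist_res hl h
  obtain ⟨θ0, -, h0⟩ := Q.exists_seen hl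
  obtain ⟨θ0', -, h0'⟩ := Q.exists_seen hl'
  obtain ⟨u, hu⟩ : ∃ u, u = twistVal t ι (θ : Γ → ℂ) l := ⟨_, rfl⟩
  obtain ⟨u', hu'⟩ : ∃ u', u' = twistVal t ι (θ : Γ → ℂ) l' := ⟨_, rfl⟩
  have hn : conj u * u = 1 := by
    rw [← Complex.normSq_eq_conj_mul_self, hu, (h0 θ h).1, Complex.ofReal_one]
  have hn' : conj u' * u' = 1 := by
    rw [← Complex.normSq_eq_conj_mul_self, hu', (h0' θ h').1, Complex.ofReal_one]
  obtain ⟨f, hf⟩ : ∃ f : V → ℂ, f = u • ⇑l + u' • ⇑l' := ⟨_, rfl⟩
  have hfinv : CentInv t ι f := fun c y y' hc e => by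
    simp only [hf, Pi.add_apply, Pi.smul_apply, hl c y y' hc e, hl' c y y' hc e]
  have hll : classInner ⇑l ⇑l' = 0 := classInner_irr_of_ne (isIrrCharacter_of_hom l)
    (isIrrCharacter_of_hom l') fun e => hne (DFunLike.coe_injective e)
  have hll' : classInner ⇑l' ⇑l = 0 := by rw [← classInner_conj_symm, hll, map_zero]
  have hff : classInner f f = 2 := by
    rw [hf, classInner_add_left, classInner_add_right, classInner_add_right]
    simp only [classInner_smul_left, classInner_smul_right, classInner_irr_self (isIrrCharacter_of_hom l),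
      classInner_irr_self (isIrrCharacter_of_hom l'), hll, hll']
    linear_combination hn + hn'
  let M : {β // β ∈ trivChars N} → IrrCharacter Γ := fun β =>
    ⟨(θ : Γ → ℂ) * ((β : IrrCharacter Γ) : Γ → ℂ),
      CharApp.gallagher_irr N θ.2 hres β.1.2 (mem_trivChars.1 β.2)⟩
  have hM : Function.Injective M := fun β β' h => Subtype.ext (Subtype.ext
    (CharApp.gallagher_injective N θ.2 hres β.1.2 β'.1.2 (mem_trivChars.1 β.2) (mem_trivChars.1 β'.2)
      (congrArg Subtype.val h)))
  have hval : ∀ β, Complex.normSq (twistVal t ι (M β : Γ → ℂ) f) = 4 := by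
    intro β
    obtain ⟨m, hm, hmN⟩ := trivChars_hom Q.comm β.2
    have : (fun y : V => (M β : Γ → ℂ) (t * ι y)) = m t • fun y : V => (θ : Γ → ℂ) (t * ι y) := by
      funext y
      show (θ : Γ → ℂ) (t * ι y) * ((β : IrrCharacter Γ) : Γ → ℂ) (t * ι y) = m t * (θ : Γ → ℂ) (t * ι y)
      rw [← hm, map_mul, hmN _ (Q.memN y), mul_one, mul_comm]
    have h1 : Complex.normSq (m t) = 1 := by
      have h2 : m t * m t = 1 := by rw [← map_mul, Q.t_sq, map_one]
      rcases mul_self_eq_one_iff.1 h2 with h | h <;> simp [h]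
    rw [twistVal, this, classInner_smul_left, hf, classInner_add_right, classInner_smul_right,
      classInner_smul_right, ← twistVal, ← twistVal, ← hu, ← hu', hn, hn', map_mul, h1, one_mul]
    norm_num [Complex.normSq]
  have hsum : ∑ θ : IrrCharacter Γ, Complex.normSq (twistVal t ι (θ : Γ → ℂ) f) = (N.index : ℝ) * 2 := by
    have e := Q.norm_sum hfinv
    rw [hff] at e
    exact_mod_cast e
  have hle : ∑ θ ∈ Finset.univ.image M, Complex.normSq (twistVal t ι (θ : Γ → ℂ) f) ≤ (N.index : ℝ) * 2 :=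
    hsum ▸ Finset.sum_le_sum_of_subset_of_nonneg (Finset.subset_univ _) fun _ _ _ => Complex.normSq_nonneg _
  rw [Finset.sum_image fun x _ y _ h => hM h, Finset.sum_congr rfl fun β _ => hval β, Finset.sum_const,
    Finset.card_univ, Fintype.card_coe, card_trivChars Q.comm, nsmul_eq_mul] at hle
  have hpos : (0 : ℝ) < N.index := Nat.cast_pos.2 (Nat.pos_of_ne_zero Subgroup.index_ne_zero_of_finite)
  linarith

end InvolQuot

end Cfsg.Agent.SDKeystone.Budget
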