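import Cfsg.Agent.Lib.CentralChar.Fixed
import Cfsg.Agent.Lib.Char.Inner

/-!
# Two facts on irreducible characters

* `apply_central_inv` : a central involution acts by a sign;
* `sum_normal_cases` : a normal subgroup is in the kernel or has character sum zero;
* `trivial_on_iff` : being constant on the subgroup
-/

set_option autoImplicit false
set_option linter.unusedSectionVars false
set_option linter.style.haveILetI false

namespace Cfsg.Agent.SDKeystone.Budget

open Cfsg Cfsg.Agent.Char LinearMap Module

variable {G : Type*} [Group G] [Finite G]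

/-- A central involution acts on an irreducible character by a sign. -/
theorem apply_central_inv {χ : G → ℂ} (hχ : IsIrrCharacter G χ) {z : G} (hz : z * z = 1)
    (hzc : ∀ g, g * z = z * g) : (∀ x, χ (z * x) = χ x) ∨ ∀ x, χ (z * x) = -χ x := by
  obtain ⟨n, ρ, hρ, rfl⟩ := hχ
  haveI := hρ
  let W : Submodule ℂ (Fin n → ℂ) :=
    { carrier := {v | ρ z v = v}
      add_mem' := fun {a b} ha hb => by
        show ρ z (a + b) = a + b
        rw [map_add, ha, hb]
      zero_mem' := map_zero _
      smul_mem' := fun c a ha => by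
        show ρ z (c • a) = c • a
        rw [map_smul, ha] }
  rcases CharApp.eq_bot_or_top_of_invariant ρ W (fun g v hv => by
      show ρ z (ρ g v) = ρ g v
      rw [← Module.End.mul_apply, ← map_mul, ← hzc g, map_mul, Module.End.mul_apply, hv]) with hW | hW
  · refine Or.inr fun x => ?_
    have e : ρ z = -1 := LinearMap.ext fun v => by
      have h : v + ρ z v ∈ W := by
        show ρ z (v + ρ z v) = v + ρ z v
        rw [map_add, ← Module.End.mul_apply, ← map_mul, hz, map_one, Module.End.one_apply, add_comm]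
      rw [hW, Submodule.mem_bot] at h
      show ρ z v = -v
      exact eq_neg_of_add_eq_zero_right h
    show LinearMap.trace ℂ _ (ρ (z * x)) = -LinearMap.trace ℂ _ (ρ x)
    rw [show ρ (z * x) = -ρ x from LinearMap.ext fun v => by rw [map_mul, e]; rfl, map_neg]
  · refine Or.inl fun x => ?_
    have e : ρ z = 1 := LinearMap.ext fun v => (hW ▸ Submodule.mem_top : v ∈ W)
    show LinearMap.trace ℂ _ (ρ (z * x)) = LinearMap.trace ℂ _ (ρ x)
    rw [map_mul, e, one_mul]

/-- A normal subgroup is in the kernel of an irreducible character, or its sum is zero. -/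
theorem sum_normal_cases {χ : G → ℂ} (hχ : IsIrrCharacter G χ) (O : Subgroup G) [O.Normal] [Fintype O] :
    (∀ x : G, ∀ o ∈ O, χ (o * x) = χ x) ∨ ∑ o : O, χ (o : G) = 0 := by
  obtain ⟨n, ρ, hρ, rfl⟩ := hχ
  haveI := hρ
  by_cases h : ∑ o : O, ρ.character (o : G) = 0
  · exact Or.inr h
  obtain ⟨v, hv0, hv⟩ := CentralChar.invariants_ne_bot_of_sum_ne_zero ρ O h
  refine Or.inl fun x o ho => ?_
  show LinearMap.trace ℂ _ (ρ (o * x)) = LinearMap.trace ℂ _ (ρ x)
  rw [map_mul, CentralChar.eq_one_of_normal_of_invariants ρ O hv0 hv ho, one_mul]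

/-- Constant on a normal subgroup means the subgroup is in the kernel. -/
theorem trivial_on_iff {χ : G → ℂ} (hχ : IsIrrCharacter G χ) (O : Subgroup G) [O.Normal] :
    (∀ o ∈ O, χ o = χ 1) ↔ ∀ x : G, ∀ o ∈ O, χ (o * x) = χ x := by
  refine ⟨fun h => ?_, fun h o ho => by simpa using h 1 o ho⟩
  haveI := Fintype.ofFinite O
  refine (sum_normal_cases hχ O).resolve_right fun h0 => ?_
  rw [Finset.sum_congr rfl (fun (o : O) _ => h o o.2), Finset.sum_const, Finset.card_univ, nsmul_eq_mul,
    mul_eq_zero] at h0
  exact h0.elim (Nat.cast_ne_zero.2 Fintype.card_ne_zero) (IsIrrCharacter.apply_one_ne_zero hχ)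

end Cfsg.Agent.SDKeystone.Budget
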