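import Cfsg.Agent.Lib.SDKeystone.Budget.Facts
import Cfsg.Agent.Lib.InvolChar.WLineSum
import Cfsg.Agent.Lib.InvolChar.Order

/-!
# The degree budget: setting and the hypotheses

`notes/sd_wreathed_budget_v2_helper63.md`, value-at-`t` version, with field automorphisms allowed in `C(z)`.

* `RootAt H X t q V x` : a root group at the point `x` inverted by `t`;
* `Line H X t Z n q o δ` : `C₀ / O` acting on `q + 1` points, with kernel `Z` and torus `centralizer {t}`;
* `Setting X z t g C φ Z n q o δ b` : `C ⊴ C(z)` with abelian quotient over a `Line`, a swap `g` of `z` and `t`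
  and the character `b` of degree `Q ^ 2 + Q + 1`, `Q = δ q`, with its values at `z y`;
* `cT` : `C ∩ C(t)`; `InvT`, `IsInvisible` : seen trivially at `t`, at `t` and at `t z`;
* `mult`, `evenPart`, `oddPart`, `dPlus`, `dMinus`, `vMinus0` : the constituents of `b` on `C`;
* `IsRigid` : `t` centralises the core in the constituent, the invisible elements act trivially;
* `IsScalar` : the same for one linear or non-linear constituent on the core, fixed by a root group;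
* `PlusBound` (`δ = 1`), `MinusPrincipal`, `MinusMoved` (`δ = -1`) : the hypotheses of `Budget.Main`.
-/

set_option autoImplicit false
set_option linter.unusedSectionVars false
set_option linter.style.haveILetI false

open scoped ComplexConjugate commutatorElement

namespace Cfsg.Agent.SDKeystone.Budget

open Subgroup Cfsg Cfsg.Agent.Char Cfsg.Agent.InvolChar

universe u v w

/-- A root group at the point `x`, inverted by `t` and normalised by the torus. -/
structure RootAt (H : Type v) [Group H] (X : Type w) [MulAction H X] (t : H) (q : ℕ) (V : Subgroup H) (x : X) :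
    Prop where
  t_fix : t • x = x
  fix : ∀ v ∈ V, v • x = x
  card : Nat.card V = q
  comm : ∀ a ∈ V, ∀ b ∈ V, Commute a b
  inv : ∀ v ∈ V, t * v * t⁻¹ = v⁻¹
  norm : centralizer ({t} : Set H) ≤ normalizer (V : Set H)
  regular : ∀ y y' : X, y ≠ x → y' ≠ x → ∃ v ∈ V, v • y = y'
  trans : ∀ a ∈ V, ∀ b ∈ V, a ≠ 1 → b ≠ 1 → ∃ c ∈ centralizer ({t} : Set H), c * a * c⁻¹ = b
  gen : ∀ N : Subgroup H, N.Normal → V ≤ N → N ⊔ centralizer ({t} : Set H) = ⊤
  z_mem : ∀ N : Subgroup H, N.Normal → V ≤ N → ∀ ζ : H, ζ * ζ = 1 → (∀ y : X, ζ • y = y) → ζ ∈ ⁅N, N⁆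
  alt_zero : ∀ B : H → H → ℂ, (∀ a ∈ V, ∀ b ∈ V, ∀ c ∈ V, B (a * b) c = B a c * B b c) →
    (∀ a ∈ V, ∀ b ∈ V, ∀ c ∈ V, B a (b * c) = B a b * B a c) → (∀ a ∈ V, B a a = 1) →
    (∀ τ ∈ centralizer ({t} : Set H), ∀ a ∈ V, ∀ b ∈ V, B (τ * a * τ⁻¹) (τ * b * τ⁻¹) = B a b) →
    ∀ a ∈ V, ∀ b ∈ V, B a b = 1

/-- The centraliser of an involution modulo its core, without field automorphisms. -/
structure Line (H : Type v) [Group H] (X : Type w) [MulAction H X] (t : H) (Z : Subgroup H)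
    (n q o : ℕ) (δ : ℤ) : Prop where
  one_le : 1 ≤ n
  sign : δ = 1 ∨ δ = -1
  three_le : 3 ≤ q
  q_odd : Odd q
  o_odd : Odd o
  q_sub : (q : ℤ) - δ = ((2 ^ n : ℕ) : ℤ) * (o : ℤ)
  card_X : Nat.card X = q + 1
  trans_two : ∀ x y x' y' : X, x ≠ y → x' ≠ y' → ∃ h : H, h • x = x' ∧ h • y = y'
  mem_Z : ∀ h : H, h ∈ Z ↔ ∀ x : X, h • x = x
  card_Z : Nat.card Z = 2 ^ n
  cyclic_Z : IsCyclic Z
  central_Z : ∀ h ∈ Z, ∀ h' : H, Commute h h'
  card_H : Nat.card H = 2 ^ n * (q * (q ^ 2 - 1))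
  t_two : orderOf t = 2
  t_notMem : t ∉ Z
  torus_comm : ∀ a ∈ centralizer ({t} : Set H), ∀ b ∈ centralizer ({t} : Set H), Commute a b
  torus_card : Nat.card (centralizer ({t} : Set H)) = 2 ^ n * (2 ^ n * o)
  torus_gen : ∃ a ∈ centralizer ({t} : Set H), ∀ x ∈ centralizer ({t} : Set H), ∃ i : ℤ, x * a ^ i ∈ Z
  torus_fix : ∀ x ∈ centralizer ({t} : Set H), x ∉ Z →
    (Nat.card (MulAction.fixedBy X x) : ℤ) = 1 + δ
  torus_ti : ∀ h x : H, x ∈ centralizer ({t} : Set H) → x ∉ Z → h * x * h⁻¹ ∈ centralizer ({t} : Set H) →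
    h ∈ normalizer ((centralizer ({t} : Set H)) : Set H)
  torus_norm : Nat.card (normalizer ((centralizer ({t} : Set H)) : Set H)) = 2 * (2 ^ n * (2 ^ n * o))
  gen : ∀ N : Subgroup H, N.Normal → t ∈ N → N ⊔ centralizer ({t} : Set H) = ⊤
  gen_one : n = 1 → ∀ N : Subgroup H, N.Normal → t ∈ N → N = ⊤
  root : δ = 1 → ∃ (V : Subgroup H) (x : X), RootAt H X t q V x

/-- The data of the budget in a group `G`. -/
structure Setting {G : Type u} [Group G] {H : Type v} [Group H] (X : Type w) [MulAction H X]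
    (z t g : G) (C : Subgroup G) (φ : C →* H) (Z : Subgroup H) (n q o : ℕ) (δ : ℤ)
    (b : IrrCharacter G) : Prop where
  z2 : orderOf z = 2
  z_mem : z ∈ C
  t_mem : t ∈ C
  le_cent : ∀ c ∈ C, Commute z c
  surj : Function.Surjective φ
  ker_odd : ¬ 2 ∣ Nat.card φ.ker
  z_bar : φ ⟨z, z_mem⟩ ∈ Z
  line : Line H X (φ ⟨t, t_mem⟩) Z n q o δ
  t2 : orderOf t = 2
  g_z : g * z * g⁻¹ = t
  g_t : g * t * g⁻¹ = z
  conj_C : ∀ y ∈ centralizer ({z} : Set G), ∀ c ∈ C, y * c * y⁻¹ ∈ C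
  conj_ker : ∀ y ∈ centralizer ({z} : Set G), ∀ k ∈ φ.ker.map C.subtype,
    y * k * y⁻¹ ∈ φ.ker.map C.subtype
  comm_C : ∀ x ∈ centralizer ({z} : Set G), ∀ y ∈ centralizer ({z} : Set G), ⁅x, y⁆ ∈ C
  cube : ∀ y : G, Commute z y → Commute t y → y ∉ C →
    ∃ x : C, Commute t (x : G) ∧ ∀ h : ⁅⁅⁅(x : G), y⁆, y⁆, y⁆ ∈ C, φ ⟨_, h⟩ ≠ 1
  root_irred : δ = 1 → ∀ (V : Subgroup H) (p : X), RootAt H X (φ ⟨t, t_mem⟩) q V p → ∀ W ≤ V,
    (∀ c ∈ centralizer ({φ ⟨t, t_mem⟩} : Set H), ∀ a ∈ W,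
      c ^ ((C.subgroupOf (centralizer ({z} : Set G))).index ^ 2) * a *
        (c ^ ((C.subgroupOf (centralizer ({z} : Set G))).index ^ 2))⁻¹ ∈ W) → W = ⊥ ∨ W = V
  tz_conj : ∃ s : C, (s : G) * t * (s : G)⁻¹ = t * z
  b_one : (b : G → ℂ) 1 = ((δ : ℂ) * (q : ℂ)) ^ 2 + (δ : ℂ) * (q : ℂ) + 1
  b_sect : ∀ y : C, ¬ 2 ∣ orderOf y → (b : G → ℂ) (z * (y : G)) = -stein X δ (φ y)
  b_const : ∀ y ∈ centralizer ({z} : Set G), ¬ 2 ∣ orderOf y → ∀ k ∈ φ.ker.map C.subtype,
    (b : G → ℂ) (z * (y * k)) = (b : G → ℂ) (z * y)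
  b_ker : ∀ x : C, (b : G → ℂ) (x : G) = (b : G → ℂ) 1 → x = 1

variable {G : Type u} [Group G] [Fintype G] {H : Type v} [Group H] [Finite H] {X : Type w} [MulAction H X]
  {z t g : G} {C : Subgroup G} [Fintype C] {φ : C →* H} {Z : Subgroup H}
  {n q o : ℕ} {δ : ℤ} {b : IrrCharacter G}

/-- The multiplicity of `ψ` in the restriction of `b` to `C`. -/
noncomputable def mult (b : IrrCharacter G) (C : Subgroup G) [Fintype C] (ψ : IrrCharacter C) : ℕ :=
  haveI := Fintype.ofFinite (IrrCharacter C)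
  (IsCharacter.decompose (IsCharacter.restrict (IsIrrCharacter.isCharacter b.2) C)).choose ψ

/-- The kernel of `φ` is in the kernel of `ψ`. -/
def IsInflated (φ : C →* H) (ψ : C → ℂ) : Prop := ∀ x : C, φ x = 1 → ψ x = ψ 1

/-- The swap sends the element into the core. -/
def InvT (φ : C →* H) (g : G) (x : C) : Prop := g * (x : G) * g⁻¹ ∈ φ.ker.map C.subtype

/-- `c` sends `t` to `t` or to `t z`. -/
def IsSwap (z t : G) (c : C) : Prop := (c : G) * t * (c : G)⁻¹ = t ∨ (c : G) * t * (c : G)⁻¹ = t * z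

namespace Setting

variable (D : Setting X z t g C φ Z n q o δ b)
include D

/-- The involution `z` in `C`. -/
def zC : C := ⟨z, D.z_mem⟩

/-- The involution `t` in `C`. -/
def tC : C := ⟨t, D.t_mem⟩

/-- The centraliser of `t` in `C`. -/
def cT : Subgroup C := centralizer ({D.tC} : Set C)

theorem mem_cT {y : C} : y ∈ D.cT ↔ Commute t (y : G) := by
  rw [cT, mem_centralizer_singleton_iff]
  exact ⟨fun h => (congrArg Subtype.val h).symm, fun h => Subtype.ext h.eq.symm⟩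

/-- Fixed by `z`. -/
def IsEvenC (ψ : C → ℂ) : Prop := ∀ x, ψ (D.zC * x) = ψ x

open scoped Classical in
/-- The constituents fixed by `z`. -/
noncomputable def evenPart : Finset (IrrCharacter C) :=
  haveI := Fintype.ofFinite (IrrCharacter C)
  Finset.univ.filter fun ψ : IrrCharacter C => D.IsEvenC (ψ : C → ℂ) ∧ mult b C ψ ≠ 0

open scoped Classical in
/-- The constituents negated by `z`. -/
noncomputable def oddPart : Finset (IrrCharacter C) :=
  haveI := Fintype.ofFinite (IrrCharacter C)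
  Finset.univ.filter fun ψ : IrrCharacter C => ¬ D.IsEvenC (ψ : C → ℂ) ∧ mult b C ψ ≠ 0

open scoped Classical in
/-- The constituents fixed by `z` and moved by the kernel. -/
noncomputable def evenMoved : Finset (IrrCharacter C) :=
  D.evenPart.filter fun ψ => ¬ IsInflated φ (ψ : C → ℂ)

open scoped Classical in
/-- The constituents fixed by `z` and inflated from `H`. -/
noncomputable def evenInflated : Finset (IrrCharacter C) :=
  D.evenPart.filter fun ψ => IsInflated φ (ψ : C → ℂ)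

/-- The degree of the part of `b` fixed by `z` and moved by the kernel. -/
noncomputable def dPlus : ℕ := ∑ ψ ∈ D.evenMoved, mult b C ψ * charDegree (ψ : C → ℂ)

open scoped Classical in
/-- The degree of the part of `b` negated by `z` and moved by the kernel. -/
noncomputable def dMinus : ℕ :=
  ∑ ψ ∈ D.oddPart.filter (fun ψ : IrrCharacter C => ¬ IsInflated φ (ψ : C → ℂ)), mult b C ψ * charDegree (ψ : C → ℂ)

open scoped Classical in
/-- The degree of the part of `b` negated by `z` and inflated from `H`. -/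
noncomputable def vMinus0 : ℕ :=
  ∑ ψ ∈ D.oddPart.filter (fun ψ : IrrCharacter C => IsInflated φ (ψ : C → ℂ)), mult b C ψ * charDegree (ψ : C → ℂ)

/-- An element of the core in `C(t)` seen trivially at `t` and at `t z`. -/
def IsInvisible (x : C) : Prop :=
  φ x = 1 ∧ x ∈ D.cT ∧ ∀ c : C, IsSwap z t c → InvT φ g (c * x * c⁻¹)

/-- `t` centralises the core in `ψ` and the invisible elements act trivially. -/
def IsRigid (ψ : C → ℂ) : Prop :=
  (∀ x : C, φ x = 1 → ψ ⁅x, D.tC⁆ = ψ 1) ∧ ∀ x : C, D.IsInvisible x → ψ x = ψ 1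

/-- `J` (the kernel of a constituent of the core fixed by `t` and by a root group) contains the commutators
with `t` and the elements invisible at one side, and its conjugates intersect in the kernel of `ψ`. -/
def IsScalar (ψ : C → ℂ) : Prop :=
  ∃ (J : Subgroup C) (V : Subgroup H) (p : X) (s : C), RootAt H X (φ D.tC) q V p ∧ IsSwap z t s ∧
    J ≤ φ.ker ∧ (∀ x : C, φ x = 1 → ∀ j ∈ J, x * j * x⁻¹ ∈ J) ∧
    (∀ c : C, φ c ∈ V → ∀ j ∈ J, c * j * c⁻¹ ∈ J) ∧ (∀ x : C, φ x = 1 → ⁅x, D.tC⁆ ∈ J) ∧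
    (∀ x : C, φ x = 1 → x ∈ D.cT → InvT φ g (s * x * s⁻¹) → x ∈ J) ∧
    ∀ x : C, φ x = 1 → (∀ c : C, c * x * c⁻¹ ∈ J) → ψ x = ψ 1

/-- `δ = 1`: on the constituents negated by `z` the units number at least `q + 1`, each costs `(q + 1) / 2`, and
a constituent at the bound is scalar. -/
def PlusBound : Prop :=
  δ = 1 → ∃ F : IrrCharacter C → ℝ,
    ((q : ℝ) + 1 ≤ ∑ ψ ∈ D.oddPart, (mult b C ψ : ℝ) * F ψ) ∧
    ∀ ψ ∈ D.oddPart, ((q : ℝ) + 1) * F ψ ≤ 2 * (charDegree (ψ : C → ℂ) : ℝ) ∧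
      (((q : ℝ) + 1) * F ψ = 2 * (charDegree (ψ : C → ℂ) : ℝ) → D.IsScalar (ψ : C → ℂ))

/-- `δ = -1`: the inflated part negated by `z` pays for all but one unit of the inflated part fixed by `z`. -/
def MinusPrincipal : Prop :=
  δ = -1 → ((q : ℝ) - 1) * ‖∑ ψ ∈ D.evenInflated, (mult b C ψ : ℂ) * (ψ : C → ℂ) D.tC‖ ≤
    2 * (D.vMinus0 : ℝ) + ((q : ℝ) - 1)

/-- `δ = -1`: the moved part fixed by `z` costs `(q - 1) / 2` for each unit, and is rigid at the bound. -/
def MinusMoved : Prop :=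
  δ = -1 → ((q : ℝ) - 1) * ‖∑ ψ ∈ D.evenMoved, (mult b C ψ : ℂ) * (ψ : C → ℂ) D.tC‖ ≤ 2 * (D.dPlus : ℝ) ∧
    (((q : ℝ) - 1) * ‖∑ ψ ∈ D.evenMoved, (mult b C ψ : ℂ) * (ψ : C → ℂ) D.tC‖ = 2 * (D.dPlus : ℝ) →
      ∀ ψ ∈ D.evenMoved, D.IsRigid (ψ : C → ℂ))

end Setting

end Cfsg.Agent.SDKeystone.Budget
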