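import Cfsg.Agent.EqLemmas
import Cfsg.Agent.Lib.SylowCyclicSuzuki.PGLFacts
import Cfsg.Agent.Lib.QGroup.PtLine
import Cfsg.Agent.Lib.QGroup.Fixed
import Mathlib.FieldTheory.IsAlgClosed.AlgebraicClosure
import Mathlib.LinearAlgebra.Matrix.GeneralLinearGroup.Card

/-!
# The centraliser of a trace zero element of `GL₂`

For `m` of trace zero in `GL₂(q)`, `c = - det m`:

* `tor m` : the centraliser; `exists_lin`, `tor_comm`, `card_tor` : `(q - 1) (q - δ)`;
* `tor_cyclic_mod` : cyclic modulo scalars;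
* `conj_pm` : what conjugates a non-scalar of the centraliser into it sends `m` to `± m`;
* `exists_anti` : some element anticommutes with `m`;
* `fixed_eq` : a non-scalar of the centraliser fixes the points fixed by `m`.
-/

set_option autoImplicit false
set_option linter.unusedSectionVars false
set_option linter.style.haveILetI false

open Matrix
open scoped MatrixGroups

namespace Cfsg.Agent.SDKeystone.Torus

open Cfsg.Agent.AutPSL (semi)

variable {F : Type} [Field F] [Fintype F]

/-- The matrix of an element. -/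
abbrev mat (g : (GL (Fin (0 + 2)) F)) : (Matrix (Fin 2) (Fin 2) F) := (g : Matrix (Fin (0 + 2)) (Fin (0 + 2)) F)

/-- The centraliser of `m`. -/
def tor (m : (GL (Fin (0 + 2)) F)) : Subgroup (GL (Fin (0 + 2)) F) := Subgroup.centralizer ({m} : Set (GL (Fin (0 + 2)) F))

variable {m : (GL (Fin (0 + 2)) F)}

theorem mem_tor {g : (GL (Fin (0 + 2)) F)} : g ∈ tor m ↔ mat g * mat m = mat m * mat g := by
  rw [tor, Subgroup.mem_centralizer_singleton_iff]
  exact ⟨fun h => congrArg Units.val h, fun h => Units.ext h⟩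

theorem mat_ext {g h : (GL (Fin (0 + 2)) F)} (e : mat g = mat h) : g = h := Units.ext e

theorem det_ne (g : (GL (Fin (0 + 2)) F)) : (mat g).det ≠ 0 := (GeneralLinearGroup.det g).ne_zero

variable (h2 : (2 : F) ≠ 0) (ht : mat m 0 0 + mat m 1 1 = 0)
include ht

theorem sq_eq : mat m * mat m = (-(mat m).det) • (1 : (Matrix (Fin 2) (Fin 2) F)) := by
  rw [Matrix.det_fin_two]
  ext i j
  fin_cases i <;> fin_cases j <;> simp [Matrix.mul_apply, Fin.sum_univ_two]
  · linear_combination mat m 0 0 * ht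
  · linear_combination mat m 0 1 * ht
  · linear_combination mat m 1 0 * ht
  · linear_combination mat m 1 1 * ht

theorem det_lin (a b : F) :
    (a • (1 : (Matrix (Fin 2) (Fin 2) F)) + b • mat m).det = a ^ 2 - b ^ 2 * -(mat m).det := by
  rw [Matrix.det_fin_two, Matrix.det_fin_two]
  simp
  linear_combination a * b * ht

include h2

theorem lin_inj {a b a' b' : F} (e : a • (1 : (Matrix (Fin 2) (Fin 2) F)) + b • mat m = a' • (1 : (Matrix (Fin 2) (Fin 2) F)) + b' • mat m) :
    a = a' ∧ b = b' := by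
  by_cases hb : b = b'
  · refine ⟨?_, hb⟩
    have := congrFun (congrFun e 0) 0
    simp [hb] at this
    exact this
  · exfalso
    refine SylowCyclicSuzuki.not_scalar h2 (g := m) ht ⟨(a' - a) / (b - b'), ?_⟩
    have e' : (b - b') • mat m = (a' - a) • (1 : (Matrix (Fin 2) (Fin 2) F)) := by
      rw [sub_smul, sub_smul, sub_eq_sub_iff_add_eq_add, add_comm (b • mat m), e, add_comm]
    have hne : b - b' ≠ 0 := sub_ne_zero.2 hb
    show mat m = _
    rw [← inv_smul_smul₀ hne (mat m), e', smul_smul, mul_comm, div_eq_mul_inv]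

theorem exists_lin {g : (GL (Fin (0 + 2)) F)} (hg : g ∈ tor m) : ∃ a b : F, mat g = a • (1 : (Matrix (Fin 2) (Fin 2) F)) + b • mat m :=
  SylowCyclicSuzuki.comm_span (SylowCyclicSuzuki.not_scalar h2 ht) (mem_tor.1 hg)

theorem tor_comm {g h : (GL (Fin (0 + 2)) F)} (hg : g ∈ tor m) (hh : h ∈ tor m) : g * h = h * g := by
  obtain ⟨a, b, e⟩ := exists_lin h2 ht hg
  refine mat_ext ?_
  show mat g * mat h = mat h * mat g
  rw [e, add_mul, mul_add, smul_mul_assoc, smul_mul_assoc, mul_smul_comm, mul_smul_comm, one_mul, mul_one,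
    mem_tor.1 hh]

omit h2 in
/-- The element with given coordinates. -/
theorem exists_of_lin {a b : F} (hd : a ^ 2 - b ^ 2 * -(mat m).det ≠ 0) :
    ∃ g : (GL (Fin (0 + 2)) F), g ∈ tor m ∧ mat g = a • (1 : (Matrix (Fin 2) (Fin 2) F)) + b • mat m := by
  refine ⟨GeneralLinearGroup.mkOfDetNeZero (a • (1 : (Matrix (Fin 2) (Fin 2) F)) + b • mat m) (by rwa [det_lin ht]), ?_, rfl⟩
  rw [mem_tor]
  show (a • (1 : (Matrix (Fin 2) (Fin 2) F)) + b • mat m) * mat m = mat m * (a • (1 : (Matrix (Fin 2) (Fin 2) F)) + b • mat m)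
  rw [add_mul, mul_add, smul_mul_assoc, smul_mul_assoc, mul_smul_comm, mul_smul_comm, one_mul, mul_one]

/-- The order of the centraliser. -/
theorem card_tor {δ : ℤ} (hs : IsSquare (-(mat m).det) → δ = 1) (hn : ¬ IsSquare (-(mat m).det) → δ = -1) :
    (Nat.card (tor m) : ℤ) = ((Nat.card F : ℤ) - 1) * ((Nat.card F : ℤ) - δ) := by
  classical
  set c := -(mat m).det with hc
  have hc0 : c ≠ 0 := neg_ne_zero.2 (det_ne m)
  let f : {p : F × F // p.1 ^ 2 - p.2 ^ 2 * c ≠ 0} → tor m := fun p =>
    ⟨(exists_of_lin ht p.2).choose, (exists_of_lin ht p.2).choose_spec.1⟩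
  have hf : Function.Bijective f := by
    refine ⟨fun p p' e => ?_, fun g => ?_⟩
    · have e1 := congrArg (fun g : tor m => mat g.1) e
      simp only [f] at e1
      rw [(exists_of_lin ht p.2).choose_spec.2, (exists_of_lin ht p'.2).choose_spec.2] at e1
      obtain ⟨e2, e3⟩ := lin_inj h2 ht e1
      exact Subtype.ext (Prod.ext e2 e3)
    · obtain ⟨a, b, e⟩ := exists_lin h2 ht g.2
      have hd : a ^ 2 - b ^ 2 * c ≠ 0 := by rw [hc, ← det_lin ht, ← e]; exact det_ne _
      refine ⟨⟨(a, b), hd⟩, Subtype.ext (mat_ext ?_)⟩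
      rw [e]
      exact (exists_of_lin ht hd).choose_spec.2
  rw [← Nat.card_congr (Equiv.ofBijective f hf), Nat.card_eq_fintype_card, Fintype.card_subtype_compl]
  have hle := Fintype.card_subtype_le (fun p : F × F => p.1 ^ 2 - p.2 ^ 2 * c = 0)
  rw [Nat.cast_sub hle, Fintype.card_prod, Nat.card_eq_fintype_card (α := F), Fintype.card_subtype]
  by_cases hsq : IsSquare c
  · obtain ⟨μ, hμ⟩ := id hsq
    have hμ0 : μ ≠ 0 := fun e => hc0 (by rw [hμ, e, mul_zero])
    have he : (Finset.univ.filter fun p : F × F => p.1 ^ 2 - p.2 ^ 2 * c = 0) =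
        Finset.univ.image (fun b : F => (μ * b, b)) ∪ Finset.univ.image (fun b : F => (-(μ * b), b)) := by
      ext ⟨a, b⟩
      simp only [Finset.mem_filter, Finset.mem_univ, true_and, Finset.mem_union, Finset.mem_image,
        Prod.mk.injEq]
      constructor
      · intro h
        have h1 : (a - μ * b) * (a + μ * b) = 0 := by rw [hμ] at h; linear_combination h
        rcases mul_eq_zero.1 h1 with e | e
        · exact Or.inl ⟨b, (sub_eq_zero.1 e).symm, rfl⟩
        · exact Or.inr ⟨b, (eq_neg_of_add_eq_zero_left e).symm, rfl⟩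
      · rintro (⟨b', rfl, rfl⟩ | ⟨b', rfl, rfl⟩) <;> (rw [hμ]; ring)
    have hi : Finset.univ.image (fun b : F => (μ * b, b)) ∩ Finset.univ.image (fun b : F => (-(μ * b), b)) =
        {(0, 0)} := by
      ext ⟨a, b⟩
      simp only [Finset.mem_inter, Finset.mem_image, Finset.mem_univ, true_and, Prod.mk.injEq,
        Finset.mem_singleton]
      constructor
      · rintro ⟨⟨b', e1, rfl⟩, ⟨b'', e2, e3⟩⟩
        rw [e3, ← e1] at e2
        have : (2 : F) * (μ * b') = 0 := by linear_combination -e2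
        have hb : b' = 0 := (mul_eq_zero.1 ((mul_eq_zero.1 this).resolve_left h2)).resolve_left hμ0
        exact ⟨by rw [← e1, hb, mul_zero], hb⟩
      · rintro ⟨rfl, rfl⟩
        exact ⟨⟨0, by simp, rfl⟩, ⟨0, by simp, rfl⟩⟩
    have h1 : Function.Injective (fun b : F => (μ * b, b)) := fun x y e => congrArg Prod.snd e
    have h1' : Function.Injective (fun b : F => (-(μ * b), b)) := fun x y e => congrArg Prod.snd e
    have hcu := Finset.card_union_add_card_inter (Finset.univ.image (fun b : F => (μ * b, b)))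
      (Finset.univ.image (fun b : F => (-(μ * b), b)))
    rw [← he, hi, Finset.card_singleton, Finset.card_image_of_injective _ h1,
      Finset.card_image_of_injective _ h1', Finset.card_univ] at hcu
    rw [hs hsq]
    push_cast
    have : ((Finset.univ.filter fun p : F × F => p.1 ^ 2 - p.2 ^ 2 * c = 0).card : ℤ) =
        2 * (Fintype.card F : ℤ) - 1 := by omega
    rw [this]; ring
  · have he : (Finset.univ.filter fun p : F × F => p.1 ^ 2 - p.2 ^ 2 * c = 0) = {(0, 0)} := by
      ext ⟨a, b⟩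
      simp only [Finset.mem_filter, Finset.mem_univ, true_and, Finset.mem_singleton, Prod.mk.injEq]
      constructor
      · intro h
        by_cases hb : b = 0
        · rw [hb] at h
          exact ⟨by simpa using h, hb⟩
        · exfalso
          refine hsq ⟨a / b, ?_⟩
          field_simp
          linear_combination -h
      · rintro ⟨rfl, rfl⟩; ring
    rw [he, Finset.card_singleton, hn hsq]
    push_cast; ring

/-- The centraliser is cyclic modulo scalars. -/
theorem tor_cyclic_mod :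
    ∃ g₀ ∈ tor m, ∀ g ∈ tor m, ∃ i : ℤ, g * g₀ ^ i ∈ Subgroup.center (GL (Fin (0 + 2)) F) := by
  classical
  let L := AlgebraicClosure F
  let ι : F →+* L := algebraMap F L
  have hι : Function.Injective ι := ι.injective
  obtain ⟨μ, hμ⟩ := IsAlgClosed.exists_eq_mul_self (ι (-(mat m).det))
  have hc0 : -(mat m).det ≠ 0 := neg_ne_zero.2 (det_ne m)
  have hμ0 : μ ≠ 0 := fun e => hc0 (hι (by rw [hμ, e, mul_zero, map_zero]))
  -- the eigenvalue as a function of the element
  let ev : (Matrix (Fin 2) (Fin 2) F) → L → L := fun A ν => ι ((A 0 0 + A 1 1) / 2) +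
    ν * ι (((A * mat m) 0 0 + (A * mat m) 1 1) / (2 * -(mat m).det))
  have hev : ∀ (a b : F) (ν : L), ev (a • (1 : (Matrix (Fin 2) (Fin 2) F)) + b • mat m) ν = ι a + ν * ι b := by
    intro a b ν
    have e1 : ((a • (1 : (Matrix (Fin 2) (Fin 2) F)) + b • mat m) 0 0 + (a • (1 : (Matrix (Fin 2) (Fin 2) F)) + b • mat m) 1 1) / 2 = a := by
      rw [div_eq_iff h2]; simp; linear_combination b * ht
    have e2 : (((a • (1 : (Matrix (Fin 2) (Fin 2) F)) + b • mat m) * mat m) 0 0 + ((a • (1 : (Matrix (Fin 2) (Fin 2) F)) + b • mat m) * mat m) 1 1) /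
        (2 * -(mat m).det) = b := by
      rw [div_eq_iff (mul_ne_zero h2 hc0), add_mul, smul_mul_assoc, smul_mul_assoc, one_mul, sq_eq ht]
      simp
      linear_combination a * ht
    show ι _ + ν * ι _ = _
    rw [e1, e2]
  have hmul : ∀ ν : L, ν * ν = ι (-(mat m).det) → ∀ g h : tor m,
      ev (mat (g.1 * h.1)) ν = ev (mat g.1) ν * ev (mat h.1) ν := by
    intro ν hν g h
    obtain ⟨a, b, e⟩ := exists_lin h2 ht g.2
    obtain ⟨a', b', e'⟩ := exists_lin h2 ht h.2
    have e'' : mat (g.1 * h.1) = (a * a' + b * b' * -(mat m).det) • (1 : (Matrix (Fin 2) (Fin 2) F)) + (a * b' + b * a') • mat m := by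
      show mat g.1 * mat h.1 = _
      rw [e, e']
      simp only [add_mul, mul_add, smul_mul_assoc, mul_smul_comm, one_mul, mul_one, sq_eq ht, smul_add,
        smul_smul, add_smul]
      rw [mul_comm a' a, mul_comm a' b, mul_comm b' a,
        show b' * (b * -(mat m).det) = b * b' * -(mat m).det by ring]
      abel
    rw [e, e', e'', hev, hev, hev]
    simp only [map_add, map_mul]
    linear_combination -(ι b * ι b') * hν
  have hone : ∀ ν : L, ev (mat (1 : (GL (Fin (0 + 2)) F))) ν = 1 := fun ν => by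
    have : mat (1 : (GL (Fin (0 + 2)) F)) = (1 : F) • (1 : (Matrix (Fin 2) (Fin 2) F)) + (0 : F) • mat m := by simp [mat]
    rw [this, hev]; simp
  have hne : ∀ ν : L, ν * ν = ι (-(mat m).det) → ∀ g : tor m, ev (mat g.1) ν ≠ 0 := fun ν hν g h0 => by
    have := hmul ν hν g g⁻¹
    rw [h0, zero_mul, ← Subgroup.coe_mul, mul_inv_cancel, Subgroup.coe_one, hone] at this
    exact one_ne_zero this
  have hμ' : -μ * -μ = ι (-(mat m).det) := by rw [neg_mul_neg, ← hμ]
  let ψ : tor m →* L :=
    { toFun := fun g => ev (mat g.1) μ / ev (mat g.1) (-μ)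
      map_one' := by rw [Subgroup.coe_one, hone, hone, div_one]
      map_mul' := fun g h => by rw [Subgroup.coe_mul, hmul μ hμ.symm, hmul (-μ) hμ', div_mul_div_comm] }
  let ψ' : tor m →* Lˣ := ψ.toHomUnits
  obtain ⟨⟨y, g₀, rfl⟩, hy⟩ := IsCyclic.exists_generator (α := ψ'.range)
  refine ⟨g₀.1, g₀.2, fun g hg => ?_⟩
  obtain ⟨i, hi⟩ := Subgroup.mem_zpowers_iff.1 (hy ⟨ψ' ⟨g, hg⟩, ⟨g, hg⟩, rfl⟩)
  refine ⟨-i, ?_⟩
  set k : tor m := ⟨g, hg⟩ * g₀ ^ (-i) with hk
  have hk1 : ψ k = 1 := by
    have e1 : ψ' k = 1 := by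
      have := congrArg Subtype.val hi
      simp only [Subgroup.coe_zpow] at this
      rw [hk, map_mul, map_zpow, ← this, _root_.zpow_neg, mul_inv_cancel]
    exact congrArg Units.val e1
  obtain ⟨a, b, e⟩ := exists_lin h2 ht k.2
  have hb : b = 0 := by
    have h1 : ev (mat k.1) μ = ev (mat k.1) (-μ) := by
      have := hne (-μ) hμ' k
      exact (div_eq_one_iff_eq this).1 hk1
    rw [e, hev, hev] at h1
    have h3 : (2 : L) * (μ * ι b) = 0 := by linear_combination h1
    have h4 : (2 : L) ≠ 0 := fun e0 => h2 (hι (by rw [map_ofNat, e0, map_zero]))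
    exact hι (by rw [map_zero]; exact (mul_eq_zero.1 ((mul_eq_zero.1 h3).resolve_left h4)).resolve_left hμ0)
  rw [show g * g₀.1 ^ (-i) = k.1 by rw [hk, Subgroup.coe_mul, Subgroup.coe_zpow]]
  rw [GeneralLinearGroup.center_eq_range_scalar]
  have ha : a ≠ 0 := fun e0 => det_ne k.1 (by rw [e, e0, hb]; simp)
  refine ⟨Units.mk0 a ha, mat_ext ?_⟩
  rw [e, hb, zero_smul, add_zero]
  show ((GeneralLinearGroup.scalar (Fin (0 + 2)) (Units.mk0 a ha) : (GL (Fin (0 + 2)) F)) : (Matrix (Fin 2) (Fin 2) F)) = _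
  rw [GeneralLinearGroup.coe_scalar, Matrix.scalar_apply, ← smul_one_eq_diagonal, Units.val_mk0]

/-- What conjugates a non-scalar of the centraliser into it sends `m` to `± m`. -/
theorem conj_pm {g h : (GL (Fin (0 + 2)) F)} (hg : g ∈ tor m) (hns : ¬ ∃ a : F, mat g = a • (1 : (Matrix (Fin 2) (Fin 2) F)))
    (hh : h * g * h⁻¹ ∈ tor m) : mat h * mat m = mat m * mat h ∨ mat h * mat m = -(mat m * mat h) := by
  obtain ⟨a, b, e⟩ := exists_lin h2 ht hg
  obtain ⟨a', b', e'⟩ := exists_lin h2 ht hh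
  have hb : b ≠ 0 := fun e0 => hns ⟨a, by rw [e, e0, zero_smul, add_zero]⟩
  have hmat : mat (h * g * h⁻¹) * mat h = mat h * mat g :=
    congrArg Units.val (show h * g * h⁻¹ * h = h * g by group)
  rw [e, e', add_mul, mul_add, smul_mul_assoc, smul_mul_assoc, mul_smul_comm, mul_smul_comm, one_mul,
    mul_one] at hmat
  -- `h m = (α + β m) h`
  set α := (a' - a) / b
  set β := b' / b
  have hα : mat h * mat m = (α • (1 : (Matrix (Fin 2) (Fin 2) F)) + β • mat m) * mat h := by
    have e1 : b • (mat h * mat m) = (a' - a) • mat h + b' • (mat m * mat h) := by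
      rw [sub_smul, sub_add_eq_add_sub, eq_sub_iff_add_eq, add_comm (b • _), hmat]
    rw [← inv_smul_smul₀ hb (mat h * mat m), e1, smul_add, smul_smul, smul_smul, add_mul, smul_mul_assoc,
      smul_mul_assoc, one_mul]
    simp only [α, β, div_eq_mul_inv, mul_comm b⁻¹]
  have hconj : α • (1 : (Matrix (Fin 2) (Fin 2) F)) + β • mat m = mat h * mat m * mat h⁻¹ := by
    rw [hα, mul_assoc, show mat h * mat h⁻¹ = 1 from h.mul_inv, mul_one]
  have htr : (α • (1 : (Matrix (Fin 2) (Fin 2) F)) + β • mat m).trace = 0 := by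
    rw [hconj, Matrix.trace_mul_comm, ← mul_assoc, show mat h⁻¹ * mat h = 1 from h.inv_mul, one_mul,
      Matrix.trace_fin_two, ht]
  have hα0 : α = 0 := by
    rw [Matrix.trace_fin_two] at htr
    simp at htr
    have : (2 : F) * α = 0 := by linear_combination htr - β * ht
    exact (mul_eq_zero.1 this).resolve_left h2
  rw [hα0, zero_smul, zero_add, smul_mul_assoc] at hα
  have hβ : β * β = 1 := by
    have e1 := congrArg Matrix.det hα
    rw [Matrix.det_smul, Matrix.det_mul, Matrix.det_mul, Fintype.card_fin, mul_comm (mat h).det] at e1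
    have e2 : β ^ 2 * ((mat m).det * (mat h).det) = 1 * ((mat m).det * (mat h).det) := by
      rw [one_mul, ← e1]
    rw [← pow_two]
    exact mul_right_cancel₀ (mul_ne_zero (det_ne m) (det_ne h)) e2
  rcases mul_self_eq_one_iff.1 hβ with e1 | e1 <;> rw [e1] at hα
  · left; rwa [one_smul] at hα
  · right; rwa [neg_one_smul] at hα

/-- Some element anticommutes with `m`. -/
theorem exists_anti : ∃ w : (GL (Fin (0 + 2)) F), mat w * mat m = -(mat m * mat w) := by
  set A := mat m with hA
  have key : ∀ (α β γ : F), 2 * A 0 0 * α + A 0 1 * γ + A 1 0 * β = 0 → α ^ 2 + β * γ ≠ 0 →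
      ∃ w : (GL (Fin (0 + 2)) F), mat w * A = -(A * mat w) := by
    intro α β γ h1 h0
    refine ⟨GeneralLinearGroup.mkOfDetNeZero !![α, β; γ, -α] (by
      rw [Matrix.det_fin_two_of]; intro e; exact h0 (by linear_combination -e)), ?_⟩
    show !![α, β; γ, -α] * A = -(A * !![α, β; γ, -α])
    ext i j
    fin_cases i <;> fin_cases j <;> simp [Matrix.mul_apply, Fin.sum_univ_two]
    · linear_combination h1
    · linear_combination β * ht
    · linear_combination γ * ht
    · linear_combination h1 - 2 * α * ht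
  by_cases ha : A 0 0 = 0
  · refine key 1 0 0 (by rw [ha]; ring) (by simp)
  · by_cases he : A 1 0 = 0
    · by_cases hb : A 0 1 = 0
      · exact key 0 1 1 (by rw [he, hb]; ring) (by simp)
      · exact key (-(A 0 1) / (2 * A 0 0)) 0 1 (by rw [he]; field_simp; ring)
          (by simp [hb, ha, h2])
    · exact key (-(A 1 0) / (2 * A 0 0)) 1 0 (by field_simp; ring) (by simp [he, ha, h2])

/-- A non-scalar of the centraliser fixes exactly the points fixed by `m`. -/
theorem fixed_eq {g : (GL (Fin (0 + 2)) F)} (hg : g ∈ tor m) (hns : ¬ ∃ a : F, mat g = a • (1 : (Matrix (Fin 2) (Fin 2) F))) :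
    MulAction.fixedBy (QGroup.PtLine.Ax F)
        (semi g (RingEquiv.refl F) : MulAut (ProjectiveSpecialLinearGroup (Fin 2) F)) =
      MulAction.fixedBy (QGroup.PtLine.Ax F)
        (semi m (RingEquiv.refl F) : MulAut (ProjectiveSpecialLinearGroup (Fin 2) F)) := by
  obtain ⟨a, b, e⟩ := exists_lin h2 ht hg
  have hb : b ≠ 0 := fun e0 => hns ⟨a, by rw [e, e0, zero_smul, add_zero]⟩
  have e' : mat m = (-(a / b)) • (1 : (Matrix (Fin 2) (Fin 2) F)) + b⁻¹ • mat g := by
    rw [e, smul_add, smul_smul, smul_smul, inv_mul_cancel₀ hb, one_smul, ← add_assoc, ← add_smul,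
      show -(a / b) + b⁻¹ * a = 0 by rw [div_eq_mul_inv]; ring, zero_smul, zero_add]
  ext K
  obtain ⟨v, hv, rfl⟩ := QGroup.PtLine.exists_point K
  constructor <;> intro hK <;> refine Subtype.ext ?_
  · exact QGroup.map_cgrp_of_poly e' hv (congrArg Subtype.val hK)
  · exact QGroup.map_cgrp_of_poly e hv (congrArg Subtype.val hK)

end Cfsg.Agent.SDKeystone.Torus
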