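import Cfsg.Agent.EqLemmas
import Cfsg.Agent.Lib.SDKeystone.Budget.TorusGL
import Cfsg.Agent.Lib.SDKeystone.Budget.Setting
import Cfsg.Agent.Lib.QGroup.Structure
import Cfsg.Agent.Lib.GWCons.InvolAut
import Cfsg.Agent.Lib.PSL2.Soluble
import Cfsg.Agent.Lib.PSL2.RootGen
import Cfsg.Agent.Lib.PSL2.Involutions
import Cfsg.Agent.Lib.Linear.SLn

/-!
# `Budget.Line` from a semidihedral Sylow 2-subgroup 

`H` has trivial core, a central involution `z`, a normal `N ≅ SL₂(q)`, semidihedral Sylow 2-subgroups and only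
diagonal automorphisms; `t ≠ z` is an involution of `S` with a conjugate `t z`.

* `line` : `Budget.Line H (Ax F) t ⟨z⟩ 1 q o δ`, the points acted on through `rho`;
* `eq_top_of_torus_le` : a normal subgroup containing the torus is everything.
-/

set_option autoImplicit false
set_option linter.unusedSectionVars false
set_option linter.style.haveILetI false

open Matrix
open scoped MatrixGroups commutatorElement

namespace Cfsg.Agent.SDKeystone.Budget

open Cfsg.Agent.PSL2 (SL2 PSL2 upT loT)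
open Cfsg.Agent.AutPSL (semi semiSL)
open Cfsg.Agent.QGroup (Amb rho rhoSL)
open Cfsg.Agent.QGroup.PtLine (Ax point)
open Cfsg.Agent.SDKeystone.Torus (mat tor)

universe u

variable {F : Type} [Field F] [Fintype F]

/-- The diagonal automorphism of an element of `GL₂`. -/
noncomputable def sem : GL (Fin (0 + 2)) F →* MulAut (PSL2 F) :=
  MonoidHom.mk' (fun g => semi g (RingEquiv.refl F)) fun g h => (AutPSL.semi_refl_mul g h).symm

theorem sem_apply (g : GL (Fin (0 + 2)) F) : sem g = semi g (RingEquiv.refl F) := rfl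

theorem sem_eq_one_iff {g : GL (Fin (0 + 2)) F} :
    sem g = 1 ↔ g ∈ Subgroup.center (GL (Fin (0 + 2)) F) :=
  AutPSL.semi_eq_one_iff.trans (and_iff_right rfl)

theorem center_iff {g : GL (Fin (0 + 2)) F} :
    g ∈ Subgroup.center (GL (Fin (0 + 2)) F) ↔ ∃ a : F, mat g = a • (1 : Matrix (Fin 2) (Fin 2) F) := by
  rw [GeneralLinearGroup.center_eq_range_scalar]
  constructor
  · rintro ⟨a, rfl⟩
    refine ⟨(a : F), ?_⟩
    show ((GeneralLinearGroup.scalar (Fin (0 + 2)) a : GL (Fin (0 + 2)) F) : Matrix (Fin 2) (Fin 2) F) = _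
    rw [GeneralLinearGroup.coe_scalar, Matrix.scalar_apply, ← smul_one_eq_diagonal]
  · rintro ⟨a, ha⟩
    have ha0 : a ≠ 0 := fun e => Torus.det_ne g (by rw [ha, e]; simp)
    refine ⟨Units.mk0 a ha0, Torus.mat_ext ?_⟩
    rw [ha]
    show ((GeneralLinearGroup.scalar (Fin (0 + 2)) (Units.mk0 a ha0) : GL (Fin (0 + 2)) F) :
      Matrix (Fin 2) (Fin 2) F) = _
    rw [GeneralLinearGroup.coe_scalar, Matrix.scalar_apply, ← smul_one_eq_diagonal, Units.val_mk0]

theorem card_center_gl : Nat.card (Subgroup.center (GL (Fin (0 + 2)) F)) = Nat.card F - 1 := by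
  rw [GeneralLinearGroup.center_eq_range_scalar]
  refine (Nat.card_congr (MonoidHom.ofInjective (f := GeneralLinearGroup.scalar (Fin (0 + 2)))
    (fun a b e => Units.ext ?_)).toEquiv).symm.trans (Nat.card_units F)
  have h := congrArg (fun g : GL (Fin (0 + 2)) F => mat g 0 0) e
  simpa [Torus.mat, Matrix.scalar_apply] using h

theorem mem_normalizer_of_conj {G : Type*} [Group G] [Finite G] {A : Subgroup G} {g : G}
    (h : ∀ x ∈ A, g * x * g⁻¹ ∈ A) : g ∈ Subgroup.normalizer (A : Set G) :=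
  have := (Set.toFinite (A : Set G)).to_subtype
  Subgroup.mem_normalizer_fintype h

theorem neg_one_mem_commutator (hodd : Odd (Nat.card F)) : (-1 : SL2 F) ∈ _root_.commutator (SL2 F) := by
  have h2 : (2 : F) ≠ 0 := PSL2.two_ne_zero_iff_odd.2 hodd
  obtain ⟨a, b, hab⟩ := PSL2.exists_sq_add_sq_eq (F := F) h2 (-1)
  let W : SL2 F := ⟨!![0, 1; -1, 0], by simp [Matrix.det_fin_two_of]⟩
  let W' : SL2 F := ⟨!![a, b; b, -a], by rw [Matrix.det_fin_two_of]; linear_combination -hab⟩
  have hc : ⁅W, W'⁆ = -1 := by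
    rw [commutatorElement_def, mul_inv_eq_iff_eq_mul, mul_inv_eq_iff_eq_mul]
    refine Subtype.ext ?_
    rw [Matrix.SpecialLinearGroup.coe_mul, Matrix.SpecialLinearGroup.coe_mul,
      Matrix.SpecialLinearGroup.coe_mul, Matrix.SpecialLinearGroup.coe_neg,
      Matrix.SpecialLinearGroup.coe_one]
    ext i j
    fin_cases i <;> fin_cases j <;> simp [W, W', Matrix.mul_apply, Fin.sum_univ_two]
  rw [← hc]
  exact Subgroup.commutator_mem_commutator (Subgroup.mem_top _) (Subgroup.mem_top _)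

/-- Conjugates of the upper root group generate `SL₂`. -/
theorem eq_top_of_upT_mem (K : Subgroup (SL2 F)) [K.Normal] (h : ∀ b : F, upT b ∈ K) : K = ⊤ := by
  rw [← top_le_iff, ← Linear.closure_slTvSet, Subgroup.closure_le]
  rintro x ⟨i, j, hij, c, rfl⟩
  let W : SL2 F := ⟨!![0, 1; -1, 0], by simp [Matrix.det_fin_two_of]⟩
  fin_cases i <;> fin_cases j
  · exact absurd rfl hij
  · rw [SetLike.mem_coe, show Matrix.SpecialLinearGroup.transvection hij c = upT c from ?_]
    exact h c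
    refine Subtype.ext (Matrix.ext fun a b => ?_)
    fin_cases a <;> fin_cases b <;>
      simp [upT, Matrix.SpecialLinearGroup.transvection, Matrix.transvection, Matrix.single]
  · rw [SetLike.mem_coe, show Matrix.SpecialLinearGroup.transvection hij c = W * upT (-c) * W⁻¹ from ?_]
    exact ‹K.Normal›.conj_mem _ (h (-c)) W
    refine eq_mul_inv_of_mul_eq (Subtype.ext ?_)
    rw [Matrix.SpecialLinearGroup.coe_mul, Matrix.SpecialLinearGroup.coe_mul]
    refine Matrix.ext fun a b => ?_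
    fin_cases a <;> fin_cases b <;>
      simp [upT, W, Matrix.SpecialLinearGroup.transvection, Matrix.transvection, Matrix.single,
        Matrix.mul_apply, Fin.sum_univ_two]
  · exact absurd rfl hij

theorem odd_orderOf_upT {A : Type*} [Group A] (hodd : Odd (Nat.card F)) (γ : GL (Fin (0 + 2)) F) (b : F)
    (e : A ≃* SL2 F) : Odd (orderOf (e.symm (semiSL γ (RingEquiv.refl F) (upT b)))) := by
  rw [MulEquiv.orderOf_eq, MulEquiv.orderOf_eq]
  refine hodd.of_dvd_nat (orderOf_dvd_of_pow_eq_one ?_)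
  have h0 : upT (0 : F) = (1 : SL2 F) := by
    refine Subtype.ext (Matrix.ext fun i j => ?_)
    fin_cases i <;> fin_cases j <;> simp [upT]
  have h : ∀ k : ℕ, (upT b : SL2 F) ^ k = upT ((k : F) * b) := fun k => by
    induction k with
    | zero => rw [pow_zero, Nat.cast_zero, zero_mul]; exact h0.symm
    | succ k ih => rw [pow_succ, ih, ← PSL2.upT_add]; push_cast; ring_nf
  rw [h, Nat.card_eq_fintype_card, FiniteField.cast_card_eq_zero, zero_mul, h0]

/-- An alternating biadditive form invariant under all scalars is trivial. -/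
theorem eq_one_of_scaled (B : F → F → ℂ) (hodd : Odd (Nat.card F))
    (hl : ∀ a b c, B (a + b) c = B a c * B b c) (hr : ∀ a b c, B a (b + c) = B a b * B a c)
    (halt : ∀ a, B a a = 1) (hs : ∀ c : F, c ≠ 0 → ∀ a b, B (c * a) (c * b) = B a b) (a b : F) : B a b = 1 := by
  classical
  set h : F → ℂ := fun x => B 1 x with hh
  have hadd : ∀ x y, h (x + y) = h x * h y := hr 1
  have hinv : ∀ x, x ≠ 0 → h x * h x⁻¹ = 1 := fun x hx => by
    have e1 : B x 1 = h x⁻¹ := by
      rw [← hs x⁻¹ (inv_ne_zero hx) x 1, inv_mul_cancel₀ hx, mul_one]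
    have e2 := halt (1 + x)
    rw [hl, hr, hr, halt, halt, one_mul, mul_one, e1] at e2
    exact e2
  have h1 : h 1 = 1 := halt 1
  have h0 : h 0 = 1 := by
    have e1 := hadd 0 1
    rw [zero_add, h1, mul_one] at e1
    exact e1.symm
  have hsub : ∀ x, h (x - 1) = h x := fun x => by
    have e1 := hadd (x - 1) 1
    rw [sub_add_cancel, h1, mul_one] at e1
    exact e1.symm
  -- `h (x²) = h x`
  have hsq : ∀ x : F, h (x * x) = h x := fun x => by
    by_cases hx : x = 0
    · rw [hx, mul_zero]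
    by_cases hx1 : x - 1 = 0
    · rw [sub_eq_zero.1 hx1, mul_one]
    have hne : x * x - x ≠ 0 := by rw [show x * x - x = x * (x - 1) by ring]; exact mul_ne_zero hx hx1
    have e1 : (x - 1)⁻¹ = x⁻¹ + (x * x - x)⁻¹ := by
      rw [show x * x - x = x * (x - 1) by ring]
      field_simp
      ring
    have e2 : h (x - 1)⁻¹ = h x⁻¹ * h (x * x - x)⁻¹ := by rw [e1, hadd]
    have e3 : h (x * x - x) = 1 := by
      have a1 := hinv _ hx1
      have a2 := hinv _ hx
      have a3 := hinv _ hne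
      rw [hsub, e2] at a1
      calc h (x * x - x) = h (x * x - x) * (h x * (h x⁻¹ * h (x * x - x)⁻¹)) := by rw [a1, mul_one]
        _ = (h x * h x⁻¹) * (h (x * x - x) * h (x * x - x)⁻¹) := by ring
        _ = 1 := by rw [a2, a3, one_mul]
    rw [show x * x = (x * x - x) + x by ring, hadd, e3, one_mul]
  have hone : ∀ x, h x = 1 := fun x => by
    have e1 : h x * h x = 1 := by
      have e2 : h (-x) = h x := by rw [← hsq, neg_mul_neg, hsq]
      have e3 := hadd x (-x)
      rw [add_neg_cancel, h0, e2] at e3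
      exact e3.symm
    have e4 : ∀ k : ℕ, h ((k : F) * x) = h x ^ k := fun k => by
      induction k with
      | zero => rw [Nat.cast_zero, zero_mul, h0, pow_zero]
      | succ k ih => push_cast; rw [add_mul, one_mul, hadd, ih, pow_succ]
    have e5 := e4 (Nat.card F)
    rw [Nat.card_eq_fintype_card, FiniteField.cast_card_eq_zero, zero_mul, h0, ← Nat.card_eq_fintype_card] at e5
    obtain ⟨k, hk⟩ := hodd
    rw [hk, pow_succ, pow_mul, pow_two, e1, one_pow, one_mul] at e5
    exact e5.symm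
  by_cases ha : a = 0
  · subst ha
    have e1 := hl 0 1 b
    rw [zero_add] at e1
    have e2 : h b = 1 := hone b
    simp only [hh] at e2
    rw [e2, mul_one] at e1
    exact e1.symm
  · rw [← hs a⁻¹ (inv_ne_zero ha) a b, inv_mul_cancel₀ ha]
    exact hone _

/-- Only scalars fix every point. -/
theorem rho_eq_one_of_fix {H : Type u} [Group H] {N : Subgroup H} [N.Normal] {e : N ≃* SL2 F} {x : H}
    {g : GL (Fin (0 + 2)) F} (hg : rho e x = semi g (RingEquiv.refl F))
    (hh : ∀ K : Ax F, rho e x • K = K) : rho e x = 1 := by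
  have hfx : ∀ (v : Fin 2 → F) (hv : v ≠ 0),
      AutPSL.Par ((g : Matrix (Fin (0 + 2)) (Fin (0 + 2)) F) *ᵥ v) v := fun v hv => by
    have h1 := hh (point v hv)
    rw [hg] at h1
    exact (QGroup.PtLine.semi_refl_smul_eq_iff g hv hv).1 h1
  obtain ⟨a, ha, e0⟩ := hfx ![1, 0] (by simp)
  obtain ⟨b, hb, e1⟩ := hfx ![0, 1] (by simp)
  obtain ⟨c, hc, e2⟩ := hfx ![1, 1] (by simp)
  have q1 := congrFun e0 0
  have q2 := congrFun e0 1
  have q3 := congrFun e1 0
  have q4 := congrFun e1 1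
  have q5 := congrFun e2 0
  have q6 := congrFun e2 1
  simp [ha, hb] at q1 q2 q3 q4 q5 q6
  refine (show rho e x = sem g from hg).trans (sem_eq_one_iff.2 (center_iff.2 ⟨mat g 0 0, ?_⟩))
  have h11 : mat g 1 1 = mat g 0 0 := by
    have e5 : (1 : F) = c * mat g 0 0 := by rw [q3, add_zero] at q5; exact q5
    have e6 : (1 : F) = c * mat g 1 1 := by rw [q2, zero_add] at q6; exact q6
    exact mul_left_cancel₀ hc (e6.symm.trans e5)
  ext i j
  fin_cases i <;> fin_cases j <;> simp [h11, q2, q3]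

theorem semiSL_upT {g d γ : GL (Fin (0 + 2)) F} (hg : g * γ = γ * d) {α β : F}
    (hd : mat d = !![α, 0; 0, β]) (b : F) :
    semiSL g (RingEquiv.refl F) (semiSL γ (RingEquiv.refl F) (upT b) : SL2 F) =
      semiSL γ (RingEquiv.refl F) (upT (α / β * b)) := by
  have hβ : β ≠ 0 := fun e => Torus.det_ne d (by rw [hd, e, Matrix.det_fin_two_of]; ring)
  have hα : α ≠ 0 := fun e => Torus.det_ne d (by rw [hd, e, Matrix.det_fin_two_of]; ring)
  have hfix : semiSL d (RingEquiv.refl F) (upT b) = (upT (α / β * b) : SL2 F) := by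
    refine Subtype.ext ?_
    show mat d * (upT b : SL2 F).1.map (RingEquiv.refl F) *
      ((d⁻¹ : GL (Fin (0 + 2)) F) : Matrix (Fin (0 + 2)) (Fin (0 + 2)) F) = _
    rw [RingEquiv.coe_refl, Matrix.map_id]
    have e1 : mat d * (upT b : SL2 F).1 = (upT (α / β * b) : SL2 F).1 * mat d := by
      rw [hd]
      ext i j
      fin_cases i <;> fin_cases j <;> simp [upT, Matrix.mul_apply, Fin.sum_univ_two]
      field_simp
    rw [e1, Matrix.mul_assoc, show mat d * ((d⁻¹ : GL (Fin (0 + 2)) F) : Matrix (Fin (0 + 2)) (Fin (0 + 2)) F) = 1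
      from d.mul_inv, Matrix.mul_one]
  rw [← hfix, AutPSL.semiSL_mul, AutPSL.semiSL_mul]
  congr 1
  have hid : ∀ x : GL (Fin (0 + 2)) F,
      Matrix.GeneralLinearGroup.map ((RingEquiv.refl F : F ≃+* F) : F →+* F) x = x :=
    fun x => Torus.mat_ext (Matrix.ext fun _ _ => rfl)
  rw [hid, hid, hg]

section

variable {H : Type u} [Group H] [Finite H] {S : Sylow 2 H} {z t : H} {N : Subgroup H} [hNn : N.Normal]
  (e : N ≃* SL2 F)

/-- The hypotheses on `H`. -/
structure DiagSD (S : Sylow 2 H) (z t : H) (e : N ≃* SL2 F) : Prop where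
  amb : Amb S z
  odd : Odd (Nat.card F)
  qd : Cfsg.IsQuasiDihedral (S : Subgroup H)
  diag : ∀ h, ∃ g : GL (Fin (0 + 2)) F, rho e h = semi g (RingEquiv.refl F)
  t_mem : t ∈ (S : Subgroup H)
  t_two : orderOf t = 2
  t_ne : t ≠ z
  tz : ∃ h : H, h * t * h⁻¹ = t * z

variable {e} (D : DiagSD S z t e)
include D

theorem DiagSD.two_ne : (2 : F) ≠ 0 := PSL2.two_ne_zero_iff_odd.2 D.odd

theorem DiagSD.ker_iff (h : H) : rho e h = 1 ↔ h ∈ Subgroup.zpowers z := by
  haveI := Fact.mk Nat.prime_two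
  constructor
  · intro hh
    obtain ⟨x, hx, rfl⟩ := (QGroup.rho_eq_one e D.amb D.odd h).1 hh
    obtain ⟨n, ⟨d⟩⟩ := QDWreath.nonempty_qdData D.qd
    have h1 := orderOf_dvd_natCard (⟨x, hx⟩ : Subgroup.center (S : Subgroup H))
    rw [Subgroup.orderOf_mk, d.card_center] at h1
    rcases (Nat.dvd_prime Nat.prime_two).1 h1 with e1 | e1
    · rw [orderOf_eq_one_iff.1 e1]; exact one_mem _
    · rw [QGroup.eq_z_of_center D.amb hx e1]; exact Subgroup.mem_zpowers z
  · intro hh
    obtain ⟨k, rfl⟩ := Subgroup.mem_zpowers_iff.1 hh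
    rw [map_zpow, (QGroup.rho_eq_one_iff e D.odd z).2 (Subgroup.center_le_centralizer _ D.amb.zc), _root_.one_zpow]

theorem DiagSD.rho_t : ∃ m : GL (Fin (0 + 2)) F, rho e t = sem m ∧
    mat m 0 0 + mat m 1 1 = 0 ∧ ¬ IsSquare (mat m).det := by
  obtain ⟨m, hm, htr, hns, -⟩ := QGroup.rho_involution e D.amb D.odd
    (s := (⟨t, D.t_mem⟩ : (S : Subgroup H))) (by rw [Subgroup.orderOf_mk]; exact D.t_two) D.t_ne
  exact ⟨m, hm, htr, hns D.qd⟩

theorem DiagSD.surj (g : GL (Fin (0 + 2)) F) : ∃ h : H, rho e h = sem g := by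
  obtain ⟨m, hm, -, hns⟩ := D.rho_t
  have hsq : ∀ k : GL (Fin (0 + 2)) F, IsSquare (mat k).det → ∃ h : H, rho e h = sem k := by
    intro k hk
    obtain ⟨y, hy⟩ := (QGroup.mem_range_conj_iff k).2 hk
    obtain ⟨y, rfl⟩ := QuotientGroup.mk_surjective y
    exact ⟨(e.symm y : N), by rw [QGroup.rho_coe, e.apply_symm_apply, sem_apply, hy]⟩
  by_cases hg : IsSquare (mat g).det
  · exact hsq g hg
  · obtain ⟨h, hh⟩ := hsq (g * m) (by
      show IsSquare (mat g * mat m).det
      rw [Matrix.det_mul]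
      exact AutPSL.isSquare_mul_of_nonsq hg hns)
    exact ⟨h * t⁻¹, by rw [map_mul, map_inv, hh, hm, map_mul, mul_inv_cancel_right]⟩

theorem DiagSD.card_H : Nat.card H = 2 * (Nat.card F * (Nat.card F ^ 2 - 1)) := by
  have hker : (rho e).ker = Subgroup.zpowers z := Subgroup.ext fun h => D.ker_iff h
  have hran : (rho e).range = (sem (F := F)).range := by
    refine le_antisymm ?_ ?_
    · rintro _ ⟨h, rfl⟩
      obtain ⟨g, hg⟩ := D.diag h
      exact ⟨g, hg.symm⟩
    · rintro _ ⟨g, rfl⟩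
      obtain ⟨h, hh⟩ := D.surj g
      exact ⟨h, hh⟩
  have h1 : Nat.card H = 2 * Nat.card (sem (F := F)).range := by
    rw [← hran, ← Subgroup.card_mul_index (rho e).ker, Subgroup.index_ker, hker, Nat.card_zpowers, D.amb.z2]
  have h2 : Nat.card (GL (Fin (0 + 2)) F) = (Nat.card F - 1) * Nat.card (sem (F := F)).range := by
    have hk : (sem (F := F)).ker = Subgroup.center (GL (Fin (0 + 2)) F) := Subgroup.ext fun g => sem_eq_one_iff
    rw [← Subgroup.card_mul_index (sem (F := F)).ker, Subgroup.index_ker, hk, card_center_gl]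
  rw [show Nat.card (GL (Fin (0 + 2)) F) = _ from GLOrder.card_GL_two (F := F)] at h2
  have hq : 0 < Nat.card F - 1 := by have := Finite.one_lt_card (α := F); omega
  rw [h1]
  congr 1
  refine (Nat.eq_of_mul_eq_mul_left hq ?_).symm
  rw [← h2]; ring

variable {m : GL (Fin (0 + 2)) F} (hm : rho e t = sem m) (htr : mat m 0 0 + mat m 1 1 = 0)
include hm htr

omit hm in
theorem DiagSD.not_scalar : ¬ ∃ a : F, mat m = a • (1 : Matrix (Fin 2) (Fin 2) F) :=
  SylowCyclicSuzuki.not_scalar D.two_ne htr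

theorem DiagSD.tor_lift_comm {h h' : H} {g g' : GL (Fin (0 + 2)) F} (hg : g ∈ tor m) (hg' : g' ∈ tor m)
    (eh : rho e h = sem g) (eh' : rho e h' = sem g') : Commute h h' := by
  -- a central extension of a cyclic group
  obtain ⟨g₀, hg₀, hgen⟩ := Torus.tor_cyclic_mod D.two_ne htr
  obtain ⟨a, ha⟩ := D.surj g₀
  have key : ∀ {x : H} {k : GL (Fin (0 + 2)) F}, k ∈ tor m → rho e x = sem k →
      ∃ i : ℤ, ∃ ζ ∈ Subgroup.zpowers z, x = a ^ i * ζ := by
    intro x k hk ex
    obtain ⟨i, hi⟩ := hgen k hk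
    refine ⟨-i, (a ^ (-i))⁻¹ * x, ?_, by group⟩
    rw [← D.ker_iff, map_mul, map_inv, map_zpow, ha, ex, ← map_zpow, ← map_inv, ← map_mul, _root_.zpow_neg,
      inv_inv]
    refine sem_eq_one_iff.2 ?_
    rwa [Torus.tor_comm D.two_ne htr (Subgroup.zpow_mem _ hg₀ i) hk]
  have hc : ∀ ζ ∈ Subgroup.zpowers z, ∀ x : H, Commute ζ x := fun ζ hζ x =>
    (Subgroup.mem_center_iff.1 (Subgroup.zpowers_le.2 D.amb.zc hζ) x).symm
  obtain ⟨i, ζ, hζ, rfl⟩ := key hg eh
  obtain ⟨j, ζ', hζ', rfl⟩ := key hg' eh'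
  exact (((Commute.refl a).zpow_zpow i j).mul_right (hc ζ' hζ' _).symm).mul_left (hc ζ hζ _)

omit htr in
theorem DiagSD.t_lift {h : H} {g : GL (Fin (0 + 2)) F} (eh : rho e h = sem g) (hc : Commute h t) :
    mat g * mat m = mat m * mat g ∨ mat g * mat m = -(mat m * mat g) := by
  have h1 := congrArg (rho e) hc.eq
  rw [map_mul, map_mul, eh, hm, ← map_mul, ← map_mul, ← inv_mul_eq_one, ← map_inv, ← map_mul,
    sem_eq_one_iff, center_iff] at h1
  obtain ⟨a, ha⟩ := h1
  have e1 : mat m * mat g = a • (mat g * mat m) := by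
    have h2 : mat (g * m) * mat ((g * m)⁻¹ * (m * g)) = mat (m * g) :=
      congrArg Units.val (mul_inv_cancel_left (g * m) (m * g))
    rw [ha, mul_smul_comm, mul_one] at h2
    exact h2.symm
  have ha2 : a * a = 1 := by
    have h3 := congrArg Matrix.det e1
    rw [Matrix.det_smul, Matrix.det_mul, Matrix.det_mul, Fintype.card_fin, mul_comm (mat m).det] at h3
    rw [← pow_two]
    exact mul_right_cancel₀ (mul_ne_zero (Torus.det_ne g) (Torus.det_ne m)) (h3.symm.trans (one_mul _).symm)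
  rcases mul_self_eq_one_iff.1 ha2 with e2 | e2 <;> rw [e2] at e1
  · left; rw [e1, one_smul]
  · right; rw [e1, neg_one_smul, neg_neg]

/-- An element sending `t` to `t z` anticommutes with `m`. -/
theorem DiagSD.exists_anti_lift : ∃ (h₀ : H) (g₀ : GL (Fin (0 + 2)) F), h₀ * t * h₀⁻¹ = t * z ∧
    rho e h₀ = sem g₀ ∧ mat g₀ * mat m = -(mat m * mat g₀) := by
  obtain ⟨h₀, hh₀⟩ := D.tz
  obtain ⟨g₀, hg₀⟩ := D.diag h₀
  refine ⟨h₀, g₀, hh₀, hg₀, ?_⟩
  have h1 : sem g₀ * sem m * (sem g₀)⁻¹ = sem m := by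
    have := congrArg (rho e) hh₀
    rwa [map_mul, map_mul, map_inv, map_mul, (D.ker_iff z).2 (Subgroup.mem_zpowers z), mul_one,
      hg₀, hm] at this
  rw [← map_mul, ← map_inv, ← map_mul, ← inv_mul_eq_one, ← map_inv, ← map_mul, sem_eq_one_iff] at h1
  have hin : g₀ * m * g₀⁻¹ ∈ tor m := by
    rw [tor, Subgroup.mem_centralizer_singleton_iff]
    have h2 := Subgroup.mem_center_iff.1 h1 m
    have e3 : (g₀ * m * g₀⁻¹)⁻¹ * m * m = m * ((g₀ * m * g₀⁻¹)⁻¹ * m) := h2.symm
    have e4 : (g₀ * m * g₀⁻¹)⁻¹ * m = m * (g₀ * m * g₀⁻¹)⁻¹ := by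
      refine mul_right_cancel (b := m) ?_
      rw [e3]; group
    exact (Commute.inv_left_iff.1 (show Commute (g₀ * m * g₀⁻¹)⁻¹ m from e4)).eq
  rcases Torus.conj_pm D.two_ne htr (g := m) (Torus.mem_tor.2 rfl) (D.not_scalar htr) hin with hc | hc
  · exfalso
    have hct := D.tor_lift_comm hm htr (Torus.mem_tor.2 hc) (Torus.mem_tor.2 rfl) hg₀ hm
    have h3 : t * z = t := by rw [← hh₀, hct.eq, mul_inv_cancel_right]
    have h4 := D.amb.z2
    rw [show z = 1 from mul_left_cancel (h3.trans (mul_one t).symm), orderOf_one] at h4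
    omega
  · exact hc

theorem DiagSD.mem_torus_iff (h : H) :
    h ∈ Subgroup.centralizer ({t} : Set H) ↔ ∃ g ∈ tor m, rho e h = sem g := by
  rw [Subgroup.mem_centralizer_singleton_iff]
  constructor
  · intro hc
    obtain ⟨g, hg⟩ := D.diag h
    refine ⟨g, Torus.mem_tor.2 ?_, hg⟩
    rcases D.t_lift hm hg hc with h1 | h1
    · exact h1
    exfalso
    obtain ⟨h₀, g₀, hh₀, hg₀, hanti⟩ := D.exists_anti_lift hm htr
    have hgg : g₀ * g ∈ tor m := Torus.mem_tor.2 (by
      show mat g₀ * mat g * mat m = mat m * (mat g₀ * mat g)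
      rw [Matrix.mul_assoc, h1, Matrix.mul_neg, ← Matrix.mul_assoc, hanti, Matrix.neg_mul, neg_neg,
        Matrix.mul_assoc])
    have hk := D.tor_lift_comm hm htr hgg (Torus.mem_tor.2 rfl) (h := h₀ * h)
      (by rw [map_mul, hg₀, show rho e h = sem g from hg, map_mul]) hm
    have h5 : h₀ * t = t * h₀ := by
      refine mul_right_cancel (b := h) ?_
      calc h₀ * t * h = h₀ * (h * t) := by rw [mul_assoc, hc]
        _ = t * (h₀ * h) := by rw [← mul_assoc]; exact hk.eq
        _ = _ := (mul_assoc _ _ _).symm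
    have h3 : t * z = t := by rw [← hh₀, h5, mul_inv_cancel_right]
    have h4 := D.amb.z2
    rw [show z = 1 from mul_left_cancel (h3.trans (mul_one t).symm), orderOf_one] at h4
    omega
  · rintro ⟨g, hg, eh⟩
    exact (D.tor_lift_comm hm htr hg (Torus.mem_tor.2 rfl) eh hm).eq

theorem DiagSD.torus_card {δ : ℤ} (hs : IsSquare (-(mat m).det) → δ = 1)
    (hn : ¬ IsSquare (-(mat m).det) → δ = -1) :
    (Nat.card (Subgroup.centralizer ({t} : Set H)) : ℤ) = 2 * ((Nat.card F : ℤ) - δ) := by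
  set A := Subgroup.centralizer ({t} : Set H) with hA
  have hq : 0 < Nat.card F - 1 := by have := Finite.one_lt_card (α := F); omega
  have hran : ((rho e).comp A.subtype).range = ((sem (F := F)).comp (tor m).subtype).range := by
    refine le_antisymm ?_ ?_
    · rintro _ ⟨h, rfl⟩
      obtain ⟨g, hg, eh⟩ := (D.mem_torus_iff hm htr h).1 h.2
      exact ⟨⟨g, hg⟩, eh.symm⟩
    · rintro _ ⟨g, rfl⟩
      obtain ⟨h, hh⟩ := D.surj (g : GL (Fin (0 + 2)) F)
      exact ⟨⟨h, (D.mem_torus_iff hm htr h).2 ⟨g, g.2, hh⟩⟩, hh⟩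
  have hk1 : Nat.card ((rho e).comp A.subtype).ker = 2 := by
    refine Eq.trans ?_ ((Nat.card_zpowers z).trans D.amb.z2)
    have hzA : Subgroup.zpowers z ≤ A := Subgroup.zpowers_le.2
      (Subgroup.mem_centralizer_singleton_iff.2 (Subgroup.mem_center_iff.1 D.amb.zc t).symm)
    refine Eq.trans (congrArg (fun K : Subgroup A => Nat.card K) (?_ : _ = (Subgroup.zpowers z).subgroupOf A))
      (Nat.card_congr (Subgroup.subgroupOfEquivOfLe hzA).toEquiv)
    ext h
    exact D.ker_iff h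
  have hk2 : Nat.card ((sem (F := F)).comp (tor m).subtype).ker = Nat.card F - 1 := by
    have hle : Subgroup.center (GL (Fin (0 + 2)) F) ≤ tor m := Subgroup.center_le_centralizer _
    rw [← card_center_gl]
    refine Eq.trans (congrArg (fun K : Subgroup (tor m) => Nat.card K)
      (?_ : _ = (Subgroup.center (GL (Fin (0 + 2)) F)).subgroupOf (tor m)))
      (Nat.card_congr (Subgroup.subgroupOfEquivOfLe hle).toEquiv)
    ext g
    exact sem_eq_one_iff
  have h1 := Subgroup.card_mul_index ((rho e).comp A.subtype).ker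
  rw [Subgroup.index_ker, hk1, hran] at h1
  have h2 := Subgroup.card_mul_index ((sem (F := F)).comp (tor m).subtype).ker
  rw [Subgroup.index_ker, hk2] at h2
  have h3 := Torus.card_tor D.two_ne htr hs hn
  rw [← h2] at h3
  push_cast [Nat.cast_sub (show 1 ≤ Nat.card F by omega)] at h3
  rw [← h1]
  push_cast
  congr 1
  exact mul_left_cancel₀ (by omega : ((Nat.card F : ℤ) - 1) ≠ 0) h3

theorem DiagSD.conj_torus {h : H} {g : GL (Fin (0 + 2)) F} (eh : rho e h = sem g)
    (hpm : mat g * mat m = mat m * mat g ∨ mat g * mat m = -(mat m * mat g)) :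
    h ∈ Subgroup.normalizer ((Subgroup.centralizer ({t} : Set H)) : Set H) := by
  refine mem_normalizer_of_conj fun x hx => ?_
  obtain ⟨k, hk, ex⟩ := (D.mem_torus_iff hm htr x).1 hx
  refine (D.mem_torus_iff hm htr _).2 ⟨g * k * g⁻¹, ?_, by rw [map_mul, map_mul, map_inv, eh, ex, map_mul, map_mul, map_inv]⟩
  obtain ⟨a, b, ek⟩ := Torus.exists_lin D.two_ne htr hk
  rw [Torus.mem_tor]
  have hgi : mat g * mat g⁻¹ = 1 := g.mul_inv
  have hsgn : ∃ s : F, mat g * mat m = s • (mat m * mat g) := by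
    rcases hpm with h1 | h1
    · exact ⟨1, by rw [h1, one_smul]⟩
    · exact ⟨-1, by rw [h1, neg_one_smul]⟩
  obtain ⟨s, hs⟩ := hsgn
  have e1 : mat (g * k * g⁻¹) = a • (1 : Matrix (Fin 2) (Fin 2) F) + (b * s) • mat m := by
    show mat g * mat k * mat g⁻¹ = _
    rw [ek, Matrix.mul_add, Matrix.mul_smul, Matrix.mul_smul, Matrix.mul_one, hs, smul_smul, Matrix.add_mul,
      Matrix.smul_mul, Matrix.smul_mul, Matrix.mul_assoc, hgi, Matrix.mul_one]
  rw [e1, Matrix.add_mul, Matrix.mul_add, Matrix.smul_mul, Matrix.smul_mul, Matrix.mul_smul, Matrix.mul_smul,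
    Matrix.one_mul, Matrix.mul_one]

theorem DiagSD.torus_norm :
    Nat.card (Subgroup.normalizer ((Subgroup.centralizer ({t} : Set H)) : Set H)) =
      2 * Nat.card (Subgroup.centralizer ({t} : Set H)) := by
  set A := Subgroup.centralizer ({t} : Set H) with hA
  set Nm := Subgroup.normalizer (A : Set H) with hNm
  obtain ⟨h₀, g₀, hh₀, hg₀, hanti⟩ := D.exists_anti_lift hm htr
  have hAN : A ≤ Nm := Subgroup.le_normalizer
  have h₀N : h₀ ∈ Nm := D.conj_torus hm htr hg₀ (Or.inr hanti)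
  have h₀A : h₀ ∉ A := fun hc => by
    have h3 : t * z = t := by
      rw [← hh₀, Subgroup.mem_centralizer_singleton_iff.1 hc, mul_inv_cancel_right]
    have h4 := D.amb.z2
    rw [show z = 1 from mul_left_cancel (h3.trans (mul_one t).symm), orderOf_one] at h4
    omega
  have hidx : (A.subgroupOf Nm).index = 2 := by
    rw [Subgroup.index_eq_two_iff]
    refine ⟨⟨h₀, h₀N⟩, fun x => ?_⟩
    have hxt : (x : H) * t * (x : H)⁻¹ ∈ A :=
      (Subgroup.mem_normalizer_iff.1 x.2 t).1 (Subgroup.mem_centralizer_singleton_iff.2 rfl)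
    obtain ⟨g, hg⟩ := D.diag (x : H)
    have hg' : rho e (x : H) = sem g := hg
    obtain ⟨k, hk, ek⟩ := (D.mem_torus_iff hm htr _).1 hxt
    rw [map_mul, map_mul, map_inv, hg', hm, ← map_mul, ← map_inv, ← map_mul] at ek
    have hgm : g * m * g⁻¹ ∈ tor m := by
      have hc : k⁻¹ * (g * m * g⁻¹) ∈ Subgroup.center (GL (Fin (0 + 2)) F) := by
        rw [← sem_eq_one_iff, map_mul, map_inv, ek, inv_mul_cancel]
      have := mul_mem hk (Subgroup.center_le_centralizer ({m} : Set (GL (Fin (0 + 2)) F)) hc)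
      rwa [mul_inv_cancel_left] at this
    rcases Torus.conj_pm D.two_ne htr (g := m) (Torus.mem_tor.2 rfl) (D.not_scalar htr) hgm with h1 | h1
    · refine Or.inr ⟨Subgroup.mem_subgroupOf.2 ((D.mem_torus_iff hm htr _).2 ⟨g, Torus.mem_tor.2 h1, hg'⟩),
        fun hc => h₀A ?_⟩
      have hx : (x : H) ∈ A := (D.mem_torus_iff hm htr _).2 ⟨g, Torus.mem_tor.2 h1, hg'⟩
      exact (A.mul_mem_cancel_left hx).1 (Subgroup.mem_subgroupOf.1 hc)
    · refine Or.inl ⟨Subgroup.mem_subgroupOf.2 ((D.mem_torus_iff hm htr _).2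
        ⟨g * g₀, Torus.mem_tor.2 ?_, by rw [Subgroup.coe_mul, map_mul, hg', hg₀, map_mul]⟩), fun hc => ?_⟩
      · show mat g * mat g₀ * mat m = mat m * (mat g * mat g₀)
        rw [Matrix.mul_assoc, hanti, Matrix.mul_neg, ← Matrix.mul_assoc, h1, Matrix.neg_mul, neg_neg,
          Matrix.mul_assoc]
      · obtain ⟨k', hk', ek'⟩ := (D.mem_torus_iff hm htr _).1 (Subgroup.mem_subgroupOf.1 hc)
        rw [hg', ← inv_mul_eq_one, ← map_inv, ← map_mul, sem_eq_one_iff] at ek'
        have hgt : g ∈ tor m := by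
          have h4 := mul_mem (Subgroup.center_le_centralizer ({m} : Set (GL (Fin (0 + 2)) F)) ek')
            (inv_mem hk')
          have h5 := inv_mem h4
          rwa [_root_.mul_inv_rev, inv_inv, _root_.mul_inv_rev, inv_inv, mul_inv_cancel_left] at h5
        have h6 := Torus.mem_tor.1 hgt
        rw [h1] at h6
        have hne : mat m * mat g ≠ 0 := fun e0 => by
          have := congrArg Matrix.det e0
          rw [Matrix.det_mul, Matrix.det_zero, mul_eq_zero] at this
          exact this.elim (Torus.det_ne m) (Torus.det_ne g)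
        have h7 : (2 : F) • (mat m * mat g) = 0 := by
          rw [two_smul]
          nth_rw 1 [← h6]
          exact neg_add_cancel _
        exact (smul_eq_zero.1 h7).elim D.two_ne hne
  have h1 := (A.subgroupOf Nm).card_mul_index
  rw [hidx, Nat.card_congr (Subgroup.subgroupOfEquivOfLe hAN).toEquiv] at h1
  rw [← h1, mul_comm]

theorem DiagSD.conj_coe {h : H} {g : GL (Fin (0 + 2)) F} (eh : rho e h = sem g) (w : SL2 F) :
    h * ((e.symm w : N) : H) * h⁻¹ = ((e.symm (semiSL g (RingEquiv.refl F) w) : N) : H) := by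
  have h1 : rhoSL e h = semiSL g (RingEquiv.refl F) :=
    QGroup.autQ_injective D.odd (Eq.trans eh (QGroup.autQ_semiSL g _).symm)
  have h2 := QGroup.rhoSL_apply e h (e.symm w)
  rw [e.apply_symm_apply, h1] at h2
  rw [h2, e.symm_apply_apply, MulAut.conjNormal_apply]

/-- A subgroup containing `SL₂` and `t` is everything. -/
theorem DiagSD.eq_top_of_le {M : Subgroup H} (htM : t ∈ M) (hN : N ≤ M) : M = ⊤ := by
  refine eq_top_iff.2 fun h _ => ?_
  obtain ⟨g, hg⟩ := D.diag h
  obtain ⟨m', hm', -, hns⟩ := D.rho_t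
  have hsq : ∀ (x : H) (k : GL (Fin (0 + 2)) F), rho e x = sem k → IsSquare (mat k).det → x ∈ M := by
    intro x k ex hk
    obtain ⟨y, hy⟩ := (QGroup.mem_range_conj_iff k).2 hk
    obtain ⟨y, rfl⟩ := QuotientGroup.mk_surjective y
    have h1 : ((e.symm y : N) : H)⁻¹ * x ∈ M := by
      refine hN (Subgroup.zpowers_le.2 (QGroup.z_mem e D.amb D.odd) ?_)
      have h2 : ((e.symm y : N) : H)⁻¹ * x ∈ Subgroup.zpowers z := by
        rw [← D.ker_iff, map_mul, map_inv, QGroup.rho_coe, e.apply_symm_apply, ex, sem_apply, hy,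
          inv_mul_cancel]
      exact h2
    have h3 := mul_mem (hN (e.symm y).2) h1
    rwa [mul_inv_cancel_left] at h3
  by_cases hd : IsSquare (mat g).det
  · exact hsq h g hg hd
  · have h1 := hsq (h * t) (g * m') (by rw [map_mul, show rho e h = sem g from hg, hm', map_mul]) (by
      show IsSquare (mat g * mat m').det
      rw [Matrix.det_mul]
      exact AutPSL.isSquare_mul_of_nonsq hd hns)
    exact (M.mul_mem_cancel_right htM).1 h1

theorem DiagSD.le_of_upT {M : Subgroup H} [M.Normal] {γ : GL (Fin (0 + 2)) F}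
    (h : ∀ b : F, ((e.symm (semiSL γ (RingEquiv.refl F) (upT b)) : N) : H) ∈ M) : N ≤ M := by
  haveI : ((M.subgroupOf N).comap ((semiSL γ (RingEquiv.refl F)).trans e.symm).toMonoidHom).Normal := by
    infer_instance
  have htop := eq_top_of_upT_mem
    ((M.subgroupOf N).comap ((semiSL γ (RingEquiv.refl F)).trans e.symm).toMonoidHom)
    fun b => Subgroup.mem_comap.2 (Subgroup.mem_subgroupOf.2 (h b))
  intro x hx
  obtain ⟨w, hw⟩ := ((semiSL γ (RingEquiv.refl F) : SL2 F ≃* SL2 F).trans e.symm).surjective ⟨x, hx⟩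
  have h1 : w ∈ (M.subgroupOf N).comap ((semiSL γ (RingEquiv.refl F)).trans e.symm).toMonoidHom :=
    htop ▸ Subgroup.mem_top w
  rw [Subgroup.mem_comap, Subgroup.mem_subgroupOf] at h1
  have h2 : (((semiSL γ (RingEquiv.refl F)).trans e.symm w : N) : H) ∈ M := h1
  rwa [hw] at h2

omit hm in
theorem DiagSD.diag_split (hsq : IsSquare (-(mat m).det)) (hns : ¬ IsSquare (mat m).det) :
    ∃ (γ : GL (Fin (0 + 2)) F) (r : F), r ≠ 0 ∧
      mat m * mat γ = mat γ * !![r, 0; 0, -r] := by
  have hd : ¬ IsSquare (!![(1 : F), 0; 0, -1]).det := by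
    rw [Matrix.det_fin_two_of, one_mul, mul_zero, sub_zero]
    intro h
    apply hns
    have := h.mul hsq
    rwa [neg_mul_neg, one_mul] at this
  obtain ⟨P, r, hP⟩ := GWCons.exists_gl_conj htr (by simp) hns hd
  refine ⟨P, r, r.ne_zero, ?_⟩
  rw [hP, ← Matrix.mul_smul]
  congr 1
  ext i j
  fin_cases i <;> fin_cases j <;> simp

omit htr in
theorem DiagSD.fixed_card {h : H} {g : GL (Fin (0 + 2)) F} (eh : rho e h = sem g) :
    Nat.card {K : Ax F // rho e h • K = K} =
      Nat.card (MulAction.fixedBy (Ax F) (semi g (RingEquiv.refl F) : MulAut (PSL2 F))) := by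
  rw [eh]; rfl

end

variable {H : Type u} [Group H] [Finite H] {S : Sylow 2 H} {z t : H} {N : Subgroup H} [hNn : N.Normal]
  {e : N ≃* SL2 F}

/-- The points acted on through `rho`. -/
@[reducible] noncomputable def axAction (e : N ≃* SL2 F) : MulAction H (Ax F) := MulAction.compHom _ (rho e)
/-- A normal subgroup containing `t` is everything. -/
theorem DiagSD.eq_top_of_t_mem (D : DiagSD S z t e) {M : Subgroup H} [M.Normal]
    (htM : t ∈ M) : M = ⊤ := by
  obtain ⟨m, hm, htr, hns⟩ := D.rho_t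
  refine D.eq_top_of_le hm htr htM ?_
  have h2 := D.two_ne
  by_cases hsq : IsSquare (-(mat m).det)
  · -- a commutator of a torus element and a root element is a root element
    obtain ⟨γ, r, hr, hγ⟩ := D.diag_split htr hsq hns
    refine D.le_of_upT hm htr (γ := γ) fun b => ?_
    have hd : mat (γ⁻¹ * m * γ) = !![r, 0; 0, -r] := by
      show mat γ⁻¹ * mat m * mat γ = _
      rw [Matrix.mul_assoc, hγ, ← Matrix.mul_assoc, show mat γ⁻¹ * mat γ = 1 from γ.inv_mul, Matrix.one_mul]
    set w : ↥N := e.symm (semiSL γ (RingEquiv.refl F) (upT b)) with hw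
    have h1 : t * (w : H) * t⁻¹ = (w : H)⁻¹ := by
      rw [hw, D.conj_coe hm htr hm, semiSL_upT (by group) hd, ← Subgroup.coe_inv, ← map_inv, ← map_inv]
      congr 3
      rw [show r / -r * b = -b by field_simp]
      exact eq_inv_of_mul_eq_one_left (by
        rw [← PSL2.upT_add, neg_add_cancel]
        refine Subtype.ext (Matrix.ext fun i j => ?_)
        fin_cases i <;> fin_cases j <;> simp [upT])
    have h3 : t * (w : H) * t⁻¹ * (w : H)⁻¹ ∈ M := by
      rw [show t * (w : H) * t⁻¹ * (w : H)⁻¹ = t * ((w : H) * t⁻¹ * (w : H)⁻¹) by group]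
      exact mul_mem htM (‹M.Normal›.conj_mem _ (inv_mem htM) _)
    rw [h1] at h3
    obtain ⟨k, hk⟩ : ∃ k, orderOf (w : H) = 2 * k + 1 :=
      (Subgroup.orderOf_coe w).symm ▸ odd_orderOf_upT D.odd γ b e
    have h4 : ((w : H) ^ 2)⁻¹ ∈ M := by rwa [pow_two, _root_.mul_inv_rev]
    have h5 := M.pow_mem (inv_mem_iff.1 h4) (k + 1)
    rwa [← pow_mul, show 2 * (k + 1) = (2 * k + 1) + 1 by ring, pow_succ, ← hk, pow_orderOf_eq_one,
      one_mul] at h5
  · -- otherwise `q ≥ 5` and `PSL₂(q)` is simple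
    have h5 : 4 ≤ Nat.card F := by
      by_contra hlt
      have := Finite.one_lt_card (α := F)
      have := Nat.odd_iff.1 D.odd
      exact hsq ((QGroup.PtLine.isSquare_iff_of_neg D.odd (by rwa [neg_neg])).2 (by omega))
    haveI : IsSimpleGroup (PSL2 F) := PSL2.isSimpleGroup_psl h5
    let π : N →* PSL2 F := (QuotientGroup.mk' _).comp e.toMonoidHom
    have hπ : Function.Surjective π := (QuotientGroup.mk'_surjective _).comp e.surjective
    have hKn : ((M.subgroupOf N).map π).Normal := Subgroup.Normal.map inferInstance _ hπ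
    have hK : (M.subgroupOf N).map π ≠ ⊥ := by
      intro hbot
      -- `t` would act trivially
      apply D.not_scalar htr
      rw [← center_iff, ← sem_eq_one_iff, ← hm]
      refine MulEquiv.ext fun y => ?_
      obtain ⟨y, rfl⟩ := hπ y
      have hx : (MulAut.conjNormal t y * y⁻¹ : N) ∈ M.subgroupOf N := by
        rw [Subgroup.mem_subgroupOf, Subgroup.coe_mul, MulAut.conjNormal_apply, InvMemClass.coe_inv,
          show t * (y : H) * t⁻¹ * (y : H)⁻¹ = t * ((y : H) * t⁻¹ * (y : H)⁻¹) by group]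
        exact mul_mem htM (‹M.Normal›.conj_mem _ (inv_mem htM) _)
      have h1 : π (MulAut.conjNormal t y * y⁻¹) = 1 :=
        Subgroup.mem_bot.1 (hbot ▸ Subgroup.mem_map_of_mem π hx)
      rw [map_mul, map_inv, mul_inv_eq_one] at h1
      show rho e t (π y) = π y
      refine Eq.trans ?_ h1
      show rho e t (QuotientGroup.mk (e y)) = QuotientGroup.mk (e (MulAut.conjNormal t y))
      rw [← QGroup.rhoSL_apply e t y]
      rfl
    have htop := hKn.eq_bot_or_eq_top.resolve_left hK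
    -- `SL₂` is perfect
    have hperf : _root_.commutator (SL2 F) = ⊤ := by
      refine Linear.commutator_sl_eq_top (Or.inr ?_)
      by_contra hall
      push Not at hall
      classical
      have hsub : (Finset.univ : Finset F) ⊆ {0, 1, -1} := fun x _ => by
        by_cases hx : x = 0
        · simp [hx]
        · rcases sq_eq_one_iff.1 (hall x hx) with e1 | e1 <;> simp [e1]
      have h6 := (Finset.card_le_card hsub).trans Finset.card_le_three
      rw [Finset.card_univ, ← Nat.card_eq_fintype_card] at h6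
      omega
    intro x hx
    set K : Subgroup (SL2 F) := (M.subgroupOf N).map e.toMonoidHom with hKdef
    haveI : K.Normal := Subgroup.Normal.map inferInstance _ e.surjective
    have hKtop : K ⊔ Subgroup.center (SL2 F) = ⊤ := by
      refine eq_top_iff.2 fun y _ => ?_
      obtain ⟨w, hw, hwy⟩ := (htop ▸ Subgroup.mem_top (QuotientGroup.mk y : PSL2 F) :
        (QuotientGroup.mk y : PSL2 F) ∈ (M.subgroupOf N).map π)
      have h7 : (e w)⁻¹ * y ∈ Subgroup.center (SL2 F) := QuotientGroup.eq.1 hwy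
      have h8 := mul_mem (Subgroup.mem_sup_left (Subgroup.mem_map_of_mem e.toMonoidHom hw) :
        e w ∈ K ⊔ Subgroup.center (SL2 F)) (Subgroup.mem_sup_right h7)
      rwa [mul_inv_cancel_left] at h8
    have hc : _root_.commutator (SL2 F) ≤ K := by
      rw [_root_.commutator_def, ← hKtop, Subgroup.commutator_le]
      intro a ha b hb
      rw [← SetLike.mem_coe, Subgroup.normal_mul] at ha hb
      obtain ⟨a₁, ha₁, a₂, ha₂, rfl⟩ := ha
      obtain ⟨b₁, hb₁, b₂, hb₂, rfl⟩ := hb
      have ca : ∀ w, Commute a₂ w := fun w => (Subgroup.mem_center_iff.1 ha₂ w).symm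
      have cb : ∀ w, Commute b₂ w := fun w => (Subgroup.mem_center_iff.1 hb₂ w).symm
      have e1 : ⁅a₁ * a₂, b₁ * b₂⁆ = ⁅a₁, b₁⁆ := by
        rw [commutatorElement_def, commutatorElement_def]
        calc a₁ * a₂ * (b₁ * b₂) * (a₁ * a₂)⁻¹ * (b₁ * b₂)⁻¹
            = a₁ * (a₂ * (b₁ * b₂)) * a₂⁻¹ * a₁⁻¹ * b₂⁻¹ * b₁⁻¹ := by group
          _ = a₁ * b₁ * (b₂ * a₁⁻¹) * b₂⁻¹ * b₁⁻¹ := by rw [(ca _).eq]; group
          _ = a₁ * b₁ * a₁⁻¹ * b₁⁻¹ := by rw [(cb _).eq]; group
      rw [e1, commutatorElement_def]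
      exact mul_mem (mul_mem (mul_mem ha₁ hb₁) (inv_mem ha₁)) (inv_mem hb₁)
    obtain ⟨w, hw, hwe⟩ := (hc (hperf ▸ Subgroup.mem_top (e ⟨x, hx⟩)) :
      e ⟨x, hx⟩ ∈ (M.subgroupOf N).map e.toMonoidHom)
    have hw' : w = ⟨x, hx⟩ := e.injective hwe
    rw [SetLike.mem_coe, Subgroup.mem_subgroupOf] at hw
    rw [hw'] at hw
    exact hw

/-- A normal subgroup containing the torus is everything. -/
theorem DiagSD.eq_top_of_torus_le (D : DiagSD S z t e) {M : Subgroup H} [M.Normal]
    (hA : Subgroup.centralizer ({t} : Set H) ≤ M) : M = ⊤ :=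
  D.eq_top_of_t_mem (hA (Subgroup.mem_centralizer_singleton_iff.2 rfl))




theorem DiagSD.line (D : DiagSD S z t e) :
    letI := axAction e
    ∃ o : ℕ, Line H (Ax F) t (Subgroup.zpowers z) 1 (Nat.card F) o
      (if Nat.card F % 4 = 3 then 1 else -1) := by
  classical
  letI := axAction e
  obtain ⟨m, hm, htr, hns⟩ := D.rho_t
  have hact : ∀ (h : H) (K : Ax F), h • K = rho e h • K := fun _ _ => rfl
  have h2 := D.two_ne
  set q := Nat.card F with hq
  set δ : ℤ := if q % 4 = 3 then 1 else -1 with hδ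
  have hiff : IsSquare (-(mat m).det) ↔ q % 4 = 3 :=
    QGroup.PtLine.isSquare_iff_of_neg D.odd (by rwa [neg_neg])
  have hs : IsSquare (-(mat m).det) → δ = 1 := fun h => if_pos (hiff.1 h)
  have hn : ¬ IsSquare (-(mat m).det) → δ = -1 := fun h => if_neg (mt hiff.2 h)
  have hqodd := Nat.odd_iff.1 D.odd
  have hq1 := Finite.one_lt_card (α := F)
  obtain ⟨o, ho, ho'⟩ : ∃ o : ℕ, Odd o ∧ (q : ℤ) - δ = ((2 ^ 1 : ℕ) : ℤ) * o := by
    by_cases h4 : q % 4 = 3
    · exact ⟨(q - 1) / 2, Nat.odd_iff.2 (by omega), by rw [hδ, if_pos h4]; omega⟩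
    · exact ⟨(q + 1) / 2, Nat.odd_iff.2 (by omega), by rw [hδ, if_neg h4]; omega⟩
  have htc := D.torus_card hm htr hs hn
  have hA : ∀ {h : H}, h ∈ Subgroup.centralizer ({t} : Set H) ↔ ∃ g ∈ tor m, rho e h = sem g :=
    fun {h} => D.mem_torus_iff hm htr h
  have hnotZ : ∀ {h : H} {g : GL (Fin (0 + 2)) F}, rho e h = sem g → h ∉ Subgroup.zpowers z →
      ¬ ∃ a : F, mat g = a • (1 : Matrix (Fin 2) (Fin 2) F) := fun {h g} eh hh ha =>
    hh ((D.ker_iff h).1 (eh.trans (sem_eq_one_iff.2 (center_iff.2 ha))))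
  have htZ : t ∉ Subgroup.zpowers z := fun h => by
    rw [← D.ker_iff, hm, sem_eq_one_iff, center_iff] at h
    exact D.not_scalar htr h
  refine ⟨o, {
    one_le := le_rfl
    sign := by by_cases h4 : q % 4 = 3 <;> simp [hδ, h4]
    three_le := by omega
    q_odd := D.odd
    o_odd := ho
    q_sub := ho'
    card_X := QGroup.PtLine.card_ax
    trans_two := ?_
    mem_Z := ?_
    card_Z := by rw [Nat.card_zpowers, D.amb.z2, pow_one]
    cyclic_Z := inferInstance
    central_Z := fun h hh h' => (Subgroup.mem_center_iff.1 (Subgroup.zpowers_le.2 D.amb.zc hh) h').symm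
    card_H := by rw [D.card_H, pow_one]
    t_two := D.t_two
    t_notMem := htZ
    torus_comm := fun a ha b hb => by
      obtain ⟨g, hg, ea⟩ := hA.1 ha
      obtain ⟨g', hg', eb⟩ := hA.1 hb
      exact D.tor_lift_comm hm htr hg hg' ea eb
    torus_card := by
      have : (Nat.card (Subgroup.centralizer ({t} : Set H)) : ℤ) = ((2 ^ 1 * (2 ^ 1 * o) : ℕ) : ℤ) := by
        rw [htc, ho']; push_cast; ring
      exact_mod_cast this
    torus_gen := ?_
    torus_fix := ?_
    torus_ti := ?_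
    torus_norm := ?_
    gen := fun M hM htM => by
      haveI := hM
      rw [D.eq_top_of_t_mem htM, top_sup_eq]
    gen_one := fun _ M hM htM => by
      haveI := hM
      exact D.eq_top_of_t_mem htM
    root := ?_ }⟩
  · intro K L K' L' hKL hKL'
    obtain ⟨y, hy, hy'⟩ := QGroup.PtLine.ax_trans_two hKL hKL'
    obtain ⟨y, rfl⟩ := QuotientGroup.mk_surjective y
    refine ⟨((e.symm y : N) : H), ?_, ?_⟩ <;> rw [hact, QGroup.rho_coe, e.apply_symm_apply] <;> assumption
  · intro h
    rw [← D.ker_iff]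
    refine ⟨fun hh K => by rw [hact, hh, one_smul], fun hh => ?_⟩
    obtain ⟨g, hg⟩ := D.diag h
    exact rho_eq_one_of_fix hg hh
  · obtain ⟨g₀, hg₀, hgen⟩ := Torus.tor_cyclic_mod h2 htr
    obtain ⟨a, ha⟩ := D.surj g₀
    refine ⟨a, hA.2 ⟨g₀, hg₀, ha⟩, fun x hx => ?_⟩
    obtain ⟨g, hg, ex⟩ := hA.1 hx
    obtain ⟨i, hi⟩ := hgen g hg
    exact ⟨i, by rw [← D.ker_iff, map_mul, map_zpow, ex, ha, ← map_zpow, ← map_mul, sem_eq_one_iff]; exact hi⟩
  · intro x hx hxZ
    obtain ⟨g, hg, ex⟩ := hA.1 hx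
    have e1 : Nat.card (MulAction.fixedBy (Ax F) x) =
        Nat.card (MulAction.fixedBy (Ax F) (semi g (RingEquiv.refl F) : MulAut (PSL2 F))) :=
      D.fixed_card hm ex
    rw [e1, Torus.fixed_eq h2 htr hg (hnotZ ex hxZ),
      QGroup.PtLine.card_fixedBy_semi h2 (m : GL (Fin 2) F) (Torus.sq_eq htr)
        fun d hd => D.not_scalar htr ⟨d, hd⟩]
    by_cases hsq : IsSquare (-(mat m).det)
    · rw [if_pos hsq, hs hsq]; norm_num
    · rw [if_neg hsq, hn hsq]; norm_num
  · intro h x hx hxZ hconj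
    obtain ⟨g, hg, ex⟩ := hA.1 hx
    obtain ⟨k, hk⟩ := D.diag h
    have hk' : rho e h = sem k := hk
    obtain ⟨g', hg', eg'⟩ := hA.1 hconj
    rw [map_mul, map_mul, map_inv, hk', ex, ← map_mul, ← map_inv, ← map_mul] at eg'
    have hin : k * g * k⁻¹ ∈ tor m := by
      have hc : g'⁻¹ * (k * g * k⁻¹) ∈ Subgroup.center (GL (Fin (0 + 2)) F) := by
        rw [← sem_eq_one_iff, map_mul, map_inv, eg', inv_mul_cancel]
      have := mul_mem hg' (Subgroup.center_le_centralizer ({m} : Set (GL (Fin (0 + 2)) F)) hc)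
      rwa [mul_inv_cancel_left] at this
    exact D.conj_torus hm htr hk' (Torus.conj_pm h2 htr hg (hnotZ ex hxZ) hin)
  · rw [D.torus_norm hm htr]
    congr 1
    have : (Nat.card (Subgroup.centralizer ({t} : Set H)) : ℤ) = ((2 ^ 1 * (2 ^ 1 * o) : ℕ) : ℤ) := by
      rw [htc, ho']; push_cast; ring
    exact_mod_cast this
  · intro hd1
    have hsq : IsSquare (-(mat m).det) := by
      by_contra hh
      rw [hn hh] at hd1
      norm_num at hd1
    obtain ⟨γ, r, hr, hγ⟩ := D.diag_split htr hsq hns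
    let uh : F → H := fun b => ((e.symm (semiSL γ (RingEquiv.refl F) (upT b)) : N) : H)
    have huh : ∀ a b, uh (a + b) = uh a * uh b := fun a b => by
      simp only [uh, PSL2.upT_add, map_mul, Subgroup.coe_mul]
    have hinj : Function.Injective uh := fun a b hab => by
      have h1 := (semiSL γ (RingEquiv.refl F)).injective (e.symm.injective (Subtype.ext hab))
      simpa [upT] using congrArg (fun w : SL2 F => w.1 0 1) h1
    let V : Subgroup H :=
      { carrier := Set.range uh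
        one_mem' := ⟨0, by
          have := huh 0 0
          rw [add_zero] at this
          exact mul_left_cancel (this.symm.trans (mul_one _).symm)⟩
        mul_mem' := by rintro _ _ ⟨a, rfl⟩ ⟨b, rfl⟩; exact ⟨a + b, huh a b⟩
        inv_mem' := by
          rintro _ ⟨a, rfl⟩
          refine ⟨-a, eq_inv_of_mul_eq_one_left ?_⟩
          have h0 : uh 0 = 1 := by
            have := huh 0 0
            rw [add_zero] at this
            exact mul_left_cancel (this.symm.trans (mul_one _).symm)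
          rw [← huh, neg_add_cancel, h0] }
    have hneg : ∀ b, (uh b)⁻¹ = uh (-b) := fun b => inv_eq_of_mul_eq_one_right (by
      have h0 : uh 0 = 1 := by
        have := huh 0 0
        rw [add_zero] at this
        exact mul_left_cancel (this.symm.trans (mul_one _).symm)
      rw [← huh, add_neg_cancel, h0])
    have hconj : ∀ {h : H} {g d : GL (Fin (0 + 2)) F} {α β : F}, rho e h = sem g → g * γ = γ * d →
        mat d = !![α, 0; 0, β] → ∀ b, h * uh b * h⁻¹ = uh (α / β * b) := fun {h g d α β} eh hgd hd b => by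
      simp only [uh]
      rw [D.conj_coe hm htr eh, semiSL_upT hgd hd]
    -- the torus in the coordinates of `γ`
    have hlin : ∀ {g : GL (Fin (0 + 2)) F}, g ∈ tor m → ∃ (d : GL (Fin (0 + 2)) F) (α β : F),
        g * γ = γ * d ∧ mat d = !![α, 0; 0, β] := by
      intro g hg
      obtain ⟨a, b, eg⟩ := Torus.exists_lin h2 htr hg
      refine ⟨γ⁻¹ * g * γ, a + b * r, a - b * r, by group, ?_⟩
      show mat γ⁻¹ * mat g * mat γ = _
      rw [eg, Matrix.mul_assoc, Matrix.add_mul, Matrix.smul_mul, Matrix.smul_mul, Matrix.one_mul, hγ,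
        Matrix.mul_add, Matrix.mul_smul, Matrix.mul_smul, ← Matrix.mul_assoc,
        show mat γ⁻¹ * mat γ = 1 from γ.inv_mul, Matrix.one_mul]
      ext i j
      fin_cases i <;> fin_cases j <;> simp [sub_eq_add_neg]
    have hscalar : ∀ c₀ : F, c₀ ≠ 0 → ∃ c ∈ Subgroup.centralizer ({t} : Set H),
        ∀ a, c * uh a * c⁻¹ = uh (c₀ * a) := by
      intro c₀ hc₀
      let d : GL (Fin (0 + 2)) F := GeneralLinearGroup.mkOfDetNeZero !![c₀, 0; 0, 1]
        (by rw [Matrix.det_fin_two_of]; simp [hc₀])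
      have hd : mat d = !![c₀, 0; 0, 1] := rfl
      have hg : γ * d * γ⁻¹ ∈ tor m := by
        rw [Torus.mem_tor]
        show mat γ * mat d * mat γ⁻¹ * mat m = mat m * (mat γ * mat d * mat γ⁻¹)
        have hmm : mat γ⁻¹ * mat m = !![r, 0; 0, -r] * mat γ⁻¹ := by
          have h5 : mat m = mat γ * !![r, 0; 0, -r] * mat γ⁻¹ := by
            rw [← hγ, Matrix.mul_assoc, show mat γ * mat γ⁻¹ = 1 from γ.mul_inv, Matrix.mul_one]
          rw [h5, ← Matrix.mul_assoc, ← Matrix.mul_assoc, show mat γ⁻¹ * mat γ = 1 from γ.inv_mul,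
            Matrix.one_mul]
        rw [Matrix.mul_assoc, hmm, ← Matrix.mul_assoc (mat m), ← Matrix.mul_assoc (mat m), hγ,
          ← Matrix.mul_assoc, Matrix.mul_assoc (mat γ), Matrix.mul_assoc (mat γ) !![r, 0; 0, -r], hd]
        congr 2
        ext i j
        fin_cases i <;> fin_cases j <;> simp [Matrix.mul_apply, Fin.sum_univ_two, mul_comm]
      obtain ⟨c, hc⟩ := D.surj (γ * d * γ⁻¹)
      refine ⟨c, hA.2 ⟨_, hg, hc⟩, fun a => ?_⟩
      rw [hconj hc (by group) hd, div_one]
    have hmγ : ∃ d : GL (Fin (0 + 2)) F, m * γ = γ * d ∧ mat d = !![r, 0; 0, -r] :=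
      ⟨γ⁻¹ * m * γ, by group, by
        show mat γ⁻¹ * mat m * mat γ = _
        rw [Matrix.mul_assoc, hγ, ← Matrix.mul_assoc, show mat γ⁻¹ * mat γ = 1 from γ.inv_mul, Matrix.one_mul]⟩
    have hne : mat γ *ᵥ ![1, 0] ≠ 0 := QGroup.PtLine.gl_mulVec_ne (by simp)
    have hγe : ∀ (v : Fin 2 → F), mat γ⁻¹ *ᵥ (mat γ *ᵥ v) = v := fun v => by
      rw [Matrix.mulVec_mulVec, show mat γ⁻¹ * mat γ = 1 from γ.inv_mul, Matrix.one_mulVec]
    have huhρ : ∀ b, rho e (uh b) = sem (γ * Matrix.SpecialLinearGroup.toGL (upT b) * γ⁻¹) := fun b => by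
      simp only [uh]
      rw [QGroup.rho_coe, e.apply_symm_apply]
      refine (AutPSL.conj_eq_semi _).trans (congrArg (fun g => semi g (RingEquiv.refl F)) (Units.ext ?_))
      show mat γ * (upT b : SL2 F).1.map (RingEquiv.refl F) * mat γ⁻¹ = mat γ * (upT b : SL2 F).1 * mat γ⁻¹
      rw [RingEquiv.coe_refl, Matrix.map_id]
    have huhsmul : ∀ (b k : F), ∃ hk hk',
        uh b • point (mat γ *ᵥ ![k, 1]) hk = point (mat γ *ᵥ ![k + b, 1]) hk' := fun b k => by
      refine ⟨QGroup.PtLine.gl_mulVec_ne (by simp), QGroup.PtLine.gl_mulVec_ne (by simp), ?_⟩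
      rw [hact, huhρ]
      refine (QGroup.PtLine.semi_refl_smul_eq_iff _ _ _).2 ?_
      show AutPSL.Par ((mat γ * (upT b : SL2 F).1 * mat γ⁻¹) *ᵥ (mat γ *ᵥ ![k, 1])) _
      rw [← Matrix.mulVec_mulVec, hγe, ← Matrix.mulVec_mulVec]
      have e1 : (upT b : SL2 F).1 *ᵥ ![k, 1] = ![k + b, 1] := by
        funext i
        fin_cases i <;> simp [upT, Matrix.mulVec, dotProduct, Fin.sum_univ_two]
      rw [e1]
      exact AutPSL.Par.refl _
    refine ⟨V, point (mat γ *ᵥ ![1, 0]) hne, ?_, ?_, ?_, ?_, ?_, ?_, ?_, ?_, ?_, ?_, ?_⟩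
    · rw [hact, hm]
      refine (QGroup.PtLine.semi_refl_smul_eq_iff m hne hne).2 (AutPSL.Par.symm ⟨r, hr, ?_⟩)
      show mat m *ᵥ (mat γ *ᵥ ![1, 0]) = r • (mat γ *ᵥ ![1, 0])
      rw [Matrix.mulVec_mulVec, hγ, ← Matrix.mulVec_mulVec, ← Matrix.mulVec_smul]
      congr 1
      funext i
      fin_cases i <;> simp [Matrix.mulVec, dotProduct, Fin.sum_univ_two]
    · rintro _ ⟨b, rfl⟩
      rw [hact, huhρ]
      refine (QGroup.PtLine.semi_refl_smul_eq_iff _ hne hne).2 ?_
      show AutPSL.Par ((mat γ * (upT b : SL2 F).1 * mat γ⁻¹) *ᵥ (mat γ *ᵥ ![1, 0])) _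
      rw [← Matrix.mulVec_mulVec, hγe, ← Matrix.mulVec_mulVec]
      have e1 : (upT b : SL2 F).1 *ᵥ ![1, 0] = ![1, 0] := by
        funext i
        fin_cases i <;> simp [upT, Matrix.mulVec, dotProduct, Fin.sum_univ_two]
      rw [e1]
      exact AutPSL.Par.refl _
    · exact (Nat.card_congr (Equiv.ofInjective uh hinj)).symm
    · rintro _ ⟨a, rfl⟩ _ ⟨b, rfl⟩
      show uh a * uh b = uh b * uh a
      rw [← huh, ← huh, add_comm]
    · rintro _ ⟨b, rfl⟩
      obtain ⟨d, hd, hdm⟩ := hmγ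
      rw [hconj hm hd hdm, hneg]
      congr 1
      field_simp
    · intro a ha
      obtain ⟨g, hg, ea⟩ := hA.1 ha
      obtain ⟨d, α, β, hd, hdm⟩ := hlin hg
      refine mem_normalizer_of_conj ?_
      rintro _ ⟨b, rfl⟩
      exact ⟨_, (hconj ea hd hdm b).symm⟩
    · intro y y' hy hy'
      have key : ∀ y : Ax F, y ≠ point (mat γ *ᵥ ![1, 0]) hne →
          ∃ (k : F) (hk : _), y = point (mat γ *ᵥ ![k, 1]) hk := by
        intro y hy
        obtain ⟨v, hv, rfl⟩ := QGroup.PtLine.exists_point y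
        set w := mat γ⁻¹ *ᵥ v with hw
        have hvw : mat γ *ᵥ w = v := by
          rw [hw, Matrix.mulVec_mulVec, show mat γ * mat γ⁻¹ = 1 from γ.mul_inv, Matrix.one_mulVec]
        by_cases hw1 : w 1 = 0
        · refine absurd ((QGroup.PtLine.point_eq_iff hv hne).2 ?_) hy
          have hw0 : w 0 ≠ 0 := fun e0 => hv (by
            rw [← hvw, show w = 0 by funext i; fin_cases i <;> simp [e0, hw1]]; simp)
          refine ⟨(w 0)⁻¹, inv_ne_zero hw0, ?_⟩
          rw [← hvw, ← Matrix.mulVec_smul]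
          congr 1
          funext i
          fin_cases i <;> simp [hw0, hw1]
        · refine ⟨w 0 / w 1, QGroup.PtLine.gl_mulVec_ne (by simp),
            (QGroup.PtLine.point_eq_iff hv _).2 ⟨(w 1)⁻¹, inv_ne_zero hw1, ?_⟩⟩
          rw [← hvw, ← Matrix.mulVec_smul]
          congr 1
          funext i
          fin_cases i <;> simp [hw1, div_eq_mul_inv, mul_comm]
      obtain ⟨k, hk, rfl⟩ := key y hy
      obtain ⟨k', hk', rfl⟩ := key y' hy'
      obtain ⟨_, _, he⟩ := huhsmul (k' - k) k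
      refine ⟨uh (k' - k), ⟨_, rfl⟩, ?_⟩
      rw [he]
      refine (QGroup.PtLine.point_eq_iff _ _).2 ?_
      rw [show k + (k' - k) = k' by ring]
      exact AutPSL.Par.refl _
    · rintro _ ⟨a, rfl⟩ _ ⟨b, rfl⟩ ha1 hb1
      have h0 : uh 0 = 1 := by
        have := huh 0 0
        rw [add_zero] at this
        exact mul_left_cancel (this.symm.trans (mul_one _).symm)
      have ha0 : a ≠ 0 := fun e0 => ha1 (by rw [e0, h0])
      have hb0 : b ≠ 0 := fun e0 => hb1 (by rw [e0, h0])
      obtain ⟨c, hc, hcv⟩ := hscalar (b / a) (div_ne_zero hb0 ha0)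
      exact ⟨c, hc, by rw [hcv, div_mul_cancel₀ _ ha0]⟩
    · intro M hM hVM
      haveI := hM
      exact D.eq_top_of_le hm htr (Subgroup.mem_sup_right (Subgroup.mem_centralizer_singleton_iff.2 rfl))
        ((D.le_of_upT hm htr (γ := γ) fun b => hVM ⟨b, rfl⟩).trans le_sup_left)
    · intro M hM hVM ζ hζ2 hζfix
      haveI := hM
      have hζ : ζ ∈ Subgroup.zpowers z := by
        rw [← D.ker_iff]
        obtain ⟨g, hg⟩ := D.diag ζ
        by_contra hne'
        obtain ⟨w, hw⟩ : ∃ K : Ax F, rho e ζ • K ≠ K := by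
          by_contra! hall
          exact hne' (rho_eq_one_of_fix hg hall)
        exact hw (hζfix w)
      have hNM : N ≤ M := D.le_of_upT hm htr (γ := γ) fun b => hVM ⟨b, rfl⟩
      obtain ⟨k, rfl⟩ := Subgroup.mem_zpowers_iff.1 hζ
      obtain ⟨z₀, -, -, huz⟩ := QGroup.exists_involution e D.odd
      have hzN := QGroup.z_mem e D.amb D.odd
      have hz : z = ((e.symm (-1) : N) : H) := by
        rw [huz z hzN D.amb.z2, huz ((e.symm (-1) : N) : H) (e.symm (-1)).2]
        rw [Subgroup.orderOf_coe, MulEquiv.orderOf_eq]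
        refine orderOf_eq_prime (by rw [pow_two, neg_mul_neg, one_mul]) fun e0 => h2 ?_
        have := congrArg (fun w : SL2 F => w.1 0 0) e0
        simp at this
        linear_combination -this
      refine Subgroup.zpow_mem _ ?_ k
      rw [hz]
      have h1 : ((e.symm (-1) : N) : H) ∈ (_root_.commutator N).map N.subtype := by
        refine Subgroup.mem_map_of_mem _ ?_
        have := Subgroup.mem_map_of_mem e.symm.toMonoidHom (neg_one_mem_commutator D.odd)
        rw [_root_.commutator_def, Subgroup.map_commutator] at this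
        exact Subgroup.commutator_mono le_top le_top this
      rw [_root_.commutator_def, Subgroup.map_commutator, ← MonoidHom.range_eq_map, Subgroup.range_subtype]
        at h1
      exact Subgroup.commutator_mono hNM hNM h1
    · intro B hl hr halt hinvB
      have h0 : uh 0 = 1 := by
        have := huh 0 0
        rw [add_zero] at this
        exact mul_left_cancel (this.symm.trans (mul_one _).symm)
      have hmem : ∀ a, uh a ∈ V := fun a => ⟨a, rfl⟩
      -- the torus realises every scalar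
      have hscal : ∀ c : F, c ≠ 0 → ∀ a b, B (uh (c * a)) (uh (c * b)) = B (uh a) (uh b) := by
        intro c hc a b
        obtain ⟨cc, hcc, hcv⟩ := hscalar c hc
        rw [← hcv a, ← hcv b]
        exact hinvB cc hcc _ (hmem a) _ (hmem b)
      have key : ∀ a b, B (uh a) (uh b) = 1 := by
       refine eq_one_of_scaled (fun a b => B (uh a) (uh b)) D.odd ?_ ?_ (fun a => halt _ (hmem a)) hscal
       · intro a b c; simp only [huh]; exact hl _ (hmem a) _ (hmem b) _ (hmem c)
       · intro a b c; simp only [huh]; exact hr _ (hmem a) _ (hmem b) _ (hmem c)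
      rintro _ ⟨a, rfl⟩ _ ⟨b, rfl⟩
      exact key a b


end Cfsg.Agent.SDKeystone.Budget
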