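import Cfsg.Agent.EqLemmas
import Cfsg.Agent.Lib.SDKeystone.Budget.LineSD
import Cfsg.Agent.Lib.QGroup.Line

/-!
# The field part of the action on `SL₂(q)`

`N ≅ SL₂(F)` normal in `H`.

* `fieldOf e` : `H →* Aut F`, the field part; `diag e` its kernel, with abelian quotient;
* `le_diag`, `sylow_le_diag` : it contains `N` and, in the semidihedral case, every Sylow 2-subgroup;
* `rhoRestr`, `diagSD` : `diag e` satisfies the hypotheses of `LineSD`.
-/

set_option autoImplicit false
set_option linter.unusedSectionVars false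
set_option linter.style.haveILetI false

namespace Cfsg.Agent.SDKeystone.Budget

open Cfsg.Agent.PSL2 (SL2 PSL2)
open Cfsg.Agent.AutPSL (semi)
open Cfsg.Agent.QGroup (Amb rho)

universe u

variable {F : Type} [Field F] [Fintype F]

theorem ringAut_mul_comm (σ τ : F ≃+* F) : σ * τ = τ * σ := by
  obtain ⟨p, hp⟩ := CharP.exists F
  obtain ⟨n, hn, hc⟩ := FiniteField.card F p
  haveI := Fact.mk hn
  haveI := (AutPSL.fieldAut_facts p n n.2 hc).1
  obtain ⟨γ, hγ⟩ := IsCyclic.exists_generator (α := F ≃+* F)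
  obtain ⟨i, rfl⟩ := hγ σ
  obtain ⟨j, rfl⟩ := hγ τ
  exact ((Commute.refl γ).zpow_zpow i j).eq

variable {H : Type u} [Group H] [Finite H] {N : Subgroup H} [hNn : N.Normal] (e : N ≃* SL2 F)

theorem exists_semi (h : H) :
    ∃ σ : F ≃+* F, ∃ g : GL (Fin (0 + 2)) F, rho e h = semi g σ := by
  obtain ⟨g, σ, hh⟩ := AutPSL.exists_semi_of_two (F := F) (rho e h)
  exact ⟨σ, g, hh⟩

/-- The field automorphism attached to an element. -/
noncomputable def fieldVal (h : H) : F ≃+* F := (exists_semi e h).choose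

theorem fieldVal_eq {h : H} {g : GL (Fin (0 + 2)) F} {σ : F ≃+* F} (hh : rho e h = semi g σ) :
    fieldVal e h = σ := by
  obtain ⟨g', hg'⟩ := (exists_semi e h).choose_spec
  exact (AutPSL.semi_eq_semi.1 (hg'.symm.trans hh)).1

/-- The field part. -/
noncomputable def fieldOf : H →* (F ≃+* F) :=
  MonoidHom.mk' (fieldVal e) fun a b => by
    obtain ⟨g, hg⟩ := (exists_semi e a).choose_spec
    obtain ⟨g', hg'⟩ := (exists_semi e b).choose_spec
    exact fieldVal_eq e (σ := fieldVal e a * fieldVal e b)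
      (((map_mul (rho e) a b).trans (congrArg₂ (· * ·) hg hg')).trans (AutPSL.semi_mul _ _ _ _))

/-- The diagonal part. -/
noncomputable def diag : Subgroup H := (fieldOf e).ker

instance diag_normal : (diag e).Normal := MonoidHom.normal_ker _

theorem mem_diag {h : H} :
    h ∈ diag e ↔ ∃ g : GL (Fin (0 + 2)) F, rho e h = semi g (RingEquiv.refl F) := by
  constructor
  · intro hh
    obtain ⟨g, hg⟩ := (exists_semi e h).choose_spec
    have h1 : fieldVal e h = RingEquiv.refl F := hh
    exact ⟨g, hg.trans (congrArg (semi g) h1)⟩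
  · rintro ⟨g, hg⟩
    exact fieldVal_eq e hg

theorem commutator_mem_diag (a b : H) : a * b * a⁻¹ * b⁻¹ ∈ diag e := by
  rw [diag, MonoidHom.mem_ker, map_mul, map_mul, map_mul, map_inv, map_inv,
    ringAut_mul_comm (fieldOf e a) (fieldOf e b)]
  group

theorem le_diag : N ≤ diag e := fun x hx =>
  (mem_diag e).2 ⟨_, (QGroup.rho_coe e ⟨x, hx⟩).trans (AutPSL.conj_eq_semi _)⟩

variable {S : Sylow 2 H} {z t : H}

theorem sylow_le_diag (hA : Amb S z) (hodd : Odd (Nat.card F)) (hq : Cfsg.IsQuasiDihedral (S : Subgroup H))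
    (ht : t ∈ (S : Subgroup H)) (ht2 : orderOf t = 2) (htz : t ≠ z) (S' : Sylow 2 H) :
    (S' : Subgroup H) ≤ diag e := fun x hx =>
  (mem_diag e).2 (QGroup.qd_diag_all e hA hodd hq (t := ⟨t, ht⟩) (by rwa [Subgroup.orderOf_mk]) htz hx)

/-- The isomorphism seen inside the diagonal part. -/
noncomputable def restrEquiv : N.subgroupOf (diag e) ≃* SL2 F :=
  (Subgroup.subgroupOfEquivOfLe (le_diag e)).trans e

theorem rhoRestr (h : diag e) : rho (restrEquiv e) h = rho e (h : H) := by
  refine congrArg SylowCyclicSuzuki.autQ (MulEquiv.ext fun y => ?_)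
  obtain ⟨w, rfl⟩ := (restrEquiv e).surjective y
  rw [QGroup.rhoSL_apply]
  exact (congrArg e (Subtype.ext rfl)).trans
    (QGroup.rhoSL_apply e (h : H) (⟨((w : diag e) : H), w.2⟩ : N)).symm

/-- The diagonal part satisfies the hypotheses of `LineSD`. -/
theorem diagSD (hA : Amb S z) (hodd : Odd (Nat.card F)) (hq : Cfsg.IsQuasiDihedral (S : Subgroup H))
    (ht : t ∈ (S : Subgroup H)) (ht2 : orderOf t = 2) (htz : t ≠ z)
    (hi : ∃ i ∈ (S : Subgroup H), i * t * i⁻¹ = t * z) :
    ∃ (hz : z ∈ diag e) (ht' : t ∈ diag e),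
      DiagSD (S.subtype (sylow_le_diag e hA hodd hq ht ht2 htz S)) ⟨z, hz⟩ ⟨t, ht'⟩ (restrEquiv e) := by
  have hle := sylow_le_diag e hA hodd hq ht ht2 htz S
  have hzd : z ∈ diag e := hle (QGroup.z_mem_sylow hA)
  refine ⟨hzd, hle ht, ?_⟩
  have f : (S : Subgroup H) ≃* (S.subtype hle : Subgroup (diag e)) :=
    ((Subgroup.subgroupOfEquivOfLe hle).symm).trans (MulEquiv.subgroupCongr (S.coe_subtype hle).symm)
  exact
    { amb :=
        { qw := hA.qw.imp (QGroup.isQuasiDihedral_congr f) (QGroup.isWreathed_congr f)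
          core := by
            refine Subgroup.map_injective (diag e).subtype_injective ?_
            rw [Cores.pPrimeCore_map_subtype, show Cfsg.pPrimeCore 2 H = ⊥ from hA.core, bot_inf_eq,
              Subgroup.map_bot]
          z2 := by rw [Subgroup.orderOf_mk]; exact hA.z2
          zc := Subgroup.mem_center_iff.2 fun w => Subtype.ext (Subgroup.mem_center_iff.1 hA.zc (w : H)) }
      odd := hodd
      qd := QGroup.isQuasiDihedral_congr f hq
      diag := fun h => by
        rw [rhoRestr]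
        exact (mem_diag e).1 h.2
      t_mem := by rw [Sylow.coe_subtype, Subgroup.mem_subgroupOf]; exact ht
      t_two := by rw [Subgroup.orderOf_mk]; exact ht2
      t_ne := fun h => htz (congrArg Subtype.val h)
      tz := by
        obtain ⟨i, hi, hit⟩ := hi
        exact ⟨⟨i, hle hi⟩, Subtype.ext hit⟩ }

end Cfsg.Agent.SDKeystone.Budget
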