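import Cfsg.Agent.EqLemmas
import Cfsg.Agent.Lib.SDKeystone.Budget.FieldPart
import Cfsg.Agent.Lib.SDBudget.FieldFree

/-!
# A field automorphism does not act unipotently on the torus

* `exists_frob` : an automorphism of `F` is `x ↦ x ^ p ^ j`, and `f ∣ j d` when its order divides `d`;
* `not_dvd_of_frob` : the odd part of `q - δ` does not divide `(± p ^ j - 1) ^ 3`;
* `conj_torus_pow` : a semilinear map normalising `F[m]` acts on it as a power modulo scalars;
* `cube_ne` : outside `diag e`, nothing in `C(t)` acts on the torus with `(σ - 1) ^ 3 = 0`.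
-/

set_option autoImplicit false
set_option linter.unusedSectionVars false
set_option linter.style.haveILetI false

open Matrix
open scoped MatrixGroups commutatorElement

namespace Cfsg.Agent.SDKeystone.Budget

open Cfsg.Agent.PSL2 (SL2 PSL2)
open Cfsg.Agent.AutPSL (semi)
open Cfsg.Agent.QGroup (Amb rho)
open Cfsg.Agent.SDKeystone.Torus (mat tor)

universe u

variable {F : Type} [Field F] [Fintype F]

theorem exists_frob (p f : ℕ) [Fact p.Prime] [CharP F p] (hF : Fintype.card F = p ^ f) (σ : F ≃+* F) :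
    ∃ j : ℕ, (∀ x, σ x = x ^ p ^ j) ∧ (σ ≠ RingEquiv.refl F → ¬ f ∣ j) ∧
      ∀ d : ℕ, σ ^ d = 1 → f ∣ j * d := by
  letI : Algebra (ZMod p) F := ZMod.algebra F p
  let τ : F →ₐ[ZMod p] F :=
    { toRingHom := (σ : F →+* F)
      commutes' := fun x => RingHom.congr_fun
        (Subsingleton.elim ((σ : F →+* F).comp (algebraMap (ZMod p) F)) (algebraMap (ZMod p) F)) x }
  obtain ⟨jj, hjj⟩ := (FiniteField.bijective_frobeniusAlgHom_pow (ZMod p) F).2 τ
  obtain ⟨j, hj0⟩ : ∃ j : ℕ, j = (jj : ℕ) := ⟨_, rfl⟩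
  have hσ : ∀ x, σ x = x ^ p ^ j := fun x => by
    have h : τ x = (FiniteField.frobeniusAlgHom (ZMod p) F ^ j) x := by rw [← hjj, hj0]
    simp only [AlgHom.coe_pow, FiniteField.coe_frobeniusAlgHom, pow_iterate, ZMod.card] at h
    exact h
  refine ⟨j, hσ, fun hne hdvd => hne (RingEquiv.ext fun x => ?_), fun d hd => ?_⟩
  · obtain ⟨k, rfl⟩ := hdvd
    rw [hσ, RingEquiv.refl_apply, pow_mul, ← hF, FiniteField.pow_card_pow]
  · have hpow : ∀ (n : ℕ) (x : F), (σ ^ n) x = x ^ p ^ (j * n) := fun n => by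
      induction n with
      | zero => intro x; simp
      | succ n ih =>
        intro x
        rw [pow_succ', show (σ * σ ^ n) x = σ ((σ ^ n) x) from rfl, hσ, ih, ← pow_mul, ← pow_add,
          Nat.mul_succ]
    obtain ⟨g, hg⟩ := IsCyclic.exists_generator (α := Fˣ)
    have ho : orderOf g = p ^ f - 1 := by
      rw [orderOf_eq_card_of_forall_mem_zpowers hg, Nat.card_units, Nat.card_eq_fintype_card, hF]
    have h1 : g ^ (p ^ (j * d) - 1) = 1 := by
      have h2 : g ^ p ^ (j * d) = g := Units.ext (by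
        rw [Units.val_pow_eq_pow_val, ← hpow, hd]; rfl)
      have h3 : g ^ (p ^ (j * d) - 1) * g = g := by
        rw [← pow_succ, Nat.sub_add_cancel (Nat.one_le_pow _ _ (Fact.out (p := p.Prime)).pos), h2]
      exact mul_eq_right.1 h3
    have h4 := Nat.gcd_eq_left (ho ▸ orderOf_dvd_of_pow_eq_one h1)
    rw [Nat.pow_sub_one_gcd_pow_sub_one] at h4
    have hp2 := (Fact.out (p := p.Prime)).two_le
    have h5 : p ^ Nat.gcd f (j * d) = p ^ f := by
      have := Nat.one_le_pow f p (by omega)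
      have := Nat.one_le_pow (Nat.gcd f (j * d)) p (by omega)
      omega
    exact Nat.gcd_eq_left_iff_dvd.1 (Nat.pow_right_injective hp2 h5)

/-- The odd part `o` of `q - δ` does not divide `(± p ^ j - 1) ^ 3`. -/
theorem not_dvd_of_frob {p f j d o : ℕ} {δ m : ℤ} (hp : p.Prime) (hp2 : p ≠ 2) (hd : Odd d)
    (hfj : ¬ f ∣ j) (hfd : f ∣ j * d) (hδ : δ = 1 ∨ δ = -1) (ho : ((p ^ f : ℕ) : ℤ) - δ = 2 * (o : ℤ))
    (hm : m = (p : ℤ) ^ j ∨ m = -(p : ℤ) ^ j) : ¬ (o : ℤ) ∣ (m - 1) ^ 3 := by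
  intro hdvd
  obtain ⟨f₁, j₁, hcop, hf, hj⟩ := Nat.exists_coprime f j
  set g := Nat.gcd f j
  have hg0 : 0 < g := by
    rcases Nat.eq_zero_or_pos g with h | h
    · exact absurd (by rw [hj, h, mul_zero]; exact dvd_zero f) hfj
    · exact h
  have hf₁d : f₁ ∣ d := hcop.dvd_of_dvd_mul_left (Nat.dvd_of_mul_dvd_mul_left hg0 (by
    rw [hf, hj, mul_comm f₁, mul_comm j₁, mul_assoc] at hfd; exact hfd))
  have hf₁ : f₁ ≠ 1 := fun h => hfj (by rw [hf, hj, h, one_mul]; exact dvd_mul_left _ _)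
  set r := f₁.minFac
  have hr : r.Prime := Nat.minFac_prime hf₁
  obtain ⟨s, hs⟩ := Nat.minFac_dvd f₁
  have hr2 : r ≠ 2 := fun h => Nat.not_even_iff_odd.2 hd
    (even_iff_two_dvd.2 (h ▸ (Nat.minFac_dvd f₁).trans hf₁d))
  have hro : Odd r := hr.odd_of_ne_two hr2
  set u := g * s
  have hfu : f = u * r := by rw [hf, hs]; show r * s * g = g * s * r; ring
  have hu0 : 0 < u := Nat.pos_of_ne_zero fun h => hfj (by
    have h0 : f₁ * g = 0 := by rw [← hf, hfu, h, zero_mul]
    have h1 : f₁ = 0 := (mul_eq_zero.1 h0).resolve_right hg0.ne'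
    rw [h1] at hf₁d
    obtain ⟨k, hk⟩ := hd
    have := zero_dvd_iff.1 hf₁d
    omega)
  have hrJ : ¬ r ∣ 2 * j₁ := fun h => by
    rcases hr.dvd_mul.1 h with h1 | h1
    · exact hr2 ((Nat.prime_dvd_prime_iff_eq hr Nat.prime_two).1 h1)
    · exact hr.ne_one (Nat.eq_one_of_dvd_coprimes hcop (Nat.minFac_dvd f₁) h1)
  have hp3 : 3 ≤ p := by have := hp.two_le; omega
  have hδ1 : δ * δ = 1 := by rcases hδ with h | h <;> rw [h] <;> norm_num
  set a : ℤ := δ * (p : ℤ) ^ u with hadef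
  have haabs : |a| = (p : ℤ) ^ u := by
    rcases hδ with h | h <;> rw [hadef, h] <;> simp
  have ha : 3 ≤ |a| := by
    rw [haabs]
    calc (3 : ℤ) ≤ p := by exact_mod_cast hp3
      _ ≤ (p : ℤ) ^ u := le_self_pow₀ (by exact_mod_cast hp.one_le) hu0.ne'
  have hao : Odd a := by
    have h1 : Odd ((p : ℤ) ^ u) := ((Int.odd_coe_nat p).2 (hp.odd_of_ne_two hp2)).pow
    rcases hδ with h | h <;> rw [hadef, h] <;> simpa using h1
  have hδr : δ ^ r = δ := by
    rcases hδ with h | h <;> rw [h]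
    · exact one_pow r
    · exact hro.neg_one_pow
  have hk : (a ^ r - 1).natAbs = 2 ^ 1 * o := by
    have e : a ^ r - 1 = δ * (2 * (o : ℤ)) := by
      rw [hadef, mul_pow, hδr, ← pow_mul, ← hfu, ← ho]
      push_cast
      linear_combination (norm := ring_nf) hδ1
    rw [e, Int.natAbs_mul]
    rcases hδ with h | h <;> rw [h] <;> simp [Int.natAbs_mul]
  refine SDBudget.not_dvd_cube a r (2 * j₁) o 1 ha hao hr hr2 hrJ hk (hdvd.trans (pow_dvd_pow_of_dvd ?_ 3))
  have e : a ^ (2 * j₁) = m ^ (2 * s) := by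
    rw [pow_mul, pow_mul, show a ^ 2 = ((p : ℤ) ^ u) ^ 2 by rw [hadef, mul_pow, pow_two, hδ1, one_mul],
      show m ^ 2 = ((p : ℤ) ^ j) ^ 2 by rcases hm with h | h <;> rw [h]; exact neg_sq _,
      ← pow_mul, ← pow_mul, ← pow_mul, ← pow_mul, hj]
    congr 1
    ring
  rw [e]
  exact sub_one_dvd_pow_sub_one m _

/-- A semilinear map normalising `F[m]` acts on it as a power modulo scalars. -/
theorem conj_torus_pow (p j : ℕ) [Fact p.Prime] [CharP F p] (hp2 : p ≠ 2) {σ : F ≃+* F}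
    (hσ : ∀ x, σ x = x ^ p ^ j) {m g : GL (Fin (0 + 2)) F} (htr : mat m 0 0 + mat m 1 1 = 0) {c : F}
    (hc : mat g * (mat m).map σ = c • (mat m * mat g)) :
    ∃ ε : ℤ, (ε = 1 ∨ ε = -1) ∧ ∀ k ∈ tor m,
      g * Matrix.GeneralLinearGroup.map (σ : F →+* F) k * g⁻¹ * (k ^ (ε * ((p ^ j : ℕ) : ℤ)))⁻¹ ∈
        Subgroup.center (GL (Fin (0 + 2)) F) := by
  have h2 : (2 : F) ≠ 0 := Ring.two_ne_zero (by rw [ringChar.eq F p]; exact hp2)
  set d : F := -(mat m).det with hd
  obtain ⟨h, hh⟩ : ∃ h, p ^ j = 2 * h + 1 :=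
    (((Fact.out (p := p.Prime)).odd_of_ne_two hp2).pow (n := j))
  have hM : mat m * mat m = d • (1 : Matrix (Fin 2) (Fin 2) F) := Torus.sq_eq htr
  have hgdet := Torus.det_ne g
  have hc2 : c * c * d = σ d := by
    have e := congrArg Matrix.det hc
    rw [Matrix.det_smul, Matrix.det_mul, Matrix.det_mul, Fintype.card_fin] at e
    have e' : ((mat m).map σ).det = σ (mat m).det := (RingHom.map_det (σ : F →+* F) (mat m)).symm
    rw [e'] at e
    have e2 : σ (mat m).det = c * c * (mat m).det := mul_left_cancel₀ hgdet (by linear_combination e)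
    rw [hd, map_neg, e2]
    ring
  have hd0 : d ≠ 0 := neg_ne_zero.2 (Torus.det_ne m)
  have hcases : c = d ^ h ∨ c = -(d ^ h) := by
    rw [hσ, hh] at hc2
    have e2 : c * c = d ^ h * d ^ h := mul_right_cancel₀ hd0 (by rw [hc2]; ring)
    exact mul_self_eq_mul_self_iff.1 e2
  have hpow : ∀ a b : F, (a • (1 : Matrix (Fin 2) (Fin 2) F) + b • mat m) ^ p ^ j =
      σ a • (1 : Matrix (Fin 2) (Fin 2) F) + (σ b * d ^ h) • mat m := fun a b => by
    rw [add_pow_char_pow_of_commute p j (((Commute.one_left _).smul_left a).smul_right b), smul_pow, smul_pow,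
      one_pow, hσ, hσ, hh, pow_succ (mat m), pow_mul, pow_two, hM, smul_pow, one_pow, smul_one_mul, smul_smul]
  have himg : ∀ {k : GL (Fin (0 + 2)) F} {a b : F}, mat k = a • (1 : Matrix (Fin 2) (Fin 2) F) + b • mat m →
      mat (g * Matrix.GeneralLinearGroup.map (σ : F →+* F) k * g⁻¹) =
        σ a • (1 : Matrix (Fin 2) (Fin 2) F) + (σ b * c) • mat m := fun {k a b} hk => by
    show mat g * (mat k).map σ * mat g⁻¹ = _
    have e1 : (mat k).map σ = σ a • (1 : Matrix (Fin 2) (Fin 2) F) + σ b • (mat m).map σ := by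
      rw [hk]
      ext i l
      by_cases hil : i = l <;> simp [hil]
    rw [e1, Matrix.mul_add, Matrix.mul_smul, Matrix.mul_smul, Matrix.mul_one, hc, smul_smul, Matrix.add_mul,
      Matrix.smul_mul, Matrix.smul_mul, Matrix.mul_assoc, show mat g * mat g⁻¹ = 1 from g.mul_inv,
      Matrix.mul_one]
  rcases hcases with e | e
  · refine ⟨1, Or.inl rfl, fun k hk => ?_⟩
    obtain ⟨a, b, hab⟩ := Torus.exists_lin h2 htr hk
    have h1 : g * Matrix.GeneralLinearGroup.map (σ : F →+* F) k * g⁻¹ = k ^ (p ^ j) := by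
      refine Torus.mat_ext ?_
      rw [himg hab, e]
      show _ = ((k ^ (p ^ j) : GL (Fin (0 + 2)) F) : Matrix (Fin 2) (Fin 2) F)
      rw [Units.val_pow_eq_pow_val]
      exact ((congrArg (· ^ p ^ j) hab).trans (hpow a b)).symm
    rw [one_mul, _root_.zpow_natCast, h1, mul_inv_cancel]
    exact one_mem _
  · refine ⟨-1, Or.inr rfl, fun k hk => ?_⟩
    obtain ⟨a, b, hab⟩ := Torus.exists_lin h2 htr hk
    rw [neg_one_mul, _root_.zpow_neg, inv_inv, _root_.zpow_natCast, center_iff]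
    refine ⟨σ a ^ 2 - (σ b * d ^ h) ^ 2 * d, ?_⟩
    show mat (g * Matrix.GeneralLinearGroup.map (σ : F →+* F) k * g⁻¹) *
      ((k ^ (p ^ j) : GL (Fin (0 + 2)) F) : Matrix (Fin 2) (Fin 2) F) = _
    rw [himg hab, e, Units.val_pow_eq_pow_val]
    refine (congrArg (_ * ·) ((congrArg (· ^ p ^ j) hab).trans (hpow a b))).trans ?_
    simp only [Matrix.add_mul, Matrix.mul_add, Matrix.smul_mul, Matrix.mul_smul, Matrix.one_mul, Matrix.mul_one,
      hM, smul_smul, smul_add]
    module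

section

variable {H : Type u} [Group H] [Finite H] {N : Subgroup H} [hNn : N.Normal] {e : N ≃* SL2 F}
  {S' : Sylow 2 (diag e)} {z t : diag e}

/-- No element of `C(t)` outside `diag e` acts on the torus with `(σ - 1) ^ 3 = 0`. -/
theorem cube_ne (D : DiagSD S' z t (restrEquiv e)) (hidx : Odd (diag e).index) {y : H}
    (hy : Commute (t : H) y) (hyd : y ∉ diag e) :
    ∃ x : H, x ∈ diag e ∧ Commute (t : H) x ∧ ⁅⁅⁅x, y⁆, y⁆, y⁆ ≠ 1 := by
  classical
  letI := axAction (restrEquiv e)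
  obtain ⟨o, L⟩ := D.line
  obtain ⟨m, hm, htr, -⟩ := D.rho_t
  obtain ⟨p, hp⟩ := CharP.exists F
  obtain ⟨f, hpp, hF⟩ := FiniteField.card F p
  haveI := Fact.mk hpp
  have hp2 : p ≠ 2 := by
    rintro rfl
    have h := Nat.odd_iff.1 D.odd
    rw [Nat.card_eq_fintype_card, hF] at h
    have : (2 : ℕ) ^ (f : ℕ) % 2 = 0 := Nat.mod_eq_zero_of_dvd (dvd_pow_self 2 f.ne_zero)
    omega
  obtain ⟨g, hg⟩ := (exists_semi e y).choose_spec
  set σ := fieldVal e y
  have hg' : rho e y = semi g σ := hg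
  have hσ1 : σ ≠ RingEquiv.refl F := fun h => hyd (show fieldOf e y = 1 from h)
  obtain ⟨j, hj, hfj, hfd⟩ := exists_frob p (f : ℕ) hF σ
  -- the order of `σ` is odd
  have hσd : σ ^ (diag e).index = 1 := by
    show fieldOf e y ^ (diag e).index = 1
    rw [← map_pow, ← MonoidHom.mem_ker]
    exact Subgroup.pow_index_mem (diag e) y
  -- conjugation by `y` on `F[m]`
  have hmt : rho e (t : H) = semi m (RingEquiv.refl F) := (rhoRestr e t).symm.trans hm
  obtain ⟨c, hc⟩ : ∃ c : F, mat g * (mat m).map σ = c • (mat m * mat g) := by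
    have h1 := congrArg (rho e) hy.eq
    rw [map_mul, map_mul, hg', hmt, AutPSL.semi_mul, AutPSL.semi_mul, AutPSL.semi_eq_semi] at h1
    obtain ⟨-, h1⟩ := h1
    obtain ⟨a, ha⟩ := center_iff.1 h1
    refine ⟨a, ?_⟩
    have h2 : mat (m * g) * mat ((m * g)⁻¹ * (g * Matrix.GeneralLinearGroup.map (σ : F →+* F) m)) =
        mat (g * Matrix.GeneralLinearGroup.map (σ : F →+* F) m) :=
      congrArg Units.val (mul_inv_cancel_left _ _)
    rw [show Matrix.GeneralLinearGroup.map ((RingEquiv.refl F : F ≃+* F) : F →+* F) g = g from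
      Torus.mat_ext (Matrix.ext fun _ _ => rfl)] at ha
    rw [ha, Matrix.mul_smul, Matrix.mul_one] at h2
    exact h2.symm
  obtain ⟨ε, hε, hk⟩ := conj_torus_pow p j hp2 hj htr hc
  set M : ℤ := ε * ((p ^ j : ℕ) : ℤ) with hMdef
  have hn : ∀ x ∈ diag e, y * x * y⁻¹ ∈ diag e := fun x hx => (diag_normal e).conj_mem x hx y
  obtain ⟨a, ha, hgen⟩ := L.torus_gen
  set A := Subgroup.centralizer ({t} : Set (diag e))
  have hsub : ∀ x : diag e, (x : H) ∈ Subgroup.centralizer ({(t : H)} : Set H) ↔ x ∈ A := fun x => by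
    rw [Subgroup.mem_centralizer_singleton_iff, Subgroup.mem_centralizer_singleton_iff]
    exact ⟨fun h => Subtype.ext h, fun h => congrArg Subtype.val h⟩
  have hgen' : ∀ i : ℤ, a ^ i ∈ Subgroup.zpowers z → (o : ℤ) ∣ i := by
    intro i hi
    haveI : (Subgroup.zpowers z).Normal :=
      ⟨fun w hw v => by rwa [← (L.central_Z w hw v).eq, mul_inv_cancel_right]⟩
    let π := QuotientGroup.mk' (Subgroup.zpowers z)
    have hA : A.map π = Subgroup.zpowers (π a) := by
      refine le_antisymm ?_ (Subgroup.zpowers_le.2 (Subgroup.mem_map_of_mem π ha))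
      rintro _ ⟨x, hx, rfl⟩
      obtain ⟨k, hk⟩ := hgen x hx
      refine Subgroup.mem_zpowers_iff.2 ⟨-k, ?_⟩
      have h1 : π (x * a ^ k) = 1 := (QuotientGroup.eq_one_iff _).2 hk
      rw [map_mul, map_zpow] at h1
      rw [_root_.zpow_neg]
      exact (eq_inv_of_mul_eq_one_left h1).symm
    have hle : Subgroup.zpowers z ≤ A := fun w hw =>
      Subgroup.mem_centralizer_singleton_iff.2 (L.central_Z w hw t).eq
    have hcard : Nat.card (A.map π) * 2 = 2 ^ 1 * (2 ^ 1 * o) := by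
      rw [← L.torus_card, ← Subgroup.card_mul_index (π.comp A.subtype).ker, Subgroup.index_ker,
        mul_comm (Nat.card (A.map π)), MonoidHom.range_comp, Subgroup.range_subtype]
      congr 1
      have e1 : (π.comp A.subtype).ker = (Subgroup.zpowers z).subgroupOf A := by
        ext w
        exact QuotientGroup.eq_one_iff (w : diag e)
      rw [e1, Nat.card_congr (Subgroup.subgroupOfEquivOfLe hle).toEquiv, L.card_Z, pow_one]
    rw [hA, Nat.card_zpowers] at hcard
    have h1 : π a ^ i = 1 := by rw [← map_zpow]; exact (QuotientGroup.eq_one_iff _).2 hi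
    refine (Int.natCast_dvd_natCast.2 (Dvd.intro_left 2 ?_)).trans (orderOf_dvd_iff_zpow_eq_one.2 h1)
    omega
  obtain ⟨x, hxd, hxt, hx⟩ := SDBudget.exists_cube_ne (C₀ := diag e) (φ := MonoidHom.id (diag e))
    (Z := Subgroup.zpowers z) L.central_Z (Subgroup.centralizer ({(t : H)} : Set H)) y
    (Subgroup.mem_centralizer_singleton_iff.2 hy.eq.symm) hn M o
    (fun x hx hxt => by
      obtain ⟨k, hkm, ek⟩ := (D.mem_torus_iff hm htr ⟨x, hx⟩).1 ((hsub ⟨x, hx⟩).1 hxt)
      have ek' : rho e x = semi k (RingEquiv.refl F) := (rhoRestr e ⟨x, hx⟩).symm.trans ek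
      rw [← D.ker_iff]
      show rho (restrEquiv e) ((⟨y * x * y⁻¹, hn x hx⟩ : diag e) * ((⟨x, hx⟩ : diag e) ^ M)⁻¹) = 1
      rw [rhoRestr, Subgroup.coe_mul, Subgroup.coe_inv, Subgroup.coe_zpow, map_mul, map_inv, map_zpow,
        map_mul, map_mul, map_inv, hg', ek']
      have e1 : semi g σ * semi k (RingEquiv.refl F) * (semi g σ)⁻¹ =
          semi (g * Matrix.GeneralLinearGroup.map (σ : F →+* F) k * g⁻¹) (RingEquiv.refl F) := by
        rw [mul_inv_eq_iff_eq_mul, AutPSL.semi_mul, AutPSL.semi_mul,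
          show Matrix.GeneralLinearGroup.map ((RingEquiv.refl F : F ≃+* F) : F →+* F) g = g from
            Torus.mat_ext (Matrix.ext fun _ _ => rfl), inv_mul_cancel_right]
        congr 1
      rw [e1, ← sem_apply, ← sem_apply, ← map_zpow, ← map_inv, ← map_mul, sem_eq_one_iff]
      exact hk k hkm)
    ⟨(a : H), a.2, (hsub a).2 ha, fun i hi => hgen' i hi⟩
    (not_dvd_of_frob hpp hp2 hidx (hfj hσ1) (hfd _ hσd) L.sign
      (by
        have := L.q_sub
        rw [Nat.card_eq_fintype_card, hF] at this ⊢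
        rw [this]
        norm_num)
      (by rcases hε with h | h <;> simp [hMdef, h]))
  refine ⟨x, hxd, (Subgroup.mem_centralizer_singleton_iff.1 hxt).symm, fun h1 => ?_⟩
  exact hx (h1 ▸ (diag e).one_mem) (Subtype.ext h1)

end

end Cfsg.Agent.SDKeystone.Budget
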