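import Cfsg.Agent.Lib.SDKeystone.Budget.CoreFree
import Cfsg.Agent.Lib.SDBudget.FieldFree
import Mathlib.GroupTheory.SpecificGroups.Cyclic

/-!
# The degree budget: from a central core to the end game

`C₀ ≤ C(z)` with abelian quotient, `φ : C₀ →* H` over a `Line`, `g` a swap of `z` and `t`, the kernel
of `φ` central in `C₀`.

* `conj_mem_of_central` : then `g` keeps `C₀ ∩ C(t)` inside `C₀` (no field part), given the torus
  hypothesis `hcube` of `SDBudget.conj_mem_of_cube`;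
* `core_cyclic_of_injective` : a core seen faithfully in the torus of `t` is cyclic of order dividing `o`;
* `final` : both, in the form the end game uses;
* `final_of_comm` : the same when the core is only centralised by `t` and by a normal part `N` of `C₀`
  covering `H` over the torus and the torus elements of odd order.
-/

set_option autoImplicit false
set_option linter.unusedSectionVars false
set_option linter.style.haveILetI false

open scoped commutatorElement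

namespace Cfsg.Agent.SDKeystone.Budget

open Subgroup

universe u v w

variable {G : Type u} [Group G] {H : Type v} [Group H] {C₀ : Subgroup G}

/-- **Field-freeness from a central core.** -/
theorem conj_mem_of_central {A : Type*} [CommGroup A] {z t g : G} (χ : centralizer ({z} : Set G) →* A)
    (hC₀ : ∀ x (hx : x ∈ centralizer ({z} : Set G)), x ∈ C₀ ↔ χ ⟨x, hx⟩ = 1)
    (φ : C₀ →* H) (hgz : g * z * g⁻¹ = t) (hgt : g * t * g⁻¹ = z)
    (htor : ∀ x y : C₀, Commute t (x : G) → Commute t (y : G) → Commute z (x : G) →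
      Commute z (y : G) → Commute (φ x) (φ y))
    (hcentral : ∀ x c : C₀, φ x = 1 → Commute x c)
    (hcube : ∀ y : G, Commute z y → Commute t y → y ∉ C₀ →
      ∃ x ∈ C₀, x ∈ centralizer ({z} : Set G) ⊓ centralizer ({t} : Set G) ∧
        ∀ h : ⁅⁅⁅x, y⁆, y⁆, y⁆ ∈ C₀, φ ⟨_, h⟩ ≠ 1)
    (x : G) (hx : x ∈ C₀) (hzx : Commute z x) (htx : Commute t x) : g * x * g⁻¹ ∈ C₀ := by
  refine SDBudget.conj_mem_of_cube χ hC₀ φ hgz hgt htor ?_ hcube x hx hzx htx
  intro a b _ _ _ _ _ _ hka hga hgb h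
  have hc : Commute (g * a * g⁻¹) (g * b * g⁻¹) :=
    congrArg Subtype.val (hcentral ⟨_, hga⟩ ⟨_, hgb⟩ (hka hga)).eq
  have hab : Commute a b := by
    have h' := hc.map (MulAut.conj g⁻¹)
    simp only [MulAut.conj_apply, inv_inv] at h'
    simpa [mul_assoc] using h'
  rw [show (⟨⁅a, b⁆, h⟩ : C₀) = 1 from Subtype.ext (commutatorElement_eq_one_iff_commute.2 hab), map_one]

variable [Finite G] [Finite H] {X : Type w} [MulAction H X] {Z : Subgroup H} {n q o : ℕ} {δ : ℤ}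

/-- A central core seen faithfully in the torus of `t` is cyclic, of order dividing `o`. -/
theorem core_cyclic_of_injective {z t g : G} (φ : C₀ →* H) (htC : t ∈ C₀) (hle : ∀ c ∈ C₀, Commute z c)
    (hline : Line H X (φ ⟨t, htC⟩) Z n q o δ) (hker : ¬ 2 ∣ Nat.card φ.ker) (hgz : g * z * g⁻¹ = t)
    (hmem : ∀ x : C₀, φ x = 1 → g * (x : G) * g⁻¹ ∈ C₀)
    (hinj : ∀ (x : C₀) (hx : φ x = 1), φ ⟨_, hmem x hx⟩ = 1 → x = 1) :
    IsCyclic φ.ker ∧ Nat.card φ.ker ∣ o ∧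
      ∀ (x : C₀) (hx : φ x = 1), φ ⟨_, hmem x hx⟩ ∈ centralizer ({φ ⟨t, htC⟩} : Set H) := by
  classical
  have htor : ∀ (x : C₀) (hx : φ x = 1), φ ⟨_, hmem x hx⟩ ∈ centralizer ({φ ⟨t, htC⟩} : Set H) := by
    intro x hx
    have h : Commute (⟨_, hmem x hx⟩ : C₀) ⟨t, htC⟩ := by
      refine Subtype.ext ?_
      have h' := ((hle _ x.2).symm.map (MulAut.conj g)).eq
      simp only [MulAut.conj_apply, hgz] at h'
      exact h'
    exact mem_centralizer_singleton_iff.2 (h.map φ).eq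
  let f : φ.ker →* H := φ.comp
    { toFun := fun x => ⟨g * ((x : C₀) : G) * g⁻¹, hmem x x.2⟩
      map_one' := Subtype.ext (by simp)
      map_mul' := fun a c => Subtype.ext (by simp [mul_assoc]) }
  have hf : Function.Injective f :=
    (injective_iff_map_eq_one f).2 fun x hx => Subtype.ext (hinj x x.2 hx)
  haveI : Z.Normal := ⟨fun h hh c => by rwa [← (hline.central_Z h hh c).eq, mul_inv_cancel_right]⟩
  have hfZ : ∀ x : φ.ker, f x ∈ Z → x = 1 := fun x hx => by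
    refine hf ((orderOf_eq_one_iff.1 ?_).trans (map_one f).symm)
    refine Nat.eq_one_of_dvd_coprimes ?_ ((orderOf_map_dvd f x).trans (_root_.orderOf_dvd_natCard x))
      (Subgroup.orderOf_dvd_natCard Z hx)
    rw [hline.card_Z]
    exact (((Nat.prime_two.coprime_iff_not_dvd).2 hker).symm).pow_right n
  refine ⟨?_, ?_, htor⟩
  · obtain ⟨a, -, hgen⟩ := hline.torus_gen
    let k : φ.ker →* H ⧸ Z := (QuotientGroup.mk' Z).comp f
    have hk : Function.Injective k := (injective_iff_map_eq_one k).2 fun x hx =>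
      hfZ x ((QuotientGroup.eq_one_iff _).1 hx)
    have hsub : k.range ≤ zpowers (QuotientGroup.mk' Z a) := by
      rintro _ ⟨x, rfl⟩
      obtain ⟨i, hi⟩ := hgen _ (htor x x.2)
      refine mem_zpowers_iff.2 ⟨-i, ?_⟩
      have h1 : QuotientGroup.mk' Z (f x * a ^ i) = 1 := (QuotientGroup.eq_one_iff _).2 hi
      rw [map_mul, map_zpow] at h1
      rw [zpow_neg]
      exact (eq_inv_of_mul_eq_one_left h1).symm
    haveI : IsCyclic k.range := isCyclic_of_injective _ (inclusion_injective hsub)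
    exact isCyclic_of_injective k.rangeRestrict fun x y h => hk (congrArg Subtype.val h)
  · have h : Nat.card φ.ker ∣ 2 ^ n * (2 ^ n * o) := by
      rw [← hline.torus_card, ← Nat.card_congr (MonoidHom.ofInjective hf).toEquiv.symm]
      exact card_dvd_of_le fun _ ⟨x, hx⟩ => hx ▸ htor x x.2
    rw [← mul_assoc, ← pow_add] at h
    exact (((Nat.prime_two.coprime_iff_not_dvd).2 hker).symm.pow_right _).dvd_of_dvd_mul_left h

/-- From the output of the budget to the input of the end game. -/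
theorem final {A : Type*} [CommGroup A] {z t g : G} (χ : centralizer ({z} : Set G) →* A)
    (hC₀ : ∀ x (hx : x ∈ centralizer ({z} : Set G)), x ∈ C₀ ↔ χ ⟨x, hx⟩ = 1)
    (φ : C₀ →* H) (htC : t ∈ C₀) (hle : ∀ c ∈ C₀, Commute z c)
    (hline : Line H X (φ ⟨t, htC⟩) Z n q o δ) (hker : ¬ 2 ∣ Nat.card φ.ker)
    (hgz : g * z * g⁻¹ = t) (hgt : g * t * g⁻¹ = z)
    (htor : ∀ x y : C₀, Commute t (x : G) → Commute t (y : G) → Commute z (x : G) →
      Commute z (y : G) → Commute (φ x) (φ y))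
    (hcentral : ∀ x c : C₀, φ x = 1 → Commute x c)
    (hinvis : ∀ x : C₀, φ x = 1 → (∃ h : g * (x : G) * g⁻¹ ∈ C₀, φ ⟨_, h⟩ = 1) → x = 1)
    (hcube : ∀ y : G, Commute z y → Commute t y → y ∉ C₀ →
      ∃ x ∈ C₀, x ∈ centralizer ({z} : Set G) ⊓ centralizer ({t} : Set G) ∧
        ∀ h : ⁅⁅⁅x, y⁆, y⁆, y⁆ ∈ C₀, φ ⟨_, h⟩ ≠ 1) :
    (∀ y : C₀, Commute t (y : G) → g * (y : G) * g⁻¹ ∈ C₀) ∧ IsCyclic φ.ker ∧ Nat.card φ.ker ∣ o ∧
      ∀ x : C₀, φ x = 1 → ∃ h : g * (x : G) * g⁻¹ ∈ C₀,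
        φ ⟨_, h⟩ ∈ centralizer ({φ ⟨t, htC⟩} : Set H) := by
  have hfree : ∀ y : C₀, Commute t (y : G) → g * (y : G) * g⁻¹ ∈ C₀ := fun y hy =>
    conj_mem_of_central χ hC₀ φ hgz hgt htor hcentral hcube y y.2 (hle y y.2) hy
  have hmem : ∀ x : C₀, φ x = 1 → g * (x : G) * g⁻¹ ∈ C₀ := fun x hx =>
    hfree x (congrArg Subtype.val (hcentral x ⟨t, htC⟩ hx).eq).symm
  obtain ⟨h1, h2, h3⟩ := core_cyclic_of_injective φ htC hle hline hker hgz hmem
    fun x hx h => hinvis x hx ⟨hmem x hx, h⟩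
  exact ⟨hfree, h1, h2, fun x hx => ⟨hmem x hx, h3 x hx⟩⟩

/-- From a core centralised by `t` and by a part covering `H` over the torus. -/
theorem final_of_comm {A : Type*} [CommGroup A] (hA : ¬ 2 ∣ Nat.card A) {z t g s : G}
    (χ : centralizer ({z} : Set G) →* A)
    (hC₀ : ∀ x (hx : x ∈ centralizer ({z} : Set G)), x ∈ C₀ ↔ χ ⟨x, hx⟩ = 1)
    (φ : C₀ →* H) (htC : t ∈ C₀) (hle : ∀ c ∈ C₀, Commute z c)
    (hline : Line H X (φ ⟨t, htC⟩) Z n q o δ) (hker : ¬ 2 ∣ Nat.card φ.ker)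
    (hgz : g * z * g⁻¹ = t) (hgt : g * t * g⁻¹ = z)
    (hs : s ∈ C₀) (hst : s * t * s⁻¹ = t * z)
    (hKn : ∀ c, Commute z c → ∀ k ∈ φ.ker.map C₀.subtype, c * k * c⁻¹ ∈ φ.ker.map C₀.subtype)
    (htor : ∀ x y : C₀, Commute t (x : G) → Commute t (y : G) → Commute z (x : G) →
      Commute z (y : G) → Commute (φ x) (φ y))
    (hcube : ∀ y : G, Commute z y → Commute t y → y ∉ C₀ →
      ∃ x ∈ C₀, x ∈ centralizer ({z} : Set G) ⊓ centralizer ({t} : Set G) ∧
        ∀ h : ⁅⁅⁅x, y⁆, y⁆, y⁆ ∈ C₀, φ ⟨_, h⟩ ≠ 1)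
    (hkt : ∀ x : C₀, φ x = 1 → Commute t (x : G))
    (hinvis : ∀ x : C₀, φ x = 1 → (∃ h : g * (x : G) * g⁻¹ ∈ C₀, φ ⟨_, h⟩ = 1) → x = 1)
    (N : Subgroup C₀) (hN : ∀ m ∈ N, ∀ x : C₀, φ x = 1 → Commute x m)
    (hgen : ∀ c : C₀, ∃ m ∈ N, ∃ y : C₀, Commute t (y : G) ∧ φ c = φ (m * y))
    (hodd : ∀ y : C₀, Commute t (y : G) → Odd (orderOf y) → ∃ m ∈ N, φ m = φ y) :
    (∀ x c : C₀, φ x = 1 → Commute x c) ∧
      (∀ y : C₀, Commute t (y : G) → g * (y : G) * g⁻¹ ∈ C₀) ∧ IsCyclic φ.ker ∧ Nat.card φ.ker ∣ o ∧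
      ∀ x : C₀, φ x = 1 → ∃ h : g * (x : G) * g⁻¹ ∈ C₀,
        φ ⟨_, h⟩ ∈ centralizer ({φ ⟨t, htC⟩} : Set H) := by
  classical
  have hz : ∀ x : C₀, Commute z (x : G) := fun x => hle _ x.2
  have hKmem : ∀ k ∈ φ.ker.map C₀.subtype, ∃ x : C₀, φ x = 1 ∧ (x : G) = k := fun k ⟨x, hx, e⟩ => ⟨x, hx, e⟩
  have hinvis' : ∀ k ∈ φ.ker.map C₀.subtype, g * k * g⁻¹ ∈ φ.ker.map C₀.subtype → k = 1 := by
    intro k hk hk'
    obtain ⟨x, hx, rfl⟩ := hKmem k hk
    obtain ⟨x', hx', e⟩ := hKmem _ hk'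
    have hmem : g * (x : G) * g⁻¹ ∈ C₀ := e ▸ x'.2
    exact congrArg Subtype.val (hinvis x hx
      ⟨hmem, (congrArg φ (show (⟨_, hmem⟩ : C₀) = x' from Subtype.ext e.symm)).trans hx'⟩)
  have hmem : ∀ x : C₀, φ x = 1 → g * (x : G) * g⁻¹ ∈ C₀ := fun x hx =>
    core_free_of_invisible χ hC₀ φ rfl hKn (fun k hk => by
        obtain ⟨x', -, rfl⟩ := hKmem k hk; exact hz x')
      hgz hgt (hle t htC) hs (hle s hs) hst htor hcube hinvis' x ⟨x, hx, rfl⟩ (hkt x hx)
  -- a swap moves `C₀ ∩ C(t)` into the centraliser of `t` and `z`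
  have hcj : ∀ y : C₀, Commute t (y : G) →
      Commute z (g * (y : G) * g⁻¹) ∧ Commute t (g * (y : G) * g⁻¹) := fun y hy => by
    refine ⟨?_, ?_⟩
    · have h := hy.map (MulAut.conj g)
      simp only [MulAut.conj_apply, hgt] at h
      exact h
    · have h := (hz y).map (MulAut.conj g)
      simp only [MulAut.conj_apply, hgz] at h
      exact h
  -- what commutes at `t` commutes
  have key : ∀ (x y : C₀), φ x = 1 → Commute t (y : G) → g * (y : G) * g⁻¹ ∈ C₀ → Commute x y := by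
    intro x y hx hy hyC
    have hd : φ ⁅x, y⁆ = 1 := by rw [map_commutatorElement, hx, commutatorElement_one_left]
    have e : g * ((⁅x, y⁆ : C₀) : G) * g⁻¹ = ((⁅(⟨_, hmem x hx⟩ : C₀), ⟨_, hyC⟩⁆ : C₀) : G) := by
      simp only [commutatorElement_def, Subgroup.coe_mul, Subgroup.coe_inv]
      group
    refine commutatorElement_eq_one_iff_commute.1 (hinvis _ hd ⟨e ▸ SetLike.coe_mem _, ?_⟩)
    rw [show (⟨_, e ▸ SetLike.coe_mem _⟩ : C₀) = ⁅(⟨_, hmem x hx⟩ : C₀), ⟨_, hyC⟩⁆ from Subtype.ext e,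
      map_commutatorElement, commutatorElement_eq_one_iff_commute]
    exact htor ⟨_, hmem x hx⟩ ⟨_, hyC⟩ (hcj x (hkt x hx)).2 (hcj y hy).2 (hcj x (hkt x hx)).1 (hcj y hy).1
  have hab : ∀ x y : C₀, φ x = 1 → φ y = 1 → Commute x y := fun x y hx hy =>
    key x y hx (hkt y hy) (hmem y hy)
  have hoddc : ∀ x y : C₀, φ x = 1 → Commute t (y : G) → Odd (orderOf y) → Commute x y := by
    intro x y hx hy hyo
    obtain ⟨m, hm, hmy⟩ := hodd y hy hyo
    have hk : φ (m⁻¹ * y) = 1 := by rw [map_mul, map_inv, hmy, inv_mul_cancel]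
    rw [← mul_inv_cancel_left m y]
    exact (hN m hm x hx).mul_right (hab x _ hx hk)
  have htwo : ∀ x y : C₀, φ x = 1 → Commute t (y : G) → ∀ i, y ^ 2 ^ i = 1 → Commute x y := by
    intro x y hx hy i hyi
    have hmem' : g * (y : G) * g⁻¹ ∈ centralizer ({z} : Set G) :=
      mem_centralizer_singleton_iff.2 (hcj y hy).1.eq.symm
    refine key x y hx hy ((hC₀ _ hmem').2 ?_)
    have hp : (⟨_, hmem'⟩ : centralizer ({z} : Set G)) ^ 2 ^ i = 1 := Subtype.ext <| by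
      show (g * (y : G) * g⁻¹) ^ 2 ^ i = 1
      rw [conj_pow, ← SubmonoidClass.coe_pow, hyi, Subgroup.coe_one, mul_one, mul_inv_cancel]
    refine orderOf_eq_one_iff.1 (Nat.eq_one_of_dvd_coprimes
      ((Nat.prime_two.coprime_iff_not_dvd.2 hA).pow_left i) (orderOf_dvd_of_pow_eq_one ?_)
      (_root_.orderOf_dvd_natCard _))
    rw [← map_pow, hp, map_one]
  have hcT : ∀ x y : C₀, φ x = 1 → Commute t (y : G) → Commute x y := by
    intro x y hx hy
    obtain ⟨i, m, hm, hym⟩ := Nat.exists_eq_two_pow_mul_odd (orderOf_pos y).ne'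
    obtain ⟨a, c, hac⟩ := Int.isCoprime_iff_gcd_eq_one.2
      (show Int.gcd ((2 ^ i : ℕ) : ℤ) (m : ℤ) = 1 from (Nat.coprime_two_left.2 hm).pow_left i)
    have e : y = (y ^ 2 ^ i) ^ a * (y ^ m) ^ c := by
      rw [← zpow_natCast y, ← zpow_natCast y, ← zpow_mul, ← zpow_mul, ← zpow_add,
        show ((2 ^ i : ℕ) : ℤ) * a + (m : ℤ) * c = 1 by linarith, zpow_one]
    rw [e]
    refine ((hoddc x _ hx ?_ ?_).zpow_right a).mul_right ((htwo x _ hx ?_ i ?_).zpow_right c)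
    · rw [SubmonoidClass.coe_pow]; exact hy.pow_right _
    · refine hm.of_dvd_nat (orderOf_dvd_of_pow_eq_one ?_)
      rw [← pow_mul, ← hym, pow_orderOf_eq_one]
    · rw [SubmonoidClass.coe_pow]; exact hy.pow_right _
    · rw [← pow_mul, mul_comm, ← hym, pow_orderOf_eq_one]
  have hcentral : ∀ x c : C₀, φ x = 1 → Commute x c := by
    intro x c hx
    obtain ⟨m, hm, y, hy, hc⟩ := hgen c
    have hk : φ ((m * y)⁻¹ * c) = 1 := by rw [map_mul, map_inv, hc, inv_mul_cancel]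
    rw [← mul_inv_cancel_left (m * y) c]
    exact ((hN m hm x hx).mul_right (hcT x y hx hy)).mul_right (hab x _ hx hk)
  exact ⟨hcentral, final χ hC₀ φ htC hle hline hker hgz hgt htor hcentral hinvis hcube⟩

end Cfsg.Agent.SDKeystone.Budget
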