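import Cfsg.Agent.EqLemmas
import Cfsg.Agent.Lib.SDKeystone.Budget.LineSD
import Mathlib.FieldTheory.Finite.Basic

/-!
# `Budget.Line` when the kernel of the action on `PSL₂` is cyclic of any two-power order

The general form of `LineSD` (whose proofs are followed), for the wreathed case.

* `DiagLine.line` : `Budget.Line H (Ax F) t Z n q o δ`;
* `DiagLine.le_of_t_mem` : a normal subgroup containing `t` contains `SL₂(q)`;
* `DiagLine.eq_top_of_torus_le` : a normal subgroup containing the torus is everything.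
-/

set_option autoImplicit false
set_option linter.unusedSectionVars false
set_option linter.style.haveILetI false

open Matrix
open scoped MatrixGroups commutatorElement

namespace Cfsg.Agent.SDKeystone.Budget

open Cfsg.Agent.PSL2 (SL2 PSL2 upT loT)
open Cfsg.Agent.AutPSL (semi semiSL)
open Cfsg.Agent.QGroup (Amb rho rhoSL)
open Cfsg.Agent.QGroup.PtLine (Ax point)
open Cfsg.Agent.SDKeystone.Torus (mat tor)

universe u

variable {F : Type} [Field F] [Fintype F]

section

variable {H : Type u} [Group H] [Finite H] {S : Sylow 2 H} {z t : H} {N : Subgroup H} [hNn : N.Normal]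
  (e : N ≃* SL2 F) {Z : Subgroup H} {n : ℕ} {δ : ℤ}

/-- The hypotheses on `H`: `Z` is the kernel of the action on `PSL₂`, cyclic and central of order `2 ^ n`, the
action has image `PGL₂`, `q - δ` is `2 ^ n` times an odd number, `δ = 1` exactly when `t` is split, and `q ≥ 4`
when `δ = -1`. -/
structure DiagLine (S : Sylow 2 H) (z t : H) (e : N ≃* SL2 F) (Z : Subgroup H) (n : ℕ) (δ : ℤ) : Prop where
  amb : Amb S z
  odd : Odd (Nat.card F)
  two_le : 2 ≤ n
  q5 : δ = -1 → 4 ≤ Nat.card F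
  ker_iff : ∀ h : H, rho e h = 1 ↔ h ∈ Z
  card_Z : Nat.card Z = 2 ^ n
  cyclic_Z : IsCyclic Z
  central_Z : Z ≤ Subgroup.center H
  diag : ∀ h, ∃ g : GL (Fin (0 + 2)) F, rho e h = semi g (RingEquiv.refl F)
  surj : ∀ g : GL (Fin (0 + 2)) F, ∃ h : H, rho e h = sem g
  t_two : orderOf t = 2
  tz : ∃ h : H, h * t * h⁻¹ = t * z
  sign : δ = 1 ∨ δ = -1
  q_sub : ∃ o : ℕ, Odd o ∧ (Nat.card F : ℤ) - δ = ((2 ^ n : ℕ) : ℤ) * o
  rho_t : ∃ m : GL (Fin (0 + 2)) F, rho e t = sem m ∧ mat m 0 0 + mat m 1 1 = 0 ∧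
    (IsSquare (-(mat m).det) ↔ δ = 1)

variable {e} (D : DiagLine S z t e Z n δ)
include D

theorem DiagLine.two_ne : (2 : F) ≠ 0 := PSL2.two_ne_zero_iff_odd.2 D.odd

theorem DiagLine.z_mem_Z : z ∈ Z :=
  (D.ker_iff z).1 ((QGroup.rho_eq_one_iff e D.odd z).2 (Subgroup.center_le_centralizer _ D.amb.zc))

theorem DiagLine.card_H : Nat.card H = 2 ^ n * (Nat.card F * (Nat.card F ^ 2 - 1)) := by
  have hker : (rho e).ker = Z := Subgroup.ext fun h => D.ker_iff h
  have hran : (rho e).range = (sem (F := F)).range := by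
    refine le_antisymm ?_ ?_
    · rintro _ ⟨h, rfl⟩
      obtain ⟨g, hg⟩ := D.diag h
      exact ⟨g, hg.symm⟩
    · rintro _ ⟨g, rfl⟩
      obtain ⟨h, hh⟩ := D.surj g
      exact ⟨h, hh⟩
  have h1 : Nat.card H = 2 ^ n * Nat.card (sem (F := F)).range := by
    rw [← hran, ← Subgroup.card_mul_index (rho e).ker, Subgroup.index_ker, hker, D.card_Z]
  have h2 : Nat.card (GL (Fin (0 + 2)) F) = (Nat.card F - 1) * Nat.card (sem (F := F)).range := by
    have hk : (sem (F := F)).ker = Subgroup.center (GL (Fin (0 + 2)) F) := Subgroup.ext fun g => sem_eq_one_iff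
    rw [← Subgroup.card_mul_index (sem (F := F)).ker, Subgroup.index_ker, hk, card_center_gl]
  rw [show Nat.card (GL (Fin (0 + 2)) F) = _ from GLOrder.card_GL_two (F := F)] at h2
  have hq : 0 < Nat.card F - 1 := by have := Finite.one_lt_card (α := F); omega
  rw [h1]
  congr 1
  refine (Nat.eq_of_mul_eq_mul_left hq ?_).symm
  rw [← h2]; ring

variable {m : GL (Fin (0 + 2)) F} (hm : rho e t = sem m) (htr : mat m 0 0 + mat m 1 1 = 0)
include hm htr

omit hm in
theorem DiagLine.not_scalar : ¬ ∃ a : F, mat m = a • (1 : Matrix (Fin 2) (Fin 2) F) :=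
  SylowCyclicSuzuki.not_scalar D.two_ne htr

theorem DiagLine.tor_lift_comm {h h' : H} {g g' : GL (Fin (0 + 2)) F} (hg : g ∈ tor m) (hg' : g' ∈ tor m)
    (eh : rho e h = sem g) (eh' : rho e h' = sem g') : Commute h h' := by
  -- a central extension of a cyclic group
  obtain ⟨g₀, hg₀, hgen⟩ := Torus.tor_cyclic_mod D.two_ne htr
  obtain ⟨a, ha⟩ := D.surj g₀
  have key : ∀ {x : H} {k : GL (Fin (0 + 2)) F}, k ∈ tor m → rho e x = sem k →
      ∃ i : ℤ, ∃ ζ ∈ Z, x = a ^ i * ζ := by
    intro x k hk ex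
    obtain ⟨i, hi⟩ := hgen k hk
    refine ⟨-i, (a ^ (-i))⁻¹ * x, ?_, by group⟩
    rw [← D.ker_iff, map_mul, map_inv, map_zpow, ha, ex, ← map_zpow, ← map_inv, ← map_mul, _root_.zpow_neg,
      inv_inv]
    refine sem_eq_one_iff.2 ?_
    rwa [Torus.tor_comm D.two_ne htr (Subgroup.zpow_mem _ hg₀ i) hk]
  have hc : ∀ ζ ∈ Z, ∀ x : H, Commute ζ x := fun ζ hζ x =>
    (Subgroup.mem_center_iff.1 (D.central_Z hζ) x).symm
  obtain ⟨i, ζ, hζ, rfl⟩ := key hg eh
  obtain ⟨j, ζ', hζ', rfl⟩ := key hg' eh'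
  exact (((Commute.refl a).zpow_zpow i j).mul_right (hc ζ' hζ' _).symm).mul_left (hc ζ hζ _)

omit htr in
theorem DiagLine.t_lift {h : H} {g : GL (Fin (0 + 2)) F} (eh : rho e h = sem g) (hc : Commute h t) :
    mat g * mat m = mat m * mat g ∨ mat g * mat m = -(mat m * mat g) := by
  have h1 := congrArg (rho e) hc.eq
  rw [map_mul, map_mul, eh, hm, ← map_mul, ← map_mul, ← inv_mul_eq_one, ← map_inv, ← map_mul,
    sem_eq_one_iff, center_iff] at h1
  obtain ⟨a, ha⟩ := h1
  have e1 : mat m * mat g = a • (mat g * mat m) := by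
    have h2 : mat (g * m) * mat ((g * m)⁻¹ * (m * g)) = mat (m * g) :=
      congrArg Units.val (mul_inv_cancel_left (g * m) (m * g))
    rw [ha, mul_smul_comm, mul_one] at h2
    exact h2.symm
  have ha2 : a * a = 1 := by
    have h3 := congrArg Matrix.det e1
    rw [Matrix.det_smul, Matrix.det_mul, Matrix.det_mul, Fintype.card_fin, mul_comm (mat m).det] at h3
    rw [← pow_two]
    exact mul_right_cancel₀ (mul_ne_zero (Torus.det_ne g) (Torus.det_ne m)) (h3.symm.trans (one_mul _).symm)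
  rcases mul_self_eq_one_iff.1 ha2 with e2 | e2 <;> rw [e2] at e1
  · left; rw [e1, one_smul]
  · right; rw [e1, neg_one_smul, neg_neg]

/-- An element sending `t` to `t z` anticommutes with `m`. -/
theorem DiagLine.exists_anti_lift : ∃ (h₀ : H) (g₀ : GL (Fin (0 + 2)) F), h₀ * t * h₀⁻¹ = t * z ∧
    rho e h₀ = sem g₀ ∧ mat g₀ * mat m = -(mat m * mat g₀) := by
  obtain ⟨h₀, hh₀⟩ := D.tz
  obtain ⟨g₀, hg₀⟩ := D.diag h₀
  refine ⟨h₀, g₀, hh₀, hg₀, ?_⟩
  have h1 : sem g₀ * sem m * (sem g₀)⁻¹ = sem m := by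
    have := congrArg (rho e) hh₀
    rwa [map_mul, map_mul, map_inv, map_mul, (D.ker_iff z).2 D.z_mem_Z, mul_one,
      hg₀, hm] at this
  rw [← map_mul, ← map_inv, ← map_mul, ← inv_mul_eq_one, ← map_inv, ← map_mul, sem_eq_one_iff] at h1
  have hin : g₀ * m * g₀⁻¹ ∈ tor m := by
    rw [tor, Subgroup.mem_centralizer_singleton_iff]
    have h2 := Subgroup.mem_center_iff.1 h1 m
    have e3 : (g₀ * m * g₀⁻¹)⁻¹ * m * m = m * ((g₀ * m * g₀⁻¹)⁻¹ * m) := h2.symm
    have e4 : (g₀ * m * g₀⁻¹)⁻¹ * m = m * (g₀ * m * g₀⁻¹)⁻¹ := by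
      refine mul_right_cancel (b := m) ?_
      rw [e3]; group
    exact (Commute.inv_left_iff.1 (show Commute (g₀ * m * g₀⁻¹)⁻¹ m from e4)).eq
  rcases Torus.conj_pm D.two_ne htr (g := m) (Torus.mem_tor.2 rfl) (D.not_scalar htr) hin with hc | hc
  · exfalso
    have hct := D.tor_lift_comm hm htr (Torus.mem_tor.2 hc) (Torus.mem_tor.2 rfl) hg₀ hm
    have h3 : t * z = t := by rw [← hh₀, hct.eq, mul_inv_cancel_right]
    have h4 := D.amb.z2
    rw [show z = 1 from mul_left_cancel (h3.trans (mul_one t).symm), orderOf_one] at h4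
    omega
  · exact hc

theorem DiagLine.mem_torus_iff (h : H) :
    h ∈ Subgroup.centralizer ({t} : Set H) ↔ ∃ g ∈ tor m, rho e h = sem g := by
  rw [Subgroup.mem_centralizer_singleton_iff]
  constructor
  · intro hc
    obtain ⟨g, hg⟩ := D.diag h
    refine ⟨g, Torus.mem_tor.2 ?_, hg⟩
    rcases D.t_lift hm hg hc with h1 | h1
    · exact h1
    exfalso
    obtain ⟨h₀, g₀, hh₀, hg₀, hanti⟩ := D.exists_anti_lift hm htr
    have hgg : g₀ * g ∈ tor m := Torus.mem_tor.2 (by
      show mat g₀ * mat g * mat m = mat m * (mat g₀ * mat g)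
      rw [Matrix.mul_assoc, h1, Matrix.mul_neg, ← Matrix.mul_assoc, hanti, Matrix.neg_mul, neg_neg,
        Matrix.mul_assoc])
    have hk := D.tor_lift_comm hm htr hgg (Torus.mem_tor.2 rfl) (h := h₀ * h)
      (by rw [map_mul, hg₀, show rho e h = sem g from hg, map_mul]) hm
    have h5 : h₀ * t = t * h₀ := by
      refine mul_right_cancel (b := h) ?_
      calc h₀ * t * h = h₀ * (h * t) := by rw [mul_assoc, hc]
        _ = t * (h₀ * h) := by rw [← mul_assoc]; exact hk.eq
        _ = _ := (mul_assoc _ _ _).symm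
    have h3 : t * z = t := by rw [← hh₀, h5, mul_inv_cancel_right]
    have h4 := D.amb.z2
    rw [show z = 1 from mul_left_cancel (h3.trans (mul_one t).symm), orderOf_one] at h4
    omega
  · rintro ⟨g, hg, eh⟩
    exact (D.tor_lift_comm hm htr hg (Torus.mem_tor.2 rfl) eh hm).eq

theorem DiagLine.torus_card (hiff : IsSquare (-(mat m).det) ↔ δ = 1) :
    (Nat.card (Subgroup.centralizer ({t} : Set H)) : ℤ) = (2 ^ n : ℕ) * ((Nat.card F : ℤ) - δ) := by
  have hs : IsSquare (-(mat m).det) → δ = 1 := hiff.1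
  have hn : ¬ IsSquare (-(mat m).det) → δ = -1 := fun h => D.sign.resolve_left (mt hiff.2 h)
  set A := Subgroup.centralizer ({t} : Set H) with hA
  have hq : 0 < Nat.card F - 1 := by have := Finite.one_lt_card (α := F); omega
  have hran : ((rho e).comp A.subtype).range = ((sem (F := F)).comp (tor m).subtype).range := by
    refine le_antisymm ?_ ?_
    · rintro _ ⟨h, rfl⟩
      obtain ⟨g, hg, eh⟩ := (D.mem_torus_iff hm htr h).1 h.2
      exact ⟨⟨g, hg⟩, eh.symm⟩
    · rintro _ ⟨g, rfl⟩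
      obtain ⟨h, hh⟩ := D.surj (g : GL (Fin (0 + 2)) F)
      exact ⟨⟨h, (D.mem_torus_iff hm htr h).2 ⟨g, g.2, hh⟩⟩, hh⟩
  have hk1 : Nat.card ((rho e).comp A.subtype).ker = 2 ^ n := by
    refine Eq.trans ?_ D.card_Z
    have hzA : Z ≤ A := fun w hw =>
      Subgroup.mem_centralizer_singleton_iff.2 (Subgroup.mem_center_iff.1 (D.central_Z hw) t).symm
    refine Eq.trans (congrArg (fun K : Subgroup A => Nat.card K) (?_ : _ = Z.subgroupOf A))
      (Nat.card_congr (Subgroup.subgroupOfEquivOfLe hzA).toEquiv)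
    ext h
    exact D.ker_iff h
  have hk2 : Nat.card ((sem (F := F)).comp (tor m).subtype).ker = Nat.card F - 1 := by
    have hle : Subgroup.center (GL (Fin (0 + 2)) F) ≤ tor m := Subgroup.center_le_centralizer _
    rw [← card_center_gl]
    refine Eq.trans (congrArg (fun K : Subgroup (tor m) => Nat.card K)
      (?_ : _ = (Subgroup.center (GL (Fin (0 + 2)) F)).subgroupOf (tor m)))
      (Nat.card_congr (Subgroup.subgroupOfEquivOfLe hle).toEquiv)
    ext g
    exact sem_eq_one_iff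
  have h1 := Subgroup.card_mul_index ((rho e).comp A.subtype).ker
  rw [Subgroup.index_ker, hk1, hran] at h1
  have h2 := Subgroup.card_mul_index ((sem (F := F)).comp (tor m).subtype).ker
  rw [Subgroup.index_ker, hk2] at h2
  have h3 := Torus.card_tor D.two_ne htr hs hn
  rw [← h2] at h3
  push_cast [Nat.cast_sub (show 1 ≤ Nat.card F by omega)] at h3
  rw [← h1]
  push_cast
  congr 1
  exact mul_left_cancel₀ (by omega : ((Nat.card F : ℤ) - 1) ≠ 0) h3

theorem DiagLine.conj_torus {h : H} {g : GL (Fin (0 + 2)) F} (eh : rho e h = sem g)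
    (hpm : mat g * mat m = mat m * mat g ∨ mat g * mat m = -(mat m * mat g)) :
    h ∈ Subgroup.normalizer ((Subgroup.centralizer ({t} : Set H)) : Set H) := by
  refine mem_normalizer_of_conj fun x hx => ?_
  obtain ⟨k, hk, ex⟩ := (D.mem_torus_iff hm htr x).1 hx
  refine (D.mem_torus_iff hm htr _).2 ⟨g * k * g⁻¹, ?_, by rw [map_mul, map_mul, map_inv, eh, ex, map_mul, map_mul, map_inv]⟩
  obtain ⟨a, b, ek⟩ := Torus.exists_lin D.two_ne htr hk
  rw [Torus.mem_tor]
  have hgi : mat g * mat g⁻¹ = 1 := g.mul_inv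
  have hsgn : ∃ s : F, mat g * mat m = s • (mat m * mat g) := by
    rcases hpm with h1 | h1
    · exact ⟨1, by rw [h1, one_smul]⟩
    · exact ⟨-1, by rw [h1, neg_one_smul]⟩
  obtain ⟨s, hs⟩ := hsgn
  have e1 : mat (g * k * g⁻¹) = a • (1 : Matrix (Fin 2) (Fin 2) F) + (b * s) • mat m := by
    show mat g * mat k * mat g⁻¹ = _
    rw [ek, Matrix.mul_add, Matrix.mul_smul, Matrix.mul_smul, Matrix.mul_one, hs, smul_smul, Matrix.add_mul,
      Matrix.smul_mul, Matrix.smul_mul, Matrix.mul_assoc, hgi, Matrix.mul_one]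
  rw [e1, Matrix.add_mul, Matrix.mul_add, Matrix.smul_mul, Matrix.smul_mul, Matrix.mul_smul, Matrix.mul_smul,
    Matrix.one_mul, Matrix.mul_one]

theorem DiagLine.torus_norm :
    Nat.card (Subgroup.normalizer ((Subgroup.centralizer ({t} : Set H)) : Set H)) =
      2 * Nat.card (Subgroup.centralizer ({t} : Set H)) := by
  set A := Subgroup.centralizer ({t} : Set H) with hA
  set Nm := Subgroup.normalizer (A : Set H) with hNm
  obtain ⟨h₀, g₀, hh₀, hg₀, hanti⟩ := D.exists_anti_lift hm htr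
  have hAN : A ≤ Nm := Subgroup.le_normalizer
  have h₀N : h₀ ∈ Nm := D.conj_torus hm htr hg₀ (Or.inr hanti)
  have h₀A : h₀ ∉ A := fun hc => by
    have h3 : t * z = t := by
      rw [← hh₀, Subgroup.mem_centralizer_singleton_iff.1 hc, mul_inv_cancel_right]
    have h4 := D.amb.z2
    rw [show z = 1 from mul_left_cancel (h3.trans (mul_one t).symm), orderOf_one] at h4
    omega
  have hidx : (A.subgroupOf Nm).index = 2 := by
    rw [Subgroup.index_eq_two_iff]
    refine ⟨⟨h₀, h₀N⟩, fun x => ?_⟩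
    have hxt : (x : H) * t * (x : H)⁻¹ ∈ A :=
      (Subgroup.mem_normalizer_iff.1 x.2 t).1 (Subgroup.mem_centralizer_singleton_iff.2 rfl)
    obtain ⟨g, hg⟩ := D.diag (x : H)
    have hg' : rho e (x : H) = sem g := hg
    obtain ⟨k, hk, ek⟩ := (D.mem_torus_iff hm htr _).1 hxt
    rw [map_mul, map_mul, map_inv, hg', hm, ← map_mul, ← map_inv, ← map_mul] at ek
    have hgm : g * m * g⁻¹ ∈ tor m := by
      have hc : k⁻¹ * (g * m * g⁻¹) ∈ Subgroup.center (GL (Fin (0 + 2)) F) := by
        rw [← sem_eq_one_iff, map_mul, map_inv, ek, inv_mul_cancel]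
      have := mul_mem hk (Subgroup.center_le_centralizer ({m} : Set (GL (Fin (0 + 2)) F)) hc)
      rwa [mul_inv_cancel_left] at this
    rcases Torus.conj_pm D.two_ne htr (g := m) (Torus.mem_tor.2 rfl) (D.not_scalar htr) hgm with h1 | h1
    · refine Or.inr ⟨Subgroup.mem_subgroupOf.2 ((D.mem_torus_iff hm htr _).2 ⟨g, Torus.mem_tor.2 h1, hg'⟩),
        fun hc => h₀A ?_⟩
      have hx : (x : H) ∈ A := (D.mem_torus_iff hm htr _).2 ⟨g, Torus.mem_tor.2 h1, hg'⟩
      exact (A.mul_mem_cancel_left hx).1 (Subgroup.mem_subgroupOf.1 hc)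
    · refine Or.inl ⟨Subgroup.mem_subgroupOf.2 ((D.mem_torus_iff hm htr _).2
        ⟨g * g₀, Torus.mem_tor.2 ?_, by rw [Subgroup.coe_mul, map_mul, hg', hg₀, map_mul]⟩), fun hc => ?_⟩
      · show mat g * mat g₀ * mat m = mat m * (mat g * mat g₀)
        rw [Matrix.mul_assoc, hanti, Matrix.mul_neg, ← Matrix.mul_assoc, h1, Matrix.neg_mul, neg_neg,
          Matrix.mul_assoc]
      · obtain ⟨k', hk', ek'⟩ := (D.mem_torus_iff hm htr _).1 (Subgroup.mem_subgroupOf.1 hc)
        rw [hg', ← inv_mul_eq_one, ← map_inv, ← map_mul, sem_eq_one_iff] at ek'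
        have hgt : g ∈ tor m := by
          have h4 := mul_mem (Subgroup.center_le_centralizer ({m} : Set (GL (Fin (0 + 2)) F)) ek')
            (inv_mem hk')
          have h5 := inv_mem h4
          rwa [_root_.mul_inv_rev, inv_inv, _root_.mul_inv_rev, inv_inv, mul_inv_cancel_left] at h5
        have h6 := Torus.mem_tor.1 hgt
        rw [h1] at h6
        have hne : mat m * mat g ≠ 0 := fun e0 => by
          have := congrArg Matrix.det e0
          rw [Matrix.det_mul, Matrix.det_zero, mul_eq_zero] at this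
          exact this.elim (Torus.det_ne m) (Torus.det_ne g)
        have h7 : (2 : F) • (mat m * mat g) = 0 := by
          rw [two_smul]
          nth_rw 1 [← h6]
          exact neg_add_cancel _
        exact (smul_eq_zero.1 h7).elim D.two_ne hne
  have h1 := (A.subgroupOf Nm).card_mul_index
  rw [hidx, Nat.card_congr (Subgroup.subgroupOfEquivOfLe hAN).toEquiv] at h1
  rw [← h1, mul_comm]

theorem DiagLine.conj_coe {h : H} {g : GL (Fin (0 + 2)) F} (eh : rho e h = sem g) (w : SL2 F) :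
    h * ((e.symm w : N) : H) * h⁻¹ = ((e.symm (semiSL g (RingEquiv.refl F) w) : N) : H) := by
  have h1 : rhoSL e h = semiSL g (RingEquiv.refl F) :=
    QGroup.autQ_injective D.odd (Eq.trans eh (QGroup.autQ_semiSL g _).symm)
  have h2 := QGroup.rhoSL_apply e h (e.symm w)
  rw [e.apply_symm_apply, h1] at h2
  rw [h2, e.symm_apply_apply, MulAut.conjNormal_apply]

omit hm in
/-- The torus of `GL₂` has elements of every determinant. -/
theorem DiagLine.exists_tor_det (c : F) (hc : c ≠ 0) : ∃ g ∈ tor m, (mat g).det = c := by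
  have hd : -(mat m).det ≠ 0 := neg_ne_zero.2 (Torus.det_ne m)
  obtain ⟨a, b, hab⟩ := FiniteField.exists_root_sum_quadratic
    (f := Polynomial.X ^ 2 - Polynomial.C c)
    (g := Polynomial.C ((mat m).det) * Polynomial.X ^ 2) (Polynomial.degree_X_pow_sub_C two_pos c)
    (Polynomial.degree_C_mul_X_pow 2 (Torus.det_ne m))
    (by rw [← Nat.card_eq_fintype_card]; exact Nat.odd_iff.1 D.odd)
  have e1 : a ^ 2 - b ^ 2 * -(mat m).det = c := by
    simp at hab
    linear_combination hab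
  obtain ⟨g, hg, eg⟩ := Torus.exists_of_lin htr (a := a) (b := b) (by rw [e1]; exact hc)
  exact ⟨g, hg, by rw [eg, Torus.det_lin htr, e1]⟩

/-- A subgroup containing `N` and the torus is everything. -/
theorem DiagLine.eq_top_of_le {M : Subgroup H} (hA : Subgroup.centralizer ({t} : Set H) ≤ M)
    (hN : N ≤ M) : M = ⊤ := by
  refine eq_top_iff.2 fun h _ => ?_
  obtain ⟨g, hg⟩ := D.diag h
  have hsq : ∀ (x : H) (k : GL (Fin (0 + 2)) F), rho e x = sem k → IsSquare (mat k).det → x ∈ M := by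
    intro x k ex hk
    obtain ⟨y, hy⟩ := (QGroup.mem_range_conj_iff k).2 hk
    obtain ⟨y, rfl⟩ := QuotientGroup.mk_surjective y
    have h1 : ((e.symm y : N) : H)⁻¹ * x ∈ M := by
      refine hA (Subgroup.mem_centralizer_singleton_iff.2 ?_)
      have h2 : ((e.symm y : N) : H)⁻¹ * x ∈ Z := by
        rw [← D.ker_iff, map_mul, map_inv, QGroup.rho_coe, e.apply_symm_apply, ex, sem_apply, hy,
          inv_mul_cancel]
      exact (Subgroup.mem_center_iff.1 (D.central_Z h2) t).symm
    have h3 := mul_mem (hN (e.symm y).2) h1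
    rwa [mul_inv_cancel_left] at h3
  by_cases hd : IsSquare (mat g).det
  · exact hsq h g hg hd
  · obtain ⟨k, hk, ek⟩ := D.exists_tor_det htr ((mat g).det) (Torus.det_ne g)
    obtain ⟨x, hx⟩ := D.surj k
    have hxM : x ∈ M := hA ((D.mem_torus_iff hm htr x).2 ⟨k, hk, hx⟩)
    have h1 := hsq (h * x) (g * k) (by rw [map_mul, show rho e h = sem g from hg, hx, map_mul]) (by
      show IsSquare (mat g * mat k).det
      rw [Matrix.det_mul, ek]
      exact ⟨_, rfl⟩)
    exact (M.mul_mem_cancel_right hxM).1 h1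

theorem DiagLine.le_of_upT {M : Subgroup H} [M.Normal] {γ : GL (Fin (0 + 2)) F}
    (h : ∀ b : F, ((e.symm (semiSL γ (RingEquiv.refl F) (upT b)) : N) : H) ∈ M) : N ≤ M := by
  haveI : ((M.subgroupOf N).comap ((semiSL γ (RingEquiv.refl F)).trans e.symm).toMonoidHom).Normal := by
    infer_instance
  have htop := eq_top_of_upT_mem
    ((M.subgroupOf N).comap ((semiSL γ (RingEquiv.refl F)).trans e.symm).toMonoidHom)
    fun b => Subgroup.mem_comap.2 (Subgroup.mem_subgroupOf.2 (h b))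
  intro x hx
  obtain ⟨w, hw⟩ := ((semiSL γ (RingEquiv.refl F) : SL2 F ≃* SL2 F).trans e.symm).surjective ⟨x, hx⟩
  have h1 : w ∈ (M.subgroupOf N).comap ((semiSL γ (RingEquiv.refl F)).trans e.symm).toMonoidHom :=
    htop ▸ Subgroup.mem_top w
  rw [Subgroup.mem_comap, Subgroup.mem_subgroupOf] at h1
  have h2 : (((semiSL γ (RingEquiv.refl F)).trans e.symm w : N) : H) ∈ M := h1
  rwa [hw] at h2

omit hm in
theorem DiagLine.diag_split (hsq : IsSquare (-(mat m).det)) :
    ∃ (γ : GL (Fin (0 + 2)) F) (r : F), r ≠ 0 ∧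
      mat m * mat γ = mat γ * !![r, 0; 0, -r] := by
  obtain ⟨r₀, hr₀⟩ := hsq
  have hr0 : r₀ ≠ 0 := fun e0 => Torus.det_ne m (by rw [e0, mul_zero, neg_eq_zero] at hr₀; exact hr₀)
  obtain ⟨r, hr, hrr, hra⟩ : ∃ r : F, r ≠ 0 ∧ r * r = -(mat m).det ∧ mat m 0 0 + r ≠ 0 := by
    by_cases h0 : mat m 0 0 + r₀ = 0
    · refine ⟨-r₀, neg_ne_zero.2 hr0, by rw [neg_mul_neg, hr₀], fun h1 => ?_⟩
      exact mul_ne_zero D.two_ne hr0 (by linear_combination h0 - h1)
    · exact ⟨r₀, hr0, hr₀.symm, h0⟩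
  obtain ⟨P, hP⟩ : ∃ P : Matrix (Fin 2) (Fin 2) F,
      P = !![mat m 0 0 + r, mat m 0 1; mat m 1 0, mat m 1 1 - r] := ⟨_, rfl⟩
  have hdet : P.det ≠ 0 := by
    rw [hP, Matrix.det_fin_two_of]
    rw [Matrix.det_fin_two] at hrr
    intro h1
    refine mul_ne_zero (mul_ne_zero D.two_ne hr) hra ?_
    linear_combination -h1 + hrr + r * htr
  refine ⟨GeneralLinearGroup.mkOfDetNeZero P hdet, r, hr, ?_⟩
  show mat m * P = P * !![r, 0; 0, -r]
  rw [hP]
  rw [Matrix.det_fin_two] at hrr
  ext i j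
  fin_cases i <;> fin_cases j <;> simp [Matrix.mul_apply, Fin.sum_univ_two]
  · linear_combination mat m 0 0 * htr - hrr
  · linear_combination mat m 0 1 * htr
  · linear_combination mat m 1 0 * htr
  · linear_combination mat m 1 1 * htr - hrr

omit htr in
theorem DiagLine.fixed_card {h : H} {g : GL (Fin (0 + 2)) F} (eh : rho e h = sem g) :
    Nat.card {K : Ax F // rho e h • K = K} =
      Nat.card (MulAction.fixedBy (Ax F) (semi g (RingEquiv.refl F) : MulAut (PSL2 F))) := by
  rw [eh]; rfl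

end

variable {H : Type u} [Group H] [Finite H] {S : Sylow 2 H} {z t : H} {N : Subgroup H} [hNn : N.Normal]
  {e : N ≃* SL2 F}

/-- A normal subgroup containing `t` contains `SL₂`. -/
theorem DiagLine.le_of_t_mem {Z : Subgroup H} {n : ℕ} {δ : ℤ} (D : DiagLine S z t e Z n δ) {M : Subgroup H}
    [M.Normal] (htM : t ∈ M) : N ≤ M := by
  obtain ⟨m, hm, htr, hiff⟩ := D.rho_t
  have h2 := D.two_ne
  by_cases hsq : IsSquare (-(mat m).det)
  · -- a commutator of a torus element and a root element is a root element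
    obtain ⟨γ, r, hr, hγ⟩ := D.diag_split htr hsq
    refine D.le_of_upT hm htr (γ := γ) fun b => ?_
    have hd : mat (γ⁻¹ * m * γ) = !![r, 0; 0, -r] := by
      show mat γ⁻¹ * mat m * mat γ = _
      rw [Matrix.mul_assoc, hγ, ← Matrix.mul_assoc, show mat γ⁻¹ * mat γ = 1 from γ.inv_mul, Matrix.one_mul]
    set w : ↥N := e.symm (semiSL γ (RingEquiv.refl F) (upT b)) with hw
    have h1 : t * (w : H) * t⁻¹ = (w : H)⁻¹ := by
      rw [hw, D.conj_coe hm htr hm, semiSL_upT (by group) hd, ← Subgroup.coe_inv, ← map_inv, ← map_inv]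
      congr 3
      rw [show r / -r * b = -b by field_simp]
      exact eq_inv_of_mul_eq_one_left (by
        rw [← PSL2.upT_add, neg_add_cancel]
        refine Subtype.ext (Matrix.ext fun i j => ?_)
        fin_cases i <;> fin_cases j <;> simp [upT])
    have h3 : t * (w : H) * t⁻¹ * (w : H)⁻¹ ∈ M := by
      rw [show t * (w : H) * t⁻¹ * (w : H)⁻¹ = t * ((w : H) * t⁻¹ * (w : H)⁻¹) by group]
      exact mul_mem htM (‹M.Normal›.conj_mem _ (inv_mem htM) _)
    rw [h1] at h3
    obtain ⟨k, hk⟩ : ∃ k, orderOf (w : H) = 2 * k + 1 :=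
      (Subgroup.orderOf_coe w).symm ▸ odd_orderOf_upT D.odd γ b e
    have h4 : ((w : H) ^ 2)⁻¹ ∈ M := by rwa [pow_two, _root_.mul_inv_rev]
    have h5 := M.pow_mem (inv_mem_iff.1 h4) (k + 1)
    rwa [← pow_mul, show 2 * (k + 1) = (2 * k + 1) + 1 by ring, pow_succ, ← hk, pow_orderOf_eq_one,
      one_mul] at h5
  · -- otherwise `q ≥ 5` and `PSL₂(q)` is simple
    have h5 : 4 ≤ Nat.card F := D.q5 (D.sign.resolve_left (mt hiff.2 hsq))
    haveI : IsSimpleGroup (PSL2 F) := PSL2.isSimpleGroup_psl h5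
    let π : N →* PSL2 F := (QuotientGroup.mk' _).comp e.toMonoidHom
    have hπ : Function.Surjective π := (QuotientGroup.mk'_surjective _).comp e.surjective
    have hKn : ((M.subgroupOf N).map π).Normal := Subgroup.Normal.map inferInstance _ hπ
    have hK : (M.subgroupOf N).map π ≠ ⊥ := by
      intro hbot
      -- `t` would act trivially
      apply D.not_scalar htr
      rw [← center_iff, ← sem_eq_one_iff, ← hm]
      refine MulEquiv.ext fun y => ?_
      obtain ⟨y, rfl⟩ := hπ y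
      have hx : (MulAut.conjNormal t y * y⁻¹ : N) ∈ M.subgroupOf N := by
        rw [Subgroup.mem_subgroupOf, Subgroup.coe_mul, MulAut.conjNormal_apply, InvMemClass.coe_inv,
          show t * (y : H) * t⁻¹ * (y : H)⁻¹ = t * ((y : H) * t⁻¹ * (y : H)⁻¹) by group]
        exact mul_mem htM (‹M.Normal›.conj_mem _ (inv_mem htM) _)
      have h1 : π (MulAut.conjNormal t y * y⁻¹) = 1 :=
        Subgroup.mem_bot.1 (hbot ▸ Subgroup.mem_map_of_mem π hx)
      rw [map_mul, map_inv, mul_inv_eq_one] at h1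
      show rho e t (π y) = π y
      refine Eq.trans ?_ h1
      show rho e t (QuotientGroup.mk (e y)) = QuotientGroup.mk (e (MulAut.conjNormal t y))
      rw [← QGroup.rhoSL_apply e t y]
      rfl
    have htop := hKn.eq_bot_or_eq_top.resolve_left hK
    -- `SL₂` is perfect
    have hperf : _root_.commutator (SL2 F) = ⊤ := by
      refine Linear.commutator_sl_eq_top (Or.inr ?_)
      by_contra hall
      push Not at hall
      classical
      have hsub : (Finset.univ : Finset F) ⊆ {0, 1, -1} := fun x _ => by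
        by_cases hx : x = 0
        · simp [hx]
        · rcases sq_eq_one_iff.1 (hall x hx) with e1 | e1 <;> simp [e1]
      have h6 := (Finset.card_le_card hsub).trans Finset.card_le_three
      rw [Finset.card_univ, ← Nat.card_eq_fintype_card] at h6
      omega
    intro x hx
    set K : Subgroup (SL2 F) := (M.subgroupOf N).map e.toMonoidHom with hKdef
    haveI : K.Normal := Subgroup.Normal.map inferInstance _ e.surjective
    have hKtop : K ⊔ Subgroup.center (SL2 F) = ⊤ := by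
      refine eq_top_iff.2 fun y _ => ?_
      obtain ⟨w, hw, hwy⟩ := (htop ▸ Subgroup.mem_top (QuotientGroup.mk y : PSL2 F) :
        (QuotientGroup.mk y : PSL2 F) ∈ (M.subgroupOf N).map π)
      have h7 : (e w)⁻¹ * y ∈ Subgroup.center (SL2 F) := QuotientGroup.eq.1 hwy
      have h8 := mul_mem (Subgroup.mem_sup_left (Subgroup.mem_map_of_mem e.toMonoidHom hw) :
        e w ∈ K ⊔ Subgroup.center (SL2 F)) (Subgroup.mem_sup_right h7)
      rwa [mul_inv_cancel_left] at h8
    have hc : _root_.commutator (SL2 F) ≤ K := by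
      rw [_root_.commutator_def, ← hKtop, Subgroup.commutator_le]
      intro a ha b hb
      rw [← SetLike.mem_coe, Subgroup.normal_mul] at ha hb
      obtain ⟨a₁, ha₁, a₂, ha₂, rfl⟩ := ha
      obtain ⟨b₁, hb₁, b₂, hb₂, rfl⟩ := hb
      have ca : ∀ w, Commute a₂ w := fun w => (Subgroup.mem_center_iff.1 ha₂ w).symm
      have cb : ∀ w, Commute b₂ w := fun w => (Subgroup.mem_center_iff.1 hb₂ w).symm
      have e1 : ⁅a₁ * a₂, b₁ * b₂⁆ = ⁅a₁, b₁⁆ := by
        rw [commutatorElement_def, commutatorElement_def]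
        calc a₁ * a₂ * (b₁ * b₂) * (a₁ * a₂)⁻¹ * (b₁ * b₂)⁻¹
            = a₁ * (a₂ * (b₁ * b₂)) * a₂⁻¹ * a₁⁻¹ * b₂⁻¹ * b₁⁻¹ := by group
          _ = a₁ * b₁ * (b₂ * a₁⁻¹) * b₂⁻¹ * b₁⁻¹ := by rw [(ca _).eq]; group
          _ = a₁ * b₁ * a₁⁻¹ * b₁⁻¹ := by rw [(cb _).eq]; group
      rw [e1, commutatorElement_def]
      exact mul_mem (mul_mem (mul_mem ha₁ hb₁) (inv_mem ha₁)) (inv_mem hb₁)
    obtain ⟨w, hw, hwe⟩ := (hc (hperf ▸ Subgroup.mem_top (e ⟨x, hx⟩)) :
      e ⟨x, hx⟩ ∈ (M.subgroupOf N).map e.toMonoidHom)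
    have hw' : w = ⟨x, hx⟩ := e.injective hwe
    rw [SetLike.mem_coe, Subgroup.mem_subgroupOf] at hw
    rw [hw'] at hw
    exact hw

/-- A normal subgroup containing the torus is everything. -/
theorem DiagLine.eq_top_of_torus_le {Z : Subgroup H} {n : ℕ} {δ : ℤ} (D : DiagLine S z t e Z n δ)
    {M : Subgroup H} [M.Normal] (hA : Subgroup.centralizer ({t} : Set H) ≤ M) : M = ⊤ := by
  obtain ⟨m, hm, htr, -⟩ := D.rho_t
  exact D.eq_top_of_le hm htr hA (D.le_of_t_mem (hA (Subgroup.mem_centralizer_singleton_iff.2 rfl)))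

theorem DiagLine.line {Z : Subgroup H} {n : ℕ} {δ : ℤ} (D : DiagLine S z t e Z n δ) :
    letI := axAction e
    ∃ o : ℕ, Line H (Ax F) t Z n (Nat.card F) o δ := by
  classical
  letI := axAction e
  obtain ⟨m, hm, htr, hiff⟩ := D.rho_t
  have hact : ∀ (h : H) (K : Ax F), h • K = rho e h • K := fun _ _ => rfl
  have h2 := D.two_ne
  set q := Nat.card F with hq
  have hs : IsSquare (-(mat m).det) → δ = 1 := hiff.1
  have hn : ¬ IsSquare (-(mat m).det) → δ = -1 := fun h => D.sign.resolve_left (mt hiff.2 h)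
  have hqodd := Nat.odd_iff.1 D.odd
  have hq1 := Finite.one_lt_card (α := F)
  obtain ⟨o, ho, ho'⟩ := D.q_sub
  have htc := D.torus_card hm htr hiff
  have hA : ∀ {h : H}, h ∈ Subgroup.centralizer ({t} : Set H) ↔ ∃ g ∈ tor m, rho e h = sem g :=
    fun {h} => D.mem_torus_iff hm htr h
  have hnotZ : ∀ {h : H} {g : GL (Fin (0 + 2)) F}, rho e h = sem g → h ∉ Z →
      ¬ ∃ a : F, mat g = a • (1 : Matrix (Fin 2) (Fin 2) F) := fun {h g} eh hh ha =>
    hh ((D.ker_iff h).1 (eh.trans (sem_eq_one_iff.2 (center_iff.2 ha))))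
  have htZ : t ∉ Z := fun h => by
    rw [← D.ker_iff, hm, sem_eq_one_iff, center_iff] at h
    exact D.not_scalar htr h
  refine ⟨o, {
    one_le := le_trans one_le_two D.two_le
    sign := D.sign
    three_le := by omega
    q_odd := D.odd
    o_odd := ho
    q_sub := ho'
    card_X := QGroup.PtLine.card_ax
    trans_two := ?_
    mem_Z := ?_
    card_Z := D.card_Z
    cyclic_Z := D.cyclic_Z
    central_Z := fun h hh h' => (Subgroup.mem_center_iff.1 (D.central_Z hh) h').symm
    card_H := D.card_H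
    t_two := D.t_two
    t_notMem := htZ
    torus_comm := fun a ha b hb => by
      obtain ⟨g, hg, ea⟩ := hA.1 ha
      obtain ⟨g', hg', eb⟩ := hA.1 hb
      exact D.tor_lift_comm hm htr hg hg' ea eb
    torus_card := by
      have : (Nat.card (Subgroup.centralizer ({t} : Set H)) : ℤ) = ((2 ^ n * (2 ^ n * o) : ℕ) : ℤ) := by
        rw [htc, ho']; push_cast; ring
      exact_mod_cast this
    torus_gen := ?_
    torus_fix := ?_
    torus_ti := ?_
    torus_norm := ?_
    gen := fun M hM htM => by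
      haveI := hM
      exact D.eq_top_of_le hm htr le_sup_right ((D.le_of_t_mem htM).trans le_sup_left)
    gen_one := fun h1 => absurd D.two_le (by omega)
    root := ?_ }⟩
  · intro K L K' L' hKL hKL'
    obtain ⟨y, hy, hy'⟩ := QGroup.PtLine.ax_trans_two hKL hKL'
    obtain ⟨y, rfl⟩ := QuotientGroup.mk_surjective y
    refine ⟨((e.symm y : N) : H), ?_, ?_⟩ <;> rw [hact, QGroup.rho_coe, e.apply_symm_apply] <;> assumption
  · intro h
    rw [← D.ker_iff]
    refine ⟨fun hh K => by rw [hact, hh, one_smul], fun hh => ?_⟩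
    obtain ⟨g, hg⟩ := D.diag h
    exact rho_eq_one_of_fix hg hh
  · obtain ⟨g₀, hg₀, hgen⟩ := Torus.tor_cyclic_mod h2 htr
    obtain ⟨a, ha⟩ := D.surj g₀
    refine ⟨a, hA.2 ⟨g₀, hg₀, ha⟩, fun x hx => ?_⟩
    obtain ⟨g, hg, ex⟩ := hA.1 hx
    obtain ⟨i, hi⟩ := hgen g hg
    exact ⟨i, by rw [← D.ker_iff, map_mul, map_zpow, ex, ha, ← map_zpow, ← map_mul, sem_eq_one_iff]; exact hi⟩
  · intro x hx hxZ
    obtain ⟨g, hg, ex⟩ := hA.1 hx
    have e1 : Nat.card (MulAction.fixedBy (Ax F) x) =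
        Nat.card (MulAction.fixedBy (Ax F) (semi g (RingEquiv.refl F) : MulAut (PSL2 F))) :=
      D.fixed_card hm ex
    rw [e1, Torus.fixed_eq h2 htr hg (hnotZ ex hxZ),
      QGroup.PtLine.card_fixedBy_semi h2 (m : GL (Fin 2) F) (Torus.sq_eq htr)
        fun d hd => D.not_scalar htr ⟨d, hd⟩]
    by_cases hsq : IsSquare (-(mat m).det)
    · rw [if_pos hsq, hs hsq]; norm_num
    · rw [if_neg hsq, hn hsq]; norm_num
  · intro h x hx hxZ hconj
    obtain ⟨g, hg, ex⟩ := hA.1 hx
    obtain ⟨k, hk⟩ := D.diag h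
    have hk' : rho e h = sem k := hk
    obtain ⟨g', hg', eg'⟩ := hA.1 hconj
    rw [map_mul, map_mul, map_inv, hk', ex, ← map_mul, ← map_inv, ← map_mul] at eg'
    have hin : k * g * k⁻¹ ∈ tor m := by
      have hc : g'⁻¹ * (k * g * k⁻¹) ∈ Subgroup.center (GL (Fin (0 + 2)) F) := by
        rw [← sem_eq_one_iff, map_mul, map_inv, eg', inv_mul_cancel]
      have := mul_mem hg' (Subgroup.center_le_centralizer ({m} : Set (GL (Fin (0 + 2)) F)) hc)
      rwa [mul_inv_cancel_left] at this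
    exact D.conj_torus hm htr hk' (Torus.conj_pm h2 htr hg (hnotZ ex hxZ) hin)
  · rw [D.torus_norm hm htr]
    congr 1
    have : (Nat.card (Subgroup.centralizer ({t} : Set H)) : ℤ) = ((2 ^ n * (2 ^ n * o) : ℕ) : ℤ) := by
      rw [htc, ho']; push_cast; ring
    exact_mod_cast this
  · intro hd1
    have hsq : IsSquare (-(mat m).det) := by
      by_contra hh
      rw [hn hh] at hd1
      norm_num at hd1
    obtain ⟨γ, r, hr, hγ⟩ := D.diag_split htr hsq
    let uh : F → H := fun b => ((e.symm (semiSL γ (RingEquiv.refl F) (upT b)) : N) : H)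
    have huh : ∀ a b, uh (a + b) = uh a * uh b := fun a b => by
      simp only [uh, PSL2.upT_add, map_mul, Subgroup.coe_mul]
    have hinj : Function.Injective uh := fun a b hab => by
      have h1 := (semiSL γ (RingEquiv.refl F)).injective (e.symm.injective (Subtype.ext hab))
      simpa [upT] using congrArg (fun w : SL2 F => w.1 0 1) h1
    let V : Subgroup H :=
      { carrier := Set.range uh
        one_mem' := ⟨0, by
          have := huh 0 0
          rw [add_zero] at this
          exact mul_left_cancel (this.symm.trans (mul_one _).symm)⟩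
        mul_mem' := by rintro _ _ ⟨a, rfl⟩ ⟨b, rfl⟩; exact ⟨a + b, huh a b⟩
        inv_mem' := by
          rintro _ ⟨a, rfl⟩
          refine ⟨-a, eq_inv_of_mul_eq_one_left ?_⟩
          have h0 : uh 0 = 1 := by
            have := huh 0 0
            rw [add_zero] at this
            exact mul_left_cancel (this.symm.trans (mul_one _).symm)
          rw [← huh, neg_add_cancel, h0] }
    have hneg : ∀ b, (uh b)⁻¹ = uh (-b) := fun b => inv_eq_of_mul_eq_one_right (by
      have h0 : uh 0 = 1 := by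
        have := huh 0 0
        rw [add_zero] at this
        exact mul_left_cancel (this.symm.trans (mul_one _).symm)
      rw [← huh, add_neg_cancel, h0])
    have hconj : ∀ {h : H} {g d : GL (Fin (0 + 2)) F} {α β : F}, rho e h = sem g → g * γ = γ * d →
        mat d = !![α, 0; 0, β] → ∀ b, h * uh b * h⁻¹ = uh (α / β * b) := fun {h g d α β} eh hgd hd b => by
      simp only [uh]
      rw [D.conj_coe hm htr eh, semiSL_upT hgd hd]
    -- the torus in the coordinates of `γ`
    have hlin : ∀ {g : GL (Fin (0 + 2)) F}, g ∈ tor m → ∃ (d : GL (Fin (0 + 2)) F) (α β : F),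
        g * γ = γ * d ∧ mat d = !![α, 0; 0, β] := by
      intro g hg
      obtain ⟨a, b, eg⟩ := Torus.exists_lin h2 htr hg
      refine ⟨γ⁻¹ * g * γ, a + b * r, a - b * r, by group, ?_⟩
      show mat γ⁻¹ * mat g * mat γ = _
      rw [eg, Matrix.mul_assoc, Matrix.add_mul, Matrix.smul_mul, Matrix.smul_mul, Matrix.one_mul, hγ,
        Matrix.mul_add, Matrix.mul_smul, Matrix.mul_smul, ← Matrix.mul_assoc,
        show mat γ⁻¹ * mat γ = 1 from γ.inv_mul, Matrix.one_mul]
      ext i j
      fin_cases i <;> fin_cases j <;> simp [sub_eq_add_neg]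
    have hscalar : ∀ c₀ : F, c₀ ≠ 0 → ∃ c ∈ Subgroup.centralizer ({t} : Set H),
        ∀ a, c * uh a * c⁻¹ = uh (c₀ * a) := by
      intro c₀ hc₀
      let d : GL (Fin (0 + 2)) F := GeneralLinearGroup.mkOfDetNeZero !![c₀, 0; 0, 1]
        (by rw [Matrix.det_fin_two_of]; simp [hc₀])
      have hd : mat d = !![c₀, 0; 0, 1] := rfl
      have hg : γ * d * γ⁻¹ ∈ tor m := by
        rw [Torus.mem_tor]
        show mat γ * mat d * mat γ⁻¹ * mat m = mat m * (mat γ * mat d * mat γ⁻¹)
        have hmm : mat γ⁻¹ * mat m = !![r, 0; 0, -r] * mat γ⁻¹ := by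
          have h5 : mat m = mat γ * !![r, 0; 0, -r] * mat γ⁻¹ := by
            rw [← hγ, Matrix.mul_assoc, show mat γ * mat γ⁻¹ = 1 from γ.mul_inv, Matrix.mul_one]
          rw [h5, ← Matrix.mul_assoc, ← Matrix.mul_assoc, show mat γ⁻¹ * mat γ = 1 from γ.inv_mul,
            Matrix.one_mul]
        rw [Matrix.mul_assoc, hmm, ← Matrix.mul_assoc (mat m), ← Matrix.mul_assoc (mat m), hγ,
          ← Matrix.mul_assoc, Matrix.mul_assoc (mat γ), Matrix.mul_assoc (mat γ) !![r, 0; 0, -r], hd]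
        congr 2
        ext i j
        fin_cases i <;> fin_cases j <;> simp [Matrix.mul_apply, Fin.sum_univ_two, mul_comm]
      obtain ⟨c, hc⟩ := D.surj (γ * d * γ⁻¹)
      refine ⟨c, hA.2 ⟨_, hg, hc⟩, fun a => ?_⟩
      rw [hconj hc (by group) hd, div_one]
    have hmγ : ∃ d : GL (Fin (0 + 2)) F, m * γ = γ * d ∧ mat d = !![r, 0; 0, -r] :=
      ⟨γ⁻¹ * m * γ, by group, by
        show mat γ⁻¹ * mat m * mat γ = _
        rw [Matrix.mul_assoc, hγ, ← Matrix.mul_assoc, show mat γ⁻¹ * mat γ = 1 from γ.inv_mul, Matrix.one_mul]⟩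
    have hne : mat γ *ᵥ ![1, 0] ≠ 0 := QGroup.PtLine.gl_mulVec_ne (by simp)
    have hγe : ∀ (v : Fin 2 → F), mat γ⁻¹ *ᵥ (mat γ *ᵥ v) = v := fun v => by
      rw [Matrix.mulVec_mulVec, show mat γ⁻¹ * mat γ = 1 from γ.inv_mul, Matrix.one_mulVec]
    have huhρ : ∀ b, rho e (uh b) = sem (γ * Matrix.SpecialLinearGroup.toGL (upT b) * γ⁻¹) := fun b => by
      simp only [uh]
      rw [QGroup.rho_coe, e.apply_symm_apply]
      refine (AutPSL.conj_eq_semi _).trans (congrArg (fun g => semi g (RingEquiv.refl F)) (Units.ext ?_))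
      show mat γ * (upT b : SL2 F).1.map (RingEquiv.refl F) * mat γ⁻¹ = mat γ * (upT b : SL2 F).1 * mat γ⁻¹
      rw [RingEquiv.coe_refl, Matrix.map_id]
    have huhsmul : ∀ (b k : F), ∃ hk hk',
        uh b • point (mat γ *ᵥ ![k, 1]) hk = point (mat γ *ᵥ ![k + b, 1]) hk' := fun b k => by
      refine ⟨QGroup.PtLine.gl_mulVec_ne (by simp), QGroup.PtLine.gl_mulVec_ne (by simp), ?_⟩
      rw [hact, huhρ]
      refine (QGroup.PtLine.semi_refl_smul_eq_iff _ _ _).2 ?_
      show AutPSL.Par ((mat γ * (upT b : SL2 F).1 * mat γ⁻¹) *ᵥ (mat γ *ᵥ ![k, 1])) _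
      rw [← Matrix.mulVec_mulVec, hγe, ← Matrix.mulVec_mulVec]
      have e1 : (upT b : SL2 F).1 *ᵥ ![k, 1] = ![k + b, 1] := by
        funext i
        fin_cases i <;> simp [upT, Matrix.mulVec, dotProduct, Fin.sum_univ_two]
      rw [e1]
      exact AutPSL.Par.refl _
    refine ⟨V, point (mat γ *ᵥ ![1, 0]) hne, ?_, ?_, ?_, ?_, ?_, ?_, ?_, ?_, ?_, ?_, ?_⟩
    · rw [hact, hm]
      refine (QGroup.PtLine.semi_refl_smul_eq_iff m hne hne).2 (AutPSL.Par.symm ⟨r, hr, ?_⟩)
      show mat m *ᵥ (mat γ *ᵥ ![1, 0]) = r • (mat γ *ᵥ ![1, 0])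
      rw [Matrix.mulVec_mulVec, hγ, ← Matrix.mulVec_mulVec, ← Matrix.mulVec_smul]
      congr 1
      funext i
      fin_cases i <;> simp [Matrix.mulVec, dotProduct, Fin.sum_univ_two]
    · rintro _ ⟨b, rfl⟩
      rw [hact, huhρ]
      refine (QGroup.PtLine.semi_refl_smul_eq_iff _ hne hne).2 ?_
      show AutPSL.Par ((mat γ * (upT b : SL2 F).1 * mat γ⁻¹) *ᵥ (mat γ *ᵥ ![1, 0])) _
      rw [← Matrix.mulVec_mulVec, hγe, ← Matrix.mulVec_mulVec]
      have e1 : (upT b : SL2 F).1 *ᵥ ![1, 0] = ![1, 0] := by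
        funext i
        fin_cases i <;> simp [upT, Matrix.mulVec, dotProduct, Fin.sum_univ_two]
      rw [e1]
      exact AutPSL.Par.refl _
    · exact (Nat.card_congr (Equiv.ofInjective uh hinj)).symm
    · rintro _ ⟨a, rfl⟩ _ ⟨b, rfl⟩
      show uh a * uh b = uh b * uh a
      rw [← huh, ← huh, add_comm]
    · rintro _ ⟨b, rfl⟩
      obtain ⟨d, hd, hdm⟩ := hmγ
      rw [hconj hm hd hdm, hneg]
      congr 1
      field_simp
    · intro a ha
      obtain ⟨g, hg, ea⟩ := hA.1 ha
      obtain ⟨d, α, β, hd, hdm⟩ := hlin hg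
      refine mem_normalizer_of_conj ?_
      rintro _ ⟨b, rfl⟩
      exact ⟨_, (hconj ea hd hdm b).symm⟩
    · intro y y' hy hy'
      have key : ∀ y : Ax F, y ≠ point (mat γ *ᵥ ![1, 0]) hne →
          ∃ (k : F) (hk : _), y = point (mat γ *ᵥ ![k, 1]) hk := by
        intro y hy
        obtain ⟨v, hv, rfl⟩ := QGroup.PtLine.exists_point y
        set w := mat γ⁻¹ *ᵥ v with hw
        have hvw : mat γ *ᵥ w = v := by
          rw [hw, Matrix.mulVec_mulVec, show mat γ * mat γ⁻¹ = 1 from γ.mul_inv, Matrix.one_mulVec]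
        by_cases hw1 : w 1 = 0
        · refine absurd ((QGroup.PtLine.point_eq_iff hv hne).2 ?_) hy
          have hw0 : w 0 ≠ 0 := fun e0 => hv (by
            rw [← hvw, show w = 0 by funext i; fin_cases i <;> simp [e0, hw1]]; simp)
          refine ⟨(w 0)⁻¹, inv_ne_zero hw0, ?_⟩
          rw [← hvw, ← Matrix.mulVec_smul]
          congr 1
          funext i
          fin_cases i <;> simp [hw0, hw1]
        · refine ⟨w 0 / w 1, QGroup.PtLine.gl_mulVec_ne (by simp),
            (QGroup.PtLine.point_eq_iff hv _).2 ⟨(w 1)⁻¹, inv_ne_zero hw1, ?_⟩⟩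
          rw [← hvw, ← Matrix.mulVec_smul]
          congr 1
          funext i
          fin_cases i <;> simp [hw1, div_eq_mul_inv, mul_comm]
      obtain ⟨k, hk, rfl⟩ := key y hy
      obtain ⟨k', hk', rfl⟩ := key y' hy'
      obtain ⟨_, _, he⟩ := huhsmul (k' - k) k
      refine ⟨uh (k' - k), ⟨_, rfl⟩, ?_⟩
      rw [he]
      refine (QGroup.PtLine.point_eq_iff _ _).2 ?_
      rw [show k + (k' - k) = k' by ring]
      exact AutPSL.Par.refl _
    · rintro _ ⟨a, rfl⟩ _ ⟨b, rfl⟩ ha1 hb1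
      have h0 : uh 0 = 1 := by
        have := huh 0 0
        rw [add_zero] at this
        exact mul_left_cancel (this.symm.trans (mul_one _).symm)
      have ha0 : a ≠ 0 := fun e0 => ha1 (by rw [e0, h0])
      have hb0 : b ≠ 0 := fun e0 => hb1 (by rw [e0, h0])
      obtain ⟨c, hc, hcv⟩ := hscalar (b / a) (div_ne_zero hb0 ha0)
      exact ⟨c, hc, by rw [hcv, div_mul_cancel₀ _ ha0]⟩
    · intro M hM hVM
      haveI := hM
      exact D.eq_top_of_le hm htr le_sup_right
        ((D.le_of_upT hm htr (γ := γ) fun b => hVM ⟨b, rfl⟩).trans le_sup_left)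
    · intro M hM hVM ζ hζ2 hζfix
      haveI := hM
      have hζ : ζ ∈ Z := by
        rw [← D.ker_iff]
        obtain ⟨g, hg⟩ := D.diag ζ
        exact rho_eq_one_of_fix hg hζfix
      have hNM : N ≤ M := D.le_of_upT hm htr (γ := γ) fun b => hVM ⟨b, rfl⟩
      by_cases hζ1 : ζ = 1
      · rw [hζ1]; exact one_mem _
      have hζz : ζ = z := by
        haveI := D.cyclic_Z
        have h := QGroup.unique_involution_of_cyclic (A := Z) (x := ⟨ζ, hζ⟩) (y := ⟨z, D.z_mem_Z⟩)
          (by rw [Subgroup.orderOf_mk]; exact orderOf_eq_prime (by rw [pow_two, hζ2]) hζ1)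
          (by rw [Subgroup.orderOf_mk]; exact D.amb.z2)
        exact congrArg Subtype.val h
      rw [hζz]
      obtain ⟨z₀, -, -, huz⟩ := QGroup.exists_involution e D.odd
      have hzN := QGroup.z_mem e D.amb D.odd
      have hz : z = ((e.symm (-1) : N) : H) := by
        rw [huz z hzN D.amb.z2, huz ((e.symm (-1) : N) : H) (e.symm (-1)).2]
        rw [Subgroup.orderOf_coe, MulEquiv.orderOf_eq]
        refine orderOf_eq_prime (by rw [pow_two, neg_mul_neg, one_mul]) fun e0 => h2 ?_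
        have := congrArg (fun w : SL2 F => w.1 0 0) e0
        simp at this
        linear_combination -this
      rw [hz]
      have h1 : ((e.symm (-1) : N) : H) ∈ (_root_.commutator N).map N.subtype := by
        refine Subgroup.mem_map_of_mem _ ?_
        have := Subgroup.mem_map_of_mem e.symm.toMonoidHom (neg_one_mem_commutator D.odd)
        rw [_root_.commutator_def, Subgroup.map_commutator] at this
        exact Subgroup.commutator_mono le_top le_top this
      rw [_root_.commutator_def, Subgroup.map_commutator, ← MonoidHom.range_eq_map, Subgroup.range_subtype]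
        at h1
      exact Subgroup.commutator_mono hNM hNM h1
    · intro B hl hr halt hinvB
      have h0 : uh 0 = 1 := by
        have := huh 0 0
        rw [add_zero] at this
        exact mul_left_cancel (this.symm.trans (mul_one _).symm)
      have hmem : ∀ a, uh a ∈ V := fun a => ⟨a, rfl⟩
      -- the torus realises every scalar
      have hscal : ∀ c : F, c ≠ 0 → ∀ a b, B (uh (c * a)) (uh (c * b)) = B (uh a) (uh b) := by
        intro c hc a b
        obtain ⟨cc, hcc, hcv⟩ := hscalar c hc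
        rw [← hcv a, ← hcv b]
        exact hinvB cc hcc _ (hmem a) _ (hmem b)
      have key : ∀ a b, B (uh a) (uh b) = 1 := by
       refine eq_one_of_scaled (fun a b => B (uh a) (uh b)) D.odd ?_ ?_ (fun a => halt _ (hmem a)) hscal
       · intro a b c; simp only [huh]; exact hl _ (hmem a) _ (hmem b) _ (hmem c)
       · intro a b c; simp only [huh]; exact hr _ (hmem a) _ (hmem b) _ (hmem c)
      rintro _ ⟨a, rfl⟩ _ ⟨b, rfl⟩
      exact key a b

end Cfsg.Agent.SDKeystone.Budget
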