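import Cfsg.Agent.Lib.SDKeystone.Budget.Sums

/-!
# The degree budget: the equality case

From `PlusBound` (`δ = 1`) and `MinusPrincipal`, `MinusMoved` (`δ = -1`):

* `plus_scalar`, `minus_rigid` : the budget is exact, so the constituents are scalar, resp. rigid;
* `rigid_minus` : for `δ = -1`, `t` centralises the core and no invisible element is non-trivial;
* `of_comm_t` : once `t` centralises the core, so does a normal subgroup covering `H` over the torus, and the
  core meets its conjugate by the swap trivially.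
-/

set_option autoImplicit false
set_option linter.unusedSectionVars false
set_option linter.style.haveILetI false

open scoped ComplexConjugate commutatorElement

namespace Cfsg.Agent.SDKeystone.Budget

open Subgroup Cfsg Cfsg.Agent.Char Cfsg.Agent.InvolChar

universe u v w

variable {G : Type u} [Group G] [Fintype G] {H : Type v} [Group H] [Finite H] {X : Type w} [MulAction H X]
  {z t g : G} {C : Subgroup G} [Fintype C] {φ : C →* H} {Z : Subgroup H}
  {n q o : ℕ} {δ : ℤ} {b : IrrCharacter G}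

namespace Setting

variable (D : Setting X z t g C φ Z n q o δ b)
include D

/-- `δ = 1`: the budget is exact, so every constituent negated by `z` is scalar. -/
theorem plus_scalar (hδ : δ = 1) (hP : D.PlusBound) : ∀ ψ ∈ D.oddPart, D.IsScalar (ψ : C → ℂ) := by
  obtain ⟨F, hsum, hF⟩ := hP hδ
  have hdeg : 2 * (D.oddDeg : ℝ) = ((q : ℝ) + 1) ^ 2 := by
    rw [D.two_mul_oddDeg, hδ]; push_cast; ring
  have hcast : (D.oddDeg : ℝ) = ∑ ψ ∈ D.oddPart, (mult b C ψ : ℝ) * (charDegree (ψ : C → ℂ) : ℝ) := by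
    unfold oddDeg; push_cast; rfl
  have hle : ∀ ψ ∈ D.oddPart, (mult b C ψ : ℝ) * (((q : ℝ) + 1) * F ψ) ≤
      (mult b C ψ : ℝ) * (2 * (charDegree (ψ : C → ℂ) : ℝ)) :=
    fun ψ hψ => mul_le_mul_of_nonneg_left (hF ψ hψ).1 (Nat.cast_nonneg _)
  have heq : ∀ ψ ∈ D.oddPart, (mult b C ψ : ℝ) * (((q : ℝ) + 1) * F ψ) =
      (mult b C ψ : ℝ) * (2 * (charDegree (ψ : C → ℂ) : ℝ)) := by
    refine (Finset.sum_eq_sum_iff_of_le hle).1 (le_antisymm (Finset.sum_le_sum hle) ?_)
    have e1 : ∑ ψ ∈ D.oddPart, (mult b C ψ : ℝ) * (((q : ℝ) + 1) * F ψ) =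
        ((q : ℝ) + 1) * ∑ ψ ∈ D.oddPart, (mult b C ψ : ℝ) * F ψ := by
      rw [Finset.mul_sum]; exact Finset.sum_congr rfl fun ψ _ => by ring
    have e2 : ∑ ψ ∈ D.oddPart, (mult b C ψ : ℝ) * (2 * (charDegree (ψ : C → ℂ) : ℝ)) =
        ((q : ℝ) + 1) ^ 2 := by
      rw [← hdeg, hcast, Finset.mul_sum]; exact Finset.sum_congr rfl fun ψ _ => by ring
    rw [e1, e2, pow_two]
    exact mul_le_mul_of_nonneg_left hsum (by positivity)
  intro ψ hψ
  refine (hF ψ hψ).2 (mul_left_cancel₀ ?_ (heq ψ hψ))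
  simp only [oddPart, Finset.mem_filter] at hψ
  exact Nat.cast_ne_zero.2 hψ.2.2

open scoped Classical in
/-- `δ = -1`: the budget is exact, so every moved constituent fixed by `z` is rigid. -/
theorem minus_rigid (hδ : δ = -1) (hP : D.MinusPrincipal) (hM : D.MinusMoved) :
    ∀ ψ ∈ D.evenMoved, D.IsRigid (ψ : C → ℂ) := by
  obtain ⟨hle, heq⟩ := hM hδ
  refine heq (le_antisymm hle ?_)
  have hpr := hP hδ
  have hnorm : (q : ℝ) ≤ ‖∑ ψ ∈ D.evenInflated, (mult b C ψ : ℂ) * (ψ : C → ℂ) D.tC‖ +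
      ‖∑ ψ ∈ D.evenMoved, (mult b C ψ : ℂ) * (ψ : C → ℂ) D.tC‖ := by
    rw [← D.norm_delta, ← D.evenPart_apply_t]
    unfold part evenInflated evenMoved
    rw [← Finset.sum_filter_add_sum_filter_not D.evenPart (fun ψ : IrrCharacter C => IsInflated φ (ψ : C → ℂ))]
    exact norm_add_le _ _
  have hodd : 2 * ((D.vMinus0 : ℝ) + D.dPlus) = ((q : ℝ) - 1) ^ 2 := by
    have h := D.two_mul_oddDeg
    rw [D.oddDeg_split, ← D.dPlus_eq_dMinus, show (δ : ℝ) = -1 by exact_mod_cast hδ] at h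
    push_cast at h
    rw [h]; ring
  have hq : (3 : ℝ) ≤ q := by exact_mod_cast D.line.three_le
  nlinarith [mul_le_mul_of_nonneg_left hnorm (by linarith : (0 : ℝ) ≤ (q : ℝ) - 1)]

/-- `δ = -1`: `t` centralises the core and no invisible element is non-trivial. -/
theorem rigid_minus (hδ : δ = -1) (hP : D.MinusPrincipal) (hM : D.MinusMoved) :
    (∀ x : C, φ x = 1 → Commute x D.tC) ∧ ∀ x : C, D.IsInvisible x → x = 1 := by
  have h := D.minus_rigid hδ hP hM
  refine ⟨fun x hx => commutatorElement_eq_one_iff_commute.1 ?_,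
    fun x hx => D.eq_one_of_evenMoved hx.1 fun ψ hψ => (h ψ hψ).2 x hx⟩
  refine D.eq_one_of_evenMoved ?_ fun ψ hψ => (h ψ hψ).1 x hx
  rw [map_commutatorElement, hx, commutatorElement_one_left]

theorem zC_comm' (x : C) : Commute D.zC x := Subtype.ext (D.le_cent x x.2).eq

/-- `C ∩ C(t)` is `C ∩ C(t z)`. -/
theorem commute_tz {y : C} (hy : y ∈ D.cT) : Commute (t * z) (y : G) :=
  (D.mem_cT.1 hy).mul_left (D.le_cent y y.2)

/-- An element of the core in `C(t)` stays seen trivially under conjugation by `C ∩ C(t)`. -/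
theorem invT_conj {x c : C} (hc : c ∈ D.cT) (h : InvT φ g x) : InvT φ g (c * x * c⁻¹) := by
  have hgc : g * (c : G) * g⁻¹ ∈ centralizer ({z} : Set G) := by
    have h' := ((D.mem_cT.1 hc).map (MulAut.conj g)).eq
    simp only [MulAut.conj_apply, D.g_t] at h'
    exact mem_centralizer_singleton_iff.2 h'.symm
  show g * ((c * x * c⁻¹ : C) : G) * g⁻¹ ∈ φ.ker.map C.subtype
  rw [show g * ((c * x * c⁻¹ : C) : G) * g⁻¹ =
    (g * (c : G) * g⁻¹) * (g * (x : G) * g⁻¹) * (g * (c : G) * g⁻¹)⁻¹ by push_cast; group]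
  exact D.conj_ker _ hgc _ h

/-- Once `t` centralises the core: a normal subgroup covering `H` over the torus centralises it, and the
elements of the core seen trivially at `t` are invisible. -/
theorem of_comm_t (hcomm : ∀ x : C, φ x = 1 → Commute x D.tC)
    (hinv : ∀ x : C, D.IsInvisible x → x = 1) :
    (∃ N : Subgroup C, N.Normal ∧ D.tC ∈ N ∧ (∀ k ∈ N, ∀ x : C, φ x = 1 → Commute k x) ∧
      N.map φ ⊔ centralizer ({φ D.tC} : Set H) = ⊤) ∧
    ∀ x : C, φ x = 1 → InvT φ g x → x = 1 := by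
  set N := centralizer ((φ.ker : Subgroup C) : Set C) with hN
  haveI : N.Normal := normal_centralizer
  have htN : D.tC ∈ N := mem_centralizer_iff.2 fun x hx => (hcomm x (MonoidHom.mem_ker.1 hx)).eq
  have hgen : N.map φ ⊔ centralizer ({φ D.tC} : Set H) = ⊤ :=
    D.line.gen _ (‹N.Normal›.map φ D.surj) (mem_map_of_mem φ htN)
  refine ⟨⟨N, ‹_›, htN, fun k hk x hx => ((mem_centralizer_iff.1 hk) x (MonoidHom.mem_ker.2 hx)).symm, hgen⟩,
    fun x hx hxt => hinv x ⟨hx, mem_centralizer_singleton_iff.2 (hcomm x hx).eq, fun c hc => ?_⟩⟩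
  -- `c = k y` with `k` centralising the core and `y` fixing `t`
  obtain ⟨a, ha, h', hh', e⟩ : ∃ a ∈ N.map φ, ∃ h' ∈ centralizer ({φ D.tC} : Set H), a * h' = φ c := by
    have h1 : φ c ∈ N.map φ ⊔ centralizer ({φ D.tC} : Set H) := hgen ▸ mem_top _
    haveI := ‹N.Normal›.map φ D.surj
    exact mem_sup_of_normal_left.1 h1
  obtain ⟨k, hk, rfl⟩ := ha
  set y := k⁻¹ * c with hy
  have hyh : φ y = h' := by rw [hy, map_mul, map_inv, ← e, inv_mul_cancel_left]
  -- `y` moves `t` by an element of the core, so fixes it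
  have hyT : y ∈ D.cT := by
    set d := y * D.tC * y⁻¹ * D.tC with hd
    have htt : D.tC * D.tC = 1 := Subtype.ext (by show t * t = 1; rw [← pow_two, ← D.t2, pow_orderOf_eq_one])
    have hd1 : φ d = 1 := by
      rw [hd, map_mul, map_mul, map_mul, map_inv, hyh, mem_centralizer_singleton_iff.1 hh', mul_inv_cancel_right,
        ← map_mul, htt, map_one]
    have hdt : Commute d D.tC := hcomm d hd1
    have hd2 : d * d = 1 := by
      have e1 : D.tC * d * D.tC = d⁻¹ := by
        rw [hd]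
        simp only [mul_inv_rev, inv_inv, mul_assoc, htt, mul_one, inv_eq_of_mul_eq_one_right htt]
      rw [← hdt.eq, mul_assoc, htt, mul_one] at e1
      exact eq_inv_iff_mul_eq_one.1 e1
    have hd0 : d = 1 := orderOf_eq_one_iff.1 (Nat.eq_one_of_dvd_coprimes
      ((Nat.prime_two.coprime_iff_not_dvd).2 (D.odd_order hd1))
      (orderOf_dvd_of_pow_eq_one (by rw [pow_two, hd2])) dvd_rfl)
    refine mem_centralizer_singleton_iff.2 (mul_inv_eq_iff_eq_mul.1 ?_)
    have e2 := mul_eq_one_iff_eq_inv.1 (hd ▸ hd0)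
    rwa [inv_eq_of_mul_eq_one_right htt] at e2
  have hyx : φ (y * x * y⁻¹) = 1 := by rw [map_mul, map_mul, map_inv, hx, mul_one, mul_inv_cancel]
  have hcx : c * x * c⁻¹ = y * x * y⁻¹ := by
    rw [show c = k * y by rw [hy, mul_inv_cancel_left],
      show k * y * x * (k * y)⁻¹ = k * (y * x * y⁻¹) * k⁻¹ by group,
      ((mem_centralizer_iff.1 hk) _ (MonoidHom.mem_ker.2 hyx)).symm, mul_inv_cancel_right]
  rw [hcx]
  exact D.invT_conj hyT hxt

end Setting

end Cfsg.Agent.SDKeystone.Budget
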