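import Cfsg.Agent.EqLemmas
import Cfsg.Agent.Lib.SDKeystone.Budget.Setting
import Mathlib.Algebra.GroupWithZero.Divisibility
import Mathlib.Algebra.GCDMonoid.Nat

/-!
# The powers of the torus act irreducibly on a root group

* `irred_of_cyclic` : `g` transitive on `V ∖ 1`, `|V| = p ^ f`, `f` odd, `d ≤ f ^ 2`: `g ^ d` is irreducible;
* `Line.root_irred` : the consequence for a root group of a `Line`.
-/

set_option autoImplicit false
set_option linter.unusedSectionVars false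
set_option linter.style.haveILetI false

namespace Cfsg.Agent.SDKeystone.Budget

open Subgroup

universe u v w

theorem pow_three_le (f : ℕ) : f ^ 3 ≤ 3 ^ f := by
  induction f with
  | zero => norm_num
  | succ n ih =>
    rcases Nat.lt_or_ge n 3 with h | h
    · interval_cases n <;> norm_num
    · rw [pow_succ 3 n]
      have h1 : (n + 1) ^ 3 ≤ 3 * n ^ 3 := by nlinarith [mul_le_mul h h (Nat.zero_le _) (Nat.zero_le _)]
      omega

/-- No proper divisor exponent carries the multiples of index at most `f ^ 2`. -/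
theorem not_dvd_proper {p f e d : ℕ} (hp : 3 ≤ p) (hfo : Odd f) (he : e ∣ f) (hef : e < f) (he0 : 0 < e)
    (hd0 : 0 < d) (hd : d ≤ f ^ 2) : ¬ (p ^ f - 1) ∣ d * (p ^ e - 1) := by
  intro h
  obtain ⟨k, hk⟩ := he
  have hk3 : 3 ≤ k := by
    obtain ⟨j, hj⟩ := (Nat.odd_mul.1 (hk ▸ hfo)).2
    rcases j with _ | j
    · rw [hk, hj] at hef; simp at hef
    · omega
  have h3 : 3 * e ≤ f := by rw [hk]; nlinarith
  have hpe : p ≤ p ^ e := Nat.le_self_pow he0.ne' p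
  have hle : p ^ f - 1 ≤ f ^ 2 * (p ^ e - 1) :=
    (Nat.le_of_dvd (Nat.mul_pos hd0 (by omega)) h).trans (Nat.mul_le_mul_right _ hd)
  have hsplit : p ^ f = p ^ (f - e) * p ^ e := by rw [← pow_add, Nat.sub_add_cancel hef.le]
  have hlt : p ^ (f - e) < f ^ 2 := by
    by_contra hge
    push Not at hge
    have h1 : f ^ 2 * (p ^ e - 1) ≤ p ^ (f - e) * (p ^ e - 1) := Nat.mul_le_mul_right _ hge
    have h2 : p ^ (f - e) * (p ^ e - 1) + p ^ (f - e) = p ^ f := by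
      rw [hsplit, ← Nat.mul_succ, Nat.succ_eq_add_one, Nat.sub_add_cancel (by omega)]
    have h3' : 3 ≤ p ^ (f - e) := hp.trans (Nat.le_self_pow (by omega) p)
    omega
  have h4 : (p ^ (f - e)) ^ 3 < (f ^ 2) ^ 3 := Nat.pow_lt_pow_left hlt (by norm_num)
  have h5 : (3 ^ f) ^ 2 ≤ (p ^ (f - e)) ^ 3 := by
    rw [← pow_mul, ← pow_mul]
    exact (Nat.pow_le_pow_right (by norm_num) (by omega)).trans (Nat.pow_le_pow_left hp _)
  have h6 : (f ^ 2) ^ 3 ≤ (3 ^ f) ^ 2 := by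
    rw [← pow_mul, show f ^ (2 * 3) = (f ^ 3) ^ 2 from pow_mul f 3 2]
    exact Nat.pow_le_pow_left (pow_three_le f) 2
  omega

/-- Small index powers of a cyclic group transitive on `V ∖ 1` act irreducibly. -/
theorem irred_of_cyclic {V : Type*} [Group V] [Finite V] {p f d : ℕ} (hp : p.Prime) (hp2 : p ≠ 2)
    (hcard : Nat.card V = p ^ f) (hfo : Odd f) (hd0 : 0 < d) (hd : d ≤ f ^ 2) (g : MulAut V)
    (htr : ∀ a b : V, a ≠ 1 → b ≠ 1 → ∃ i : ℤ, (g ^ i) a = b) (W : Subgroup V)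
    (hW : ∀ w ∈ W, (g ^ d) w ∈ W) : W = ⊥ ∨ W = ⊤ := by
  classical
  haveI := Fintype.ofFinite V
  by_contra hne
  push Not at hne
  obtain ⟨W₀, hmin⟩ := exists_minimal_of_wellFoundedLT
    (fun U : Subgroup V => U ≠ ⊥ ∧ U ≠ ⊤ ∧ ∀ w ∈ U, (g ^ d) w ∈ U) ⟨W, hne.1, hne.2, hW⟩
  obtain ⟨hW0, hWtop, hWd⟩ := hmin.prop
  obtain ⟨v, hv, hv1⟩ := (Subgroup.bot_or_exists_ne_one W₀).resolve_left hW0
  -- the translates meeting `W₀` are `W₀`
  have hmove : ∀ i : ℤ, ∀ w ∈ W₀, (g ^ i) v ∈ W₀ → (g ^ i) w ∈ W₀ := by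
    intro i w hw hiv
    set U := W₀.comap (g ^ i).toMonoidHom ⊓ W₀ with hU
    have hUd : ∀ u ∈ U, (g ^ d) u ∈ U := fun u hu => by
      refine ⟨?_, hWd u hu.2⟩
      show (g ^ i) ((g ^ d) u) ∈ W₀
      rw [← MulAut.mul_apply, ((Commute.refl g).zpow_left i |>.pow_right d).eq, MulAut.mul_apply]
      exact hWd _ hu.1
    have hU0 : U ≠ ⊥ := fun hb => hv1 (Subgroup.mem_bot.1 (hb ▸ (⟨hiv, hv⟩ : v ∈ U)))
    have hUle : U ≤ W₀ := inf_le_right
    have := hmin.le_of_le ⟨hU0, fun ht => hWtop (top_le_iff.1 (ht ▸ hUle)), hUd⟩ hUle hw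
    exact this.1
  -- freeness
  have hfree : ∀ i : ℤ, (g ^ i) v = v → g ^ i = 1 := fun i hi => MulEquiv.ext fun x => by
    by_cases hx : x = 1
    · rw [hx, map_one, map_one]
    · obtain ⟨j, rfl⟩ := htr v x hv1 hx
      rw [MulAut.one_apply, ← MulAut.mul_apply, ((Commute.refl g).zpow_zpow i j).eq, MulAut.mul_apply, hi]
  have hinj : ∀ a ∈ zpowers g, ∀ b ∈ zpowers g, a v = b v → a = b := by
    rintro _ ⟨i, rfl⟩ _ ⟨j, rfl⟩ e
    have h1 : (g ^ (-i + j)) v = v := by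
      rw [zpow_add, MulAut.mul_apply, ← show (g ^ i) v = (g ^ j) v from e, ← MulAut.mul_apply, ← zpow_add,
        neg_add_cancel, zpow_zero, MulAut.one_apply]
    have h2 := hfree _ h1
    rwa [zpow_add, zpow_neg, inv_mul_eq_one] at h2
  -- the orbit of `v`
  have hord : orderOf g = Nat.card V - 1 := by
    have e : zpowers g ≃ {x : V // x ≠ 1} := Equiv.ofBijective
      (fun a => ⟨(a : MulAut V) v, (map_ne_one_iff _ (a : MulAut V).injective).2 hv1⟩)
      ⟨fun a b h => Subtype.ext (hinj _ a.2 _ b.2 (congrArg Subtype.val h)), fun x => by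
        obtain ⟨i, hi⟩ := htr v x hv1 x.2
        exact ⟨⟨g ^ i, zpow_mem (mem_zpowers g) i⟩, Subtype.ext hi⟩⟩
    rw [← Nat.card_zpowers, Nat.card_congr e, Nat.card_eq_fintype_card, Nat.card_eq_fintype_card,
      Fintype.card_subtype_compl, Fintype.card_subtype_eq]
  let Y : Subgroup (MulAut V) :=
    { carrier := {a | a ∈ zpowers g ∧ ∀ w, a w ∈ W₀ ↔ w ∈ W₀}
      one_mem' := ⟨one_mem _, fun _ => Iff.rfl⟩
      mul_mem' := fun {a b} ha hb => ⟨mul_mem ha.1 hb.1, fun w => (ha.2 _).trans (hb.2 w)⟩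
      inv_mem' := fun {a} ha => ⟨inv_mem ha.1, fun w => by
        have h1 := ha.2 (a⁻¹ w)
        rwa [MulAut.apply_inv_self, Iff.comm] at h1⟩ }
  have hiff : ∀ i : ℤ, (∀ w ∈ W₀, (g ^ i) w ∈ W₀) → g ^ i ∈ Y := fun i hi => by
    refine ⟨zpow_mem (mem_zpowers g) i, fun w => ⟨fun h => ?_, hi w⟩⟩
    have heq := Subgroup.eq_of_le_of_card_ge
      (show W₀.map (g ^ i).toMonoidHom ≤ W₀ by rintro _ ⟨a, ha, rfl⟩; exact hi a ha)
      (le_of_eq (Nat.card_congr (W₀.equivMapOfInjective _ (g ^ i).injective).toEquiv))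
    rw [← heq] at h
    obtain ⟨y, hy, hyx⟩ := h
    exact (g ^ i).injective hyx ▸ hy
  have hYcard : Nat.card Y = Nat.card W₀ - 1 := by
    have e : Y ≃ {x : W₀ // x ≠ 1} := Equiv.ofBijective
      (fun a => ⟨⟨(a : MulAut V) v, (a.2.2 v).2 hv⟩, fun h => hv1
        ((map_eq_one_iff _ (a : MulAut V).injective).1 (congrArg Subtype.val h))⟩)
      ⟨fun a b h => Subtype.ext (hinj _ a.2.1 _ b.2.1 (congrArg (fun x => ((x.1 : W₀) : V)) h)), fun x => by
        obtain ⟨i, hi⟩ := htr v (x.1 : V) hv1 fun h => x.2 (Subtype.ext h)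
        exact ⟨⟨g ^ i, hiff i fun w hw => hmove i w hw (hi.symm ▸ x.1.2)⟩, Subtype.ext (Subtype.ext hi)⟩⟩
    rw [Nat.card_congr e, Nat.card_eq_fintype_card, Nat.card_eq_fintype_card, Fintype.card_subtype_compl,
      Fintype.card_subtype_eq]
  obtain ⟨e, hef, hWe⟩ := (Nat.dvd_prime_pow hp).1 (hcard ▸ W₀.card_subgroup_dvd_card)
  have he0 : 0 < e := Nat.pos_of_ne_zero fun h => hW0 (W₀.eq_bot_of_card_eq (by rw [hWe, h, pow_zero]))
  have helt : e < f := lt_of_le_of_ne hef fun h =>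
    hWtop (W₀.eq_top_of_card_eq (by rw [hWe, hcard, h]))
  have hdvd : p ^ e - 1 ∣ p ^ f - 1 := by
    rw [← hWe, ← hYcard, ← hcard, ← hord, ← Nat.card_zpowers]
    exact Subgroup.card_dvd_of_le fun a ha => ha.1
  have hedvd : e ∣ f := by
    have h1 := Nat.pow_sub_one_gcd_pow_sub_one p e f
    rw [Nat.gcd_eq_left hdvd] at h1
    have := Nat.one_le_pow e p hp.pos
    have := Nat.one_le_pow (e.gcd f) p hp.pos
    exact Nat.gcd_eq_left_iff_dvd.1 (Nat.pow_right_injective hp.two_le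
      (show p ^ e.gcd f = p ^ e by omega))
  have hp3 : 3 ≤ p := by have := hp.two_le; omega
  refine not_dvd_proper hp3 hfo hedvd helt he0 hd0 hd ?_
  rw [← hWe, ← hcard, ← hord, ← hYcard]
  refine orderOf_dvd_of_pow_eq_one ?_
  rw [pow_mul]
  have hdY : g ^ d ∈ Y := by
    rw [← zpow_natCast g d]
    exact hiff d fun w hw => by rw [zpow_natCast]; exact hWd w hw
  exact congrArg Subtype.val (pow_card_eq_one' (G := Y) (x := ⟨_, hdY⟩))

variable {H : Type v} [Group H] [Finite H] {X : Type w} [MulAction H X] {t : H} {Z : Subgroup H}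
  {n q o : ℕ} {δ : ℤ}

/-- Small index powers of the torus act irreducibly on a root group. -/
theorem Line.root_irred (L : Line H X t Z n q o δ) {p f d : ℕ} (hp : p.Prime) (hp2 : p ≠ 2) (hq : q = p ^ f)
    (hfo : Odd f) (hd0 : 0 < d) (hd : d ≤ f ^ 2) {V : Subgroup H} {x : X} (R : RootAt H X t q V x)
    (W : Subgroup H) (hWV : W ≤ V)
    (hW : ∀ c ∈ centralizer ({t} : Set H), ∀ a ∈ W, c ^ d * a * (c ^ d)⁻¹ ∈ W) : W = ⊥ ∨ W = V := by
  obtain ⟨a, ha, hgen⟩ := L.torus_gen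
  let aN : normalizer (V : Set H) := ⟨a, R.norm ha⟩
  let g : MulAut V := V.normalizerMonoidHom aN
  have hg : ∀ (i : ℤ) (v : V), ((g ^ i) v : H) = a ^ i * v * (a ^ i)⁻¹ := fun i v => by
    rw [← map_zpow]
    rfl
  have htr : ∀ b c : V, b ≠ 1 → c ≠ 1 → ∃ i : ℤ, (g ^ i) b = c := by
    intro b c hb hc
    obtain ⟨y, hy, hyb⟩ := R.trans b b.2 c c.2 (fun h => hb (Subtype.ext h)) fun h => hc (Subtype.ext h)
    obtain ⟨i, hi⟩ := hgen y hy
    refine ⟨-i, Subtype.ext ?_⟩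
    have hz := L.central_Z _ hi (a ^ (-i) * (b : H) * (a ^ (-i))⁻¹)
    rw [hg, ← hyb]
    calc a ^ (-i) * (b : H) * (a ^ (-i))⁻¹
        = y * a ^ i * (a ^ (-i) * (b : H) * (a ^ (-i))⁻¹) * (y * a ^ i)⁻¹ := by
          rw [hz.eq, mul_inv_cancel_right]
      _ = y * (b : H) * y⁻¹ := by group
  rcases irred_of_cyclic (V := V) hp hp2 (R.card.trans hq) hfo hd0 hd g htr (W.subgroupOf V) (fun w hw => by
    rw [mem_subgroupOf] at hw ⊢
    rw [← zpow_natCast g d, hg, zpow_natCast]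
    exact hW a ha _ hw) with h | h
  · exact Or.inl (le_bot_iff.1 fun x hx => by
      have h1 : (⟨x, hWV hx⟩ : V) ∈ W.subgroupOf V := mem_subgroupOf.2 hx
      rw [h, mem_bot] at h1
      exact congrArg Subtype.val h1)
  · exact Or.inr (le_antisymm hWV (subgroupOf_eq_top.1 h))

end Cfsg.Agent.SDKeystone.Budget
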