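import Cfsg.Agent.Lib.InvolChar.SemiOrder

/-!
# The small character of the semidihedral case

* `sd_values` : with `X = Q ^ 3` some irreducible character of the principal block has degree
  `Q ^ 2 + Q + 1` and the values of the signed Steinberg character on the section of the involution;
* `sd_values_of_regular` : the same from regularity.
-/

set_option autoImplicit false
set_option linter.unusedSectionVars false

namespace Cfsg.Agent.SDKeystone.Budget

open Cfsg Cfsg.Agent.Char Cfsg.Agent.InvolChar Cfsg.Agent.SylowCyclicSuzuki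
open Cfsg.Agent.DihedralDefect (mid)
open Cfsg.Agent.BrauerPairs (oneIrr)

universe u v

variable {G : Type u} [Group G] [Fintype G] {P : Sylow 2 G} {a r : ℕ} {σ s : G}

/-- The small character, when `X = Q ^ 3` is the only solution of Brauer's equations. -/
theorem sd_values (h : SD P a r σ s) (hperf : commutator G = ⊤) {C : Subgroup G}
    (hC : ∀ g, g ∈ C ↔ Commute (mid a σ) g) {X : Type v} [MulAction C X] [Finite X] {q : ℕ}
    (L : Line a σ s C X q)
    (hcube : ∀ D : ℤ, D ≠ 0 → D ≠ 1 → D ≠ signQ q → (D - 1) % 4 = 2 →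
      signQ q ^ 2 - D ∣ D * (D - 1) →
      (Nat.card G : ℤ) * signQ q * (D - signQ q) ^ 2 =
        (Nat.card C : ℤ) * (Nat.card {u : C // orderOf u = 2 ∧ (u : G) ≠ mid a σ} : ℤ) ^ 2 *
          (signQ q - 1) * (D * (D - 1)) → D = signQ q ^ 3) :
    ∃ M : Ideal AlgInt, IsPModular 2 M ∧ ∃ b ∈ principalBlock M G, b ≠ oneIrr G ∧
      (charDegree (b : G → ℂ) : ℤ) = signQ q ^ 2 + signQ q + 1 ∧
      ∀ y : C, ¬ 2 ∣ orderOf y → (b : G → ℂ) (mid a σ * y) =
        -((if q % 4 = 3 then 1 else -1) * ((Nat.card (MulAction.fixedBy X y) : ℂ) - 1)) := by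
  obtain ⟨D, u, ⟨h0, h1, hQne, h4, hu, hE⟩, M, hM, V, hV, e, he, hdeg, hrow⟩ :=
    semidihedral_data h hperf hC L
  obtain ⟨hQq, hQ4⟩ := signQ_facts L.odd
  have hq := L.one_lt
  set Q := signQ q
  obtain rfl : D = Q ^ 3 := hcube D h0 h1 hQne h4 ⟨u, by linear_combination -hu⟩ hE
  have hQ0 : Q ≠ 0 := by omega
  have hQ1 : 1 - Q ≠ 0 := by omega
  have hu' : u = -(Q * (Q ^ 2 + Q + 1)) := by
    apply mul_left_cancel₀ (mul_ne_zero (pow_ne_zero 2 hQ0) hQ1)
    linear_combination hu
  have hsum : -(Q ^ 3 - 1 + u) = Q ^ 2 + Q + 1 := by rw [hu']; ring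
  rw [hsum] at hdeg
  have hbig : 1 < Q ^ 2 + Q + 1 := by
    have : 2 ≤ Q ∨ Q ≤ -2 := by omega
    rcases this with h' | h' <;> nlinarith
  have he1 : e = 1 := he.resolve_right fun e' => by
    rw [e'] at hdeg
    have := Int.natCast_nonneg (charDegree (V : G → ℂ))
    linarith
  rw [he1, one_mul] at hdeg
  refine ⟨M, hM, V, hV, fun e0 => ?_, hdeg, fun y hy => ?_⟩
  · have h1' : ((oneIrr G : IrrCharacter G) : G → ℂ) 1 = 1 := rfl
    rw [e0, charDegree, h1'] at hdeg
    simp at hdeg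
    omega
  · have e' := hrow y hy
    rw [he1] at e'
    push_cast at e'
    rw [one_mul] at e'
    rw [e']
    split_ifs <;> ring

/-- The small character, from regularity. -/
theorem sd_values_of_regular (h : SD P a r σ s) (hperf : commutator G = ⊤) {C : Subgroup G}
    (hC : ∀ g, g ∈ C ↔ Commute (mid a σ) g) {X : Type v} [MulAction C X] [Finite X] {q : ℕ}
    (L : Line a σ s C X q) {p n : ℕ} [Fact p.Prime] (hp : p ≠ 2) (hn : 1 ≤ n) (hq : q = p ^ n)
    (hval : padicValNat 2 (q ^ 2 - 1) = a + 2) {U : Subgroup G} (hUP : U ≤ P) (hU : IsKleinFour U)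
    (hreg : 3 * padicValNat p (Nat.card C) ≤
      padicValNat p (Nat.card G) + 2 * padicValNat p (Nat.card (Subgroup.centralizer (U : Set G)))) :
    ∃ M : Ideal AlgInt, IsPModular 2 M ∧ ∃ b ∈ principalBlock M G, b ≠ oneIrr G ∧
      (charDegree (b : G → ℂ) : ℤ) = signQ q ^ 2 + signQ q + 1 ∧
      ∀ y : C, ¬ 2 ∣ orderOf y → (b : G → ℂ) (mid a σ * y) =
        -((if q % 4 = 3 then 1 else -1) * ((Nat.card (MulAction.fixedBy X y) : ℂ) - 1)) :=
  sd_values h hperf hC L (cube_of_regular h hC L hp hn hq hval hUP hU hreg)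

end Cfsg.Agent.SDKeystone.Budget
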