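import Cfsg.Agent.EqLemmas
import Cfsg.Agent.Lib.SDKeystone.Budget.FieldTorus
import Cfsg.Agent.Lib.SDKeystone.Budget.ValuesSD
import Cfsg.Agent.Lib.SDKeystone.Budget.Setting
import Cfsg.Agent.Lib.SDKeystone.Budget.RootIrred
import Cfsg.Agent.Lib.QGroup.Line
import Cfsg.Agent.Lib.Transfer.WreathedOrSemidihedral
import Cfsg.Agent.Lib.InvolChar.SemiBranch
import Cfsg.Agent.Lib.PairsRegular.Count
import Cfsg.Agent.Lib.Components.HatLayer

/-!
# The producer of the budget in the semidihedral case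

`h : SD P a r σ s`, `z = mid a σ`, `t = s`, `e : N ≃* SL₂(F)` normal in `C(z) / O`.

* `exists_swap` : an element exchanging `z` and `t`, in a group with one class of involutions;
* `image_facts` : the image of `P` in `C(z) / O`;
* `cZero`, `phiZero` : the preimage of the diagonal part and its map onto `diag e`;
* `exists_cube` : nothing in `C(z) ∩ C(t)` outside `cZero` acts on the torus with `(σ - 1) ^ 3 = 0`;
* `exists_char` : the character `b`, with its values on all of `C(z)`;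
* `exists_setting` : the setting of the budget;
* `autCommGroup`, `fieldHom` : the abelian quotient, in the form used by `Budget.Final`;
* `exists_cube'` : `exists_cube` in that form; `torus_normal_top` : a normal subgroup containing the torus.
-/

set_option autoImplicit false
set_option linter.unusedSectionVars false
set_option linter.style.haveILetI false

open scoped commutatorElement

namespace Cfsg.Agent.SDKeystone.Budget

open Subgroup Cfsg Cfsg.Agent.Char Cfsg.Agent.InvolChar Cfsg.Agent.SylowCyclicSuzuki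
open Cfsg.Agent.DihedralDefect (mid)
open Cfsg.Agent.PSL2 (SL2 PSL2)
open Cfsg.Agent.QGroup (Amb rho)
open Cfsg.Agent.QGroup.PtLine (Ax)

universe u

variable {G : Type u} [Group G] [Fintype G] {P : Sylow 2 G} {a r : ℕ} {σ s : G}

/-- The reflection is moved to its product with `z` inside the Sylow subgroup. -/
theorem iI_moves (h : SD P a r σ s) :
    iI a σ * s * (iI a σ)⁻¹ = s * mid a σ := by
  have h1 := h.refl_conj_iI h.s_mem h.s_notMem
  rw [h.s_inv] at h1
  -- `s i s = i⁻¹`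
  have h2 : iI a σ * s = s * (iI a σ)⁻¹ := by
    calc iI a σ * s = s * (s * iI a σ * s) := by rw [← mul_assoc, ← mul_assoc, h.s_sq, one_mul]
      _ = _ := by rw [h1]
  have h3 : (iI a σ)⁻¹ * (iI a σ)⁻¹ = mid a σ := by
    rw [← mul_inv_rev, h.iI_sq, inv_eq_of_mul_eq_one_right h.tame.mid_sq]
  rw [h2, mul_assoc, h3]

theorem s_ne (h : SD P a r σ s) : s ≠ mid a σ := fun e => h.s_notMem (e ▸ npow_mem_zpowers σ _)

theorem orderOf_s (h : SD P a r σ s) : orderOf s = 2 :=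
  orderOf_eq_prime (by rw [pow_two, h.s_sq]) fun e => h.s_notMem (e ▸ one_mem _)

/-- An element exchanging `z` and `t`. -/
theorem exists_swap (h : SD P a r σ s) (hone : ∀ x y : G, orderOf x = 2 → orderOf y = 2 → IsConj x y) :
    ∃ g : G, g * mid a σ * g⁻¹ = s ∧ g * s * g⁻¹ = mid a σ := by
  classical
  set z := mid a σ with hz
  have hz2 : orderOf z = 2 := orderOf_eq_prime (by rw [pow_two, h.tame.mid_sq]) h.tame.mid_ne_one
  obtain ⟨g₁, hg₁⟩ := isConj_iff.1 (hone z s hz2 (orderOf_s h))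
  set C := centralizer ({z} : Set G)
  letI := Fintype.ofFinite C
  have hC : ∀ g, g ∈ C ↔ Commute (mid a σ) g := fun g => by
    rw [mem_centralizer_singleton_iff]; exact eq_comm
  have key : ∀ u, Commute z u → u * u = 1 → u ≠ 1 → u ≠ z → ∃ w, Commute z w ∧ w * u * w⁻¹ = u * z := by
    intro u hu hu2 hu1 huz
    have hne : u * z ≠ 1 := fun e =>
      huz ((mul_eq_one_iff_eq_inv.1 e).trans (inv_eq_of_mul_eq_one_right h.tame.mid_sq))
    have hsq : (u * z) * (u * z) = 1 := by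
      calc u * z * (u * z) = u * (z * u) * z := by group
        _ = u * u * (z * z) := by rw [hu.eq]; group
        _ = 1 := by rw [hu2, h.tame.mid_sq, one_mul]
    have hmk : ∀ (v : G) (hv : v ∈ C), v * v = 1 → v ≠ 1 → orderOf (⟨v, hv⟩ : C) = 2 := fun v hv h1 h2 => by
      rw [Subgroup.orderOf_mk]
      exact orderOf_eq_prime (by rw [pow_two, h1]) h2
    have hu' : u ∈ C := (hC u).2 hu
    have huzC : u * z ∈ C := C.mul_mem hu' ((hC z).2 (Commute.refl z))
    obtain ⟨w, hw⟩ := isConj_iff.1 ((isConj_refl h hC ⟨u, hu'⟩ (hmk u hu' hu2 hu1) huz).symm.trans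
      (isConj_refl h hC ⟨u * z, huzC⟩ (hmk _ huzC hsq hne) (fun e => hu1 (mul_eq_right.1 e))))
    exact ⟨w, (hC w).1 w.2, congrArg Subtype.val hw⟩
  have hszc : Commute z s := (hC s).1 (h.le_of_cent hC h.s_mem)
  have hs1 : s ≠ 1 := fun e => h.s_notMem (e ▸ one_mem _)
  -- transport `key` to the centraliser of `t`
  set f := MulAut.conj g₁⁻¹ with hf
  have hfs : f s = z := by
    rw [hf, MulAut.conj_apply, inv_inv, ← hg₁]; group
  set u := f z with hu
  have hu1 : u ≠ 1 := fun e => h.tame.mid_ne_one (f.injective (e.trans (map_one f).symm))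
  have huz : u ≠ z := fun e => s_ne h (f.injective (hfs.trans e.symm))
  have hcu : Commute z u := hfs ▸ hszc.symm.map f
  obtain ⟨w₀, hw₀, hw₀'⟩ := key u hcu (by rw [hu, ← map_mul, h.tame.mid_sq, map_one]) hu1 huz
  obtain ⟨w, hwf⟩ := f.surjective w₀
  have hwt : w * s * w⁻¹ = s := by
    apply f.injective
    rw [map_mul, map_mul, map_inv, hwf, hfs, ← hw₀.eq, mul_inv_cancel_right]
  have hwz : w * z * w⁻¹ = z * s := by
    apply f.injective
    rw [map_mul, map_mul, map_inv, hwf, map_mul, hfs]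
    exact hw₀'
  obtain ⟨v, hv, hv'⟩ := key s hszc h.s_sq hs1 (s_ne h)
  -- `v` moves `t` to `t z`, `w` moves `z` to `z t`
  have hv2 : v⁻¹ * s * v = s * z := by
    have e1 : v * (s * z) * v⁻¹ = s := by
      calc v * (s * z) * v⁻¹ = (v * s * v⁻¹) * (v * z * v⁻¹) := by group
        _ = s * z * z := by rw [hv', ← hv.eq, mul_inv_cancel_right]
        _ = s := by rw [mul_assoc, h.tame.mid_sq, mul_one]
    conv_lhs => rw [← e1]
    group
  have hvz : v⁻¹ * z * v = z := by rw [mul_assoc, hv.eq, inv_mul_cancel_left]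
  refine ⟨v * w * v⁻¹, ?_, ?_⟩
  · calc v * w * v⁻¹ * z * (v * w * v⁻¹)⁻¹ = v * (w * (v⁻¹ * z * v) * w⁻¹) * v⁻¹ := by group
      _ = (v * z * v⁻¹) * (v * s * v⁻¹) := by rw [hvz, hwz]; group
      _ = z * (s * z) := by rw [← hv.eq, mul_inv_cancel_right, hv']
      _ = s := by rw [← mul_assoc, hszc.eq, mul_assoc, h.tame.mid_sq, mul_one]
  · calc v * w * v⁻¹ * s * (v * w * v⁻¹)⁻¹ = v * (w * (v⁻¹ * s * v) * w⁻¹) * v⁻¹ := by group
      _ = v * ((w * s * w⁻¹) * (w * z * w⁻¹)) * v⁻¹ := by rw [hv2]; group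
      _ = v * (s * (z * s)) * v⁻¹ := by rw [hwt, hwz]
      _ = v * z * v⁻¹ := by rw [hszc.eq, ← mul_assoc s s z, h.s_sq, one_mul]
      _ = z := by rw [← hv.eq, mul_inv_cancel_right]

/-- No subgroup of index two in the simple case. -/
theorem index_ne_two [IsSimpleGroup G] (hP : Cfsg.IsQuasiDihedral (P : Subgroup G)) (M : Subgroup G) :
    M.index ≠ 2 := by
  intro hM
  obtain ⟨n, ⟨d⟩⟩ := QDWreath.nonempty_qdData hP
  haveI : M.Normal := Subgroup.normal_of_index_eq_two hM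
  rcases (inferInstance : M.Normal).eq_bot_or_eq_top with h | h
  · have h1 : Nat.card G = 2 := by rw [← hM, h, Subgroup.index_bot]
    have h2 := (Nat.le_of_dvd Nat.card_pos (Subgroup.card_subgroup_dvd_card (P : Subgroup G)))
    have h3 : 2 ^ 2 ≤ 2 ^ (n + 1) := Nat.pow_le_pow_right two_pos (by have := d.hn; omega)
    rw [d.card, h1] at h2
    omega
  · rw [h, Subgroup.index_top] at hM; omega

/-- One class of involutions in the simple case. -/
theorem one_class [IsSimpleGroup G] (hP : Cfsg.IsQuasiDihedral (P : Subgroup G)) (x y : G) (hx : orderOf x = 2)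
    (hy : orderOf y = 2) : IsConj x y := by
  obtain ⟨n, ⟨d⟩⟩ := QDWreath.nonempty_qdData hP
  exact (Transfer.SD.involutions_conj d (index_ne_two hP) hx).symm.trans
    (Transfer.SD.involutions_conj d (index_ne_two hP) hy)

variable {C : Subgroup G} {F : Type} [Field F] [Fintype F] {N : Subgroup (↥C ⧸ Cfsg.oddCore ↥C)} [N.Normal]

/-- The image of the Sylow subgroup in `C(z) / O`. -/
theorem image_facts (h : SD P a r σ s) (hC : ∀ g, g ∈ C ↔ Commute (mid a σ) g) (hz : mid a σ ∈ C)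
    (hs : s ∈ C) (hi : iI a σ ∈ C) :
    ∃ S : Sylow 2 (↥C ⧸ Cfsg.oddCore ↥C), Amb S (QuotientGroup.mk' _ ⟨mid a σ, hz⟩) ∧
      Cfsg.IsQuasiDihedral (S : Subgroup (↥C ⧸ Cfsg.oddCore ↥C)) ∧
      (QuotientGroup.mk' _ ⟨s, hs⟩ : ↥C ⧸ Cfsg.oddCore ↥C) ∈ (S : Subgroup (↥C ⧸ Cfsg.oddCore ↥C)) ∧
      orderOf (QuotientGroup.mk' (Cfsg.oddCore ↥C) ⟨s, hs⟩) = 2 ∧
      QuotientGroup.mk' (Cfsg.oddCore ↥C) ⟨s, hs⟩ ≠ QuotientGroup.mk' _ ⟨mid a σ, hz⟩ ∧
      ∃ i ∈ (S : Subgroup (↥C ⧸ Cfsg.oddCore ↥C)), i * QuotientGroup.mk' _ ⟨s, hs⟩ * i⁻¹ =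
        QuotientGroup.mk' _ ⟨s, hs⟩ * QuotientGroup.mk' _ ⟨mid a σ, hz⟩ := by
  classical
  haveI := Fact.mk Nat.prime_two
  have hle := h.le_of_cent hC
  let π : ↥C →* ↥C ⧸ Cfsg.oddCore ↥C := QuotientGroup.mk' (Cfsg.oddCore ↥C)
  have hπs : Function.Surjective π := QuotientGroup.mk'_surjective _
  have hcop : (Nat.card π.ker).Coprime 2 := by
    rw [show π.ker = Cfsg.oddCore ↥C from QuotientGroup.ker_mk' _]; exact Cores.coprime_card_pPrimeCore 2
  have hinj : ∀ x y : C, (x : G) ∈ (P : Subgroup G) → (y : G) ∈ (P : Subgroup G) → π x = π y → x = y := by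
    intro x y hx hy hxy
    have h1 : x⁻¹ * y ∈ π.ker := by
      rw [MonoidHom.mem_ker, map_mul, map_inv, hxy, inv_mul_cancel]
    obtain ⟨i, hi⟩ := IsPGroup.iff_orderOf.1 P.2
      ⟨((x⁻¹ * y : C) : G), mul_mem (inv_mem hx) hy⟩
    rw [Subgroup.orderOf_mk, Subgroup.orderOf_coe] at hi
    have h2 := Subgroup.orderOf_dvd_natCard _ h1
    rw [hi] at h2
    exact inv_mul_eq_one.1 (orderOf_eq_one_iff.1
      (hi.trans (Nat.eq_one_of_dvd_coprimes (hcop.pow_right i) h2 dvd_rfl)))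
  set S : Sylow 2 (↥C ⧸ Cfsg.oddCore ↥C) := (P.subtype hle).mapSurjective hπs with hSdef
  obtain ⟨eS⟩ := QGroup.sylow_equiv_mapSurjective hπs hcop (P.subtype hle)
  have eP : (P : Subgroup G) ≃* (S : Subgroup (↥C ⧸ Cfsg.oddCore ↥C)) :=
    ((Subgroup.subgroupOfEquivOfLe hle).symm.trans
      (MulEquiv.subgroupCongr (P.coe_subtype hle).symm)).trans eS
  have hqS := QGroup.isQuasiDihedral_congr eP h.isQuasiDihedral
  have hmemS : ∀ x : C, (x : G) ∈ (P : Subgroup G) → π x ∈ (S : Subgroup (↥C ⧸ Cfsg.oddCore ↥C)) := fun x hx => by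
    rw [hSdef, Sylow.coe_mapSurjective]
    exact mem_map_of_mem π (by rw [Sylow.coe_subtype]; exact mem_subgroupOf.2 hx)
  set zC : C := ⟨mid a σ, hz⟩
  set sC : C := ⟨s, hs⟩
  refine ⟨S, ⟨Or.inl hqS, Cores.pPrimeCore_quotient_self 2, orderOf_eq_prime ?_ fun e1 => ?_,
    mem_center_iff.2 fun y => ?_⟩, hqS, hmemS sC h.s_mem, orderOf_eq_prime ?_ fun e1 => ?_,
    fun e1 => ?_, π ⟨iI a σ, hi⟩, hmemS _ (h.tame.pow_mem _), ?_⟩
  · rw [pow_two, ← map_mul, ← map_one π]
    exact congrArg π (Subtype.ext h.tame.mid_sq)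
  · exact h.tame.mid_ne_one (congrArg Subtype.val
      (hinj zC 1 h.tame.mid_mem (one_mem _) (e1.trans (map_one π).symm)))
  · obtain ⟨y, rfl⟩ := hπs y
    rw [← map_mul, ← map_mul]
    exact congrArg π (Subtype.ext ((hC _).1 y.2).eq.symm)
  · rw [pow_two, ← map_mul, ← map_one π]
    exact congrArg π (Subtype.ext h.s_sq)
  · exact h.s_notMem (by
      rw [show s = 1 from congrArg Subtype.val
        (hinj sC 1 h.s_mem (one_mem _) (e1.trans (map_one π).symm))]
      exact one_mem _)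
  · exact s_ne h (congrArg Subtype.val (hinj sC zC h.s_mem h.tame.mid_mem e1))
  · rw [← map_inv, ← map_mul, ← map_mul, ← map_mul]
    exact congrArg π (Subtype.ext (iI_moves h))

variable (e : N ≃* SL2 F)

/-- The preimage of the diagonal part. -/
noncomputable def cZero : Subgroup G :=
  ((diag e).comap (QuotientGroup.mk' (Cfsg.oddCore ↥C))).map C.subtype

theorem mem_cZero {x : G} :
    x ∈ cZero e ↔ ∃ hx : x ∈ C, QuotientGroup.mk' (Cfsg.oddCore ↥C) ⟨x, hx⟩ ∈ diag e :=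
  ⟨fun ⟨y, hy, hxy⟩ => by subst hxy; exact ⟨y.2, hy⟩, fun ⟨hx, hd⟩ => ⟨⟨x, hx⟩, hd, rfl⟩⟩

theorem cZero_le : cZero e ≤ C := fun _ hx => ((mem_cZero e).1 hx).1

/-- The map onto the diagonal part. -/
noncomputable def phiZero : cZero e →* diag e :=
  MonoidHom.codRestrict ((QuotientGroup.mk' (Cfsg.oddCore ↥C)).comp (Subgroup.inclusion (cZero_le e)))
    (diag e) fun x => ((mem_cZero e).1 x.2).2

theorem phiZero_coe (x : cZero e) :
    (phiZero e x : ↥C ⧸ Cfsg.oddCore ↥C) =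
      QuotientGroup.mk' (Cfsg.oddCore ↥C) ⟨(x : G), cZero_le e x.2⟩ := rfl

theorem phiZero_surj : Function.Surjective (phiZero e) := by
  rintro ⟨y, hy⟩
  obtain ⟨x, rfl⟩ := QuotientGroup.mk'_surjective _ y
  exact ⟨⟨(x : G), (mem_cZero e).2 ⟨x.2, hy⟩⟩, Subtype.ext rfl⟩

theorem phiZero_eq_one {x : cZero e} :
    phiZero e x = 1 ↔ (⟨(x : G), cZero_le e x.2⟩ : C) ∈ Cfsg.oddCore ↥C := by
  rw [← QuotientGroup.eq_one_iff, Subtype.ext_iff, phiZero_coe]
  rfl

theorem phiZero_ker_odd : ¬ 2 ∣ Nat.card (phiZero e).ker := by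
  haveI := Fact.mk Nat.prime_two
  intro h2
  refine Cores.not_dvd_card_pPrimeCore (p := 2) (G := ↥C) (h2.trans ?_)
  exact card_dvd_of_injective
    (((Subgroup.inclusion (cZero_le e)).comp (phiZero e).ker.subtype).codRestrict (Cfsg.oddCore ↥C)
      fun x => (phiZero_eq_one e).1 x.2)
    fun x y hxy => Subtype.ext (Subgroup.inclusion_injective (cZero_le e) (congrArg Subtype.val hxy))

theorem cZero_conj {c : G} (hc : c ∈ C) {x : G} (hx : x ∈ cZero e) : c * x * c⁻¹ ∈ cZero e := by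
  obtain ⟨hxC, hd⟩ := (mem_cZero e).1 hx
  refine (mem_cZero e).2 ⟨C.mul_mem (C.mul_mem hc hxC) (C.inv_mem hc), ?_⟩
  exact (diag_normal e).conj_mem _ hd (QuotientGroup.mk' _ ⟨c, hc⟩)

theorem cZero_comm {x y : G} (hx : x ∈ C) (hy : y ∈ C) : ⁅x, y⁆ ∈ cZero e :=
  (mem_cZero e).2 ⟨C.mul_mem (C.mul_mem (C.mul_mem hx hy) (C.inv_mem hx)) (C.inv_mem hy),
    commutator_mem_diag e (QuotientGroup.mk' _ ⟨x, hx⟩) (QuotientGroup.mk' _ ⟨y, hy⟩)⟩

theorem phiZero_ker_conj {c : G} (hc : c ∈ C) (x : cZero e) (hx : phiZero e x = 1) :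
    c * (x : G) * c⁻¹ ∈ (phiZero e).ker.map (cZero e).subtype :=
  ⟨⟨_, cZero_conj e hc x.2⟩, (phiZero_eq_one e).2
    ((inferInstance : (Cfsg.oddCore ↥C).Normal).conj_mem _ ((phiZero_eq_one e).1 hx) ⟨c, hc⟩), rfl⟩

/-- Nothing in `C(z) ∩ C(t)` outside `cZero` acts on the torus with `(σ - 1) ^ 3 = 0`. -/
theorem exists_cube (h : SD P a r σ s) (hC : ∀ g, g ∈ C ↔ Commute (mid a σ) g) (hodd : Odd (Nat.card F))
    (y : G) (hzy : Commute (mid a σ) y) (hty : Commute s y) (hy : y ∉ cZero e) :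
    ∃ x : cZero e, Commute s (x : G) ∧
      ∀ hm : ⁅⁅⁅(x : G), y⁆, y⁆, y⁆ ∈ cZero e, phiZero e ⟨_, hm⟩ ≠ 1 := by
  classical
  haveI := Fact.mk Nat.prime_two
  have hle := h.le_of_cent hC
  obtain ⟨S, hA, hq, hsS, hs2, hsz, hi⟩ :=
    image_facts h hC (hle h.tame.mid_mem) (hle h.s_mem) (hle (h.tame.pow_mem _))
  obtain ⟨hzd, htd, D⟩ := diagSD e hA hodd hq hsS hs2 hsz hi
  have hidx : Odd (diag e).index := by
    rw [← Nat.not_even_iff_odd, even_iff_two_dvd]
    exact fun h2 => S.not_dvd_index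
      (h2.trans (Subgroup.index_dvd_of_le (sylow_le_diag e hA hodd hq hsS hs2 hsz S)))
  have hyC : y ∈ C := (hC y).2 hzy
  let π : ↥C →* ↥C ⧸ Cfsg.oddCore ↥C := QuotientGroup.mk' (Cfsg.oddCore ↥C)
  obtain ⟨x, hxd, hxt, hx⟩ := cube_ne D hidx (y := π ⟨y, hyC⟩)
    ((show Commute (⟨s, hle h.s_mem⟩ : C) ⟨y, hyC⟩ from Subtype.ext hty.eq).map π)
    fun hd => hy ((mem_cZero e).2 ⟨hyC, hd⟩)
  -- a lift commuting with `t`
  set sC : C := ⟨s, hle h.s_mem⟩
  have hsC : orderOf sC = 2 := by rw [Subgroup.orderOf_mk]; exact orderOf_s h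
  have hmap := Components.centralizer_map_of_coprime (p := 2) (R := zpowers sC)
    (IsPGroup.of_card (n := 1) (by rw [Nat.card_zpowers, hsC, pow_one])) (Cfsg.oddCore ↥C)
    (Cores.coprime_card_pPrimeCore 2)
  rw [MonoidHom.map_zpowers] at hmap
  obtain ⟨w, hw, hwx⟩ : x ∈ (centralizer ((zpowers sC : Subgroup C) : Set C)).map π := by
    rw [← hmap, mem_centralizer_iff]
    rintro _ ⟨i, rfl⟩
    exact (hxt.zpow_left i).eq
  refine ⟨⟨(w : G), (mem_cZero e).2 ⟨w.2, hwx.symm ▸ hxd⟩⟩,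
    congrArg Subtype.val (mem_centralizer_iff.1 hw sC (mem_zpowers sC)), fun hm h1 => hx ?_⟩
  have h2 := congrArg Subtype.val h1
  rw [phiZero_coe] at h2
  have h3 : (⟨⁅⁅⁅(w : G), y⁆, y⁆, y⁆, cZero_le e hm⟩ : C) =
      ⁅⁅⁅w, (⟨y, hyC⟩ : C)⁆, (⟨y, hyC⟩ : C)⁆, (⟨y, hyC⟩ : C)⁆ := Subtype.ext rfl
  rw [h3, map_commutatorElement, map_commutatorElement, map_commutatorElement,
    show QuotientGroup.mk' (Cfsg.oddCore ↥C) w = x from hwx] at h2
  exact h2

/-- The character of degree `Q ^ 2 + Q + 1`, with its values at `z y` on all of `C(z)`. -/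
theorem exists_char [IsSimpleGroup G] (h : SD P a r σ s) (hC : ∀ g, g ∈ C ↔ Commute (mid a σ) g)
    (hodd : Odd (Nat.card F)) (hperf : commutator G = ⊤)
    (hcube : ∀ D : ℤ, D ≠ 0 → D ≠ 1 → D ≠ signQ (Nat.card F) → (D - 1) % 4 = 2 →
      signQ (Nat.card F) ^ 2 - D ∣ D * (D - 1) →
      (Nat.card G : ℤ) * signQ (Nat.card F) * (D - signQ (Nat.card F)) ^ 2 =
        (Nat.card C : ℤ) * (Nat.card {u : C // orderOf u = 2 ∧ (u : G) ≠ mid a σ} : ℤ) ^ 2 *
          (signQ (Nat.card F) - 1) * (D * (D - 1)) → D = signQ (Nat.card F) ^ 3) :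
    letI := axAction e
    ∃ b : IrrCharacter G,
      (b : G → ℂ) 1 = (((if Nat.card F % 4 = 3 then 1 else -1 : ℤ) : ℂ) * (Nat.card F : ℂ)) ^ 2 +
        ((if Nat.card F % 4 = 3 then 1 else -1 : ℤ) : ℂ) * (Nat.card F : ℂ) + 1 ∧
      (∀ x : G, (b : G → ℂ) x = (b : G → ℂ) 1 → x = 1) ∧
      ∀ (y : G) (hy : y ∈ C), ¬ 2 ∣ orderOf y → (b : G → ℂ) (mid a σ * y) =
        -stein (Ax F) (if Nat.card F % 4 = 3 then 1 else -1) (QuotientGroup.mk' (Cfsg.oddCore ↥C) ⟨y, hy⟩) := by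
  letI := axAction e
  obtain ⟨L, -⟩ := QGroup.line_ax h h.isQuasiDihedral hodd hC N e
  letI : MulAction ↥C (Ax F) :=
    MulAction.compHom _ ((rho e).comp (QuotientGroup.mk' (Cfsg.oddCore ↥C)))
  obtain ⟨M, -, b, -, hb, hdeg, hval⟩ := sd_values h hperf hC L hcube
  refine ⟨b, ?_, fun x hx => PairsRegular.eq_one_of_apply_eq_degree hb hx, fun y hy hyo => ?_⟩
  · obtain ⟨n, hn, hn'⟩ := IsIrrCharacter.exists_degree b.2
    have hd : ((charDegree (b : G → ℂ) : ℕ) : ℂ) = (b : G → ℂ) 1 := by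
      rw [charDegree, hn']; simp
    have h1 := congrArg (fun x : ℤ => (x : ℂ)) hdeg
    push_cast at h1
    rw [← hd, h1]
    simp only [signQ]; split_ifs <;> push_cast <;> ring
  · have := hval ⟨y, hy⟩ (by rwa [Subgroup.orderOf_mk])
    rw [this, stein, WLine.fix]
    push_cast
    rfl

/-- The field automorphisms form an abelian group. -/
@[reducible] noncomputable def autCommGroup : CommGroup (F ≃+* F) :=
  { (inferInstance : Group (F ≃+* F)) with mul_comm := ringAut_mul_comm }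

/-- The abelian quotient of `C(z)` by `cZero`. -/
theorem fieldHom (hC : ∀ g, g ∈ C ↔ Commute (mid a σ) g) :
    ∃ χ : centralizer ({mid a σ} : Set G) →* (F ≃+* F),
      ∀ x (hx : x ∈ centralizer ({mid a σ} : Set G)), x ∈ cZero e ↔ χ ⟨x, hx⟩ = 1 := by
  have hmem : centralizer ({mid a σ} : Set G) ≤ C := fun x hx =>
    (hC x).2 (mem_centralizer_singleton_iff.1 hx).symm
  refine ⟨(fieldOf e).comp ((QuotientGroup.mk' (Cfsg.oddCore ↥C)).comp (Subgroup.inclusion hmem)),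
    fun x hx => ⟨fun h => ((mem_cZero e).1 h).2, fun h => (mem_cZero e).2 ⟨hmem hx, h⟩⟩⟩

/-- The setting of the budget. -/
theorem exists_setting [IsSimpleGroup G] (h : SD P a r σ s) (hC : ∀ g, g ∈ C ↔ Commute (mid a σ) g)
    (hodd : Odd (Nat.card F)) (hperf : commutator G = ⊤)
    (hcube : ∀ D : ℤ, D ≠ 0 → D ≠ 1 → D ≠ signQ (Nat.card F) → (D - 1) % 4 = 2 →
      signQ (Nat.card F) ^ 2 - D ∣ D * (D - 1) →
      (Nat.card G : ℤ) * signQ (Nat.card F) * (D - signQ (Nat.card F)) ^ 2 =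
        (Nat.card C : ℤ) * (Nat.card {u : C // orderOf u = 2 ∧ (u : G) ≠ mid a σ} : ℤ) ^ 2 *
          (signQ (Nat.card F) - 1) * (D * (D - 1)) → D = signQ (Nat.card F) ^ 3) :
    letI := axAction (restrEquiv e)
    ∃ (hz : mid a σ ∈ cZero e) (g : G) (o : ℕ) (b : IrrCharacter G),
      Setting (Ax F) (mid a σ) s g (cZero e) (phiZero e)
        (zpowers (phiZero e ⟨mid a σ, hz⟩)) 1 (Nat.card F) o (if Nat.card F % 4 = 3 then 1 else -1) b := by
  classical
  letI := axAction (restrEquiv e)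
  have hle := h.le_of_cent hC
  obtain ⟨S, hA, hq, hsS, hs2, hsz, hi⟩ :=
    image_facts h hC (hle h.tame.mid_mem) (hle h.s_mem) (hle (h.tame.pow_mem _))
  obtain ⟨hzd, htd, D⟩ := diagSD e hA hodd hq hsS hs2 hsz hi
  have hP0 : (P : Subgroup G) ≤ cZero e := fun x hx =>
    (mem_cZero e).2 ⟨hle hx, sylow_le_diag e hA hodd hq hsS hs2 hsz
      ((P.subtype hle).mapSurjective (QuotientGroup.mk'_surjective _))
      (by rw [Sylow.coe_mapSurjective]; exact mem_map_of_mem _ (mem_subgroupOf.2 hx))⟩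
  have hz : mid a σ ∈ cZero e := hP0 h.tame.mid_mem
  have ht : s ∈ cZero e := hP0 h.s_mem
  have ez : phiZero e ⟨mid a σ, hz⟩ = ⟨_, hzd⟩ := Subtype.ext rfl
  have et : phiZero e ⟨s, ht⟩ = ⟨_, htd⟩ := Subtype.ext rfl
  obtain ⟨o, L⟩ := D.line
  have hmemC : ∀ y ∈ centralizer ({mid a σ} : Set G), y ∈ C := fun y hy =>
    (hC y).2 (mem_centralizer_singleton_iff.1 hy).symm
  -- the index of `cZero` in `C(z)` is at most `f`
  have hirr : (if Nat.card F % 4 = 3 then (1 : ℤ) else -1) = 1 → ∀ (V : Subgroup (diag e)) (pt : Ax F),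
      RootAt (diag e) (Ax F) ⟨_, htd⟩ (Nat.card F) V pt → ∀ W ≤ V,
      (∀ c ∈ centralizer ({⟨_, htd⟩} : Set (diag e)), ∀ w ∈ W,
        c ^ (((cZero e).subgroupOf (centralizer ({mid a σ} : Set G))).index ^ 2) * w *
          (c ^ (((cZero e).subgroupOf (centralizer ({mid a σ} : Set G))).index ^ 2))⁻¹ ∈ W) →
      W = ⊥ ∨ W = V := by
    intro hδ V pt R W hWV hW
    obtain ⟨p, hp⟩ := CharP.exists F
    obtain ⟨f, hpp, hF⟩ := FiniteField.card F p
    haveI := Fact.mk hpp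
    have hq : Nat.card F = p ^ (f : ℕ) := by rw [Nat.card_eq_fintype_card, hF]
    have hp2 : p ≠ 2 := by
      rintro rfl
      rw [hq] at hodd
      exact Nat.not_even_iff_odd.2 hodd (even_two.pow_of_ne_zero f.ne_zero)
    have h4 : Nat.card F % 4 = 3 := by
      by_contra h4
      rw [if_neg h4] at hδ
      norm_num at hδ
    have hfo : Odd (f : ℕ) := by
      rw [← Nat.not_even_iff_odd]
      rintro ⟨k, hk⟩
      rw [hq, hk, ← two_mul, pow_mul, Nat.pow_mod] at h4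
      have hpo : p % 2 = 1 := Nat.odd_iff.1 (hpp.odd_of_ne_two hp2)
      have h2 : p ^ 2 % 4 = 1 := by
        rw [Nat.pow_mod]
        rcases (show p % 4 = 1 ∨ p % 4 = 3 by omega) with h3 | h3 <;> rw [h3]
      rw [h2, one_pow] at h4
      norm_num at h4
    have haut := (AutPSL.fieldAut_facts p f f.2 hF).2
    haveI : Finite (F ≃+* F) := Nat.finite_of_card_ne_zero (by rw [haut]; exact f.ne_zero)
    obtain ⟨χ, hχ⟩ := fieldHom e hC
    have hidx : ((cZero e).subgroupOf (centralizer ({mid a σ} : Set G))).index ≤ (f : ℕ) := by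
      rw [show (cZero e).subgroupOf (centralizer ({mid a σ} : Set G)) = χ.ker from
        Subgroup.ext fun x => hχ x x.2, Subgroup.index_ker]
      exact (Subgroup.card_le_card_group _).trans haut.le
    exact L.root_irred hpp hp2 hq hfo
      (pow_pos (Nat.pos_of_ne_zero Subgroup.index_ne_zero_of_finite) 2) (Nat.pow_le_pow_left hidx 2) R W hWV hW
  obtain ⟨g, hgz, hgt⟩ := exists_swap h (one_class h.isQuasiDihedral)
  obtain ⟨b, hb1, hbk, hbv⟩ := exists_char e h hC hodd hperf hcube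
  refine ⟨hz, g, o, b, {
    z2 := orderOf_eq_prime (by rw [pow_two, h.tame.mid_sq]) h.tame.mid_ne_one
    z_mem := hz
    t_mem := ht
    le_cent := fun c hc => (hC c).1 (cZero_le e hc)
    surj := phiZero_surj e
    ker_odd := phiZero_ker_odd e
    z_bar := mem_zpowers _
    line := by rw [ez, et]; exact L
    t2 := orderOf_s h
    g_z := hgz
    g_t := hgt
    conj_C := fun y hy c hc => cZero_conj e (hmemC y hy) hc
    conj_ker := by
      rintro y hy _ ⟨x, hx, rfl⟩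
      exact phiZero_ker_conj e (hmemC y hy) x hx
    comm_C := fun x hx y hy => cZero_comm e (hmemC x hx) (hmemC y hy)
    cube := fun y hzy hty hy => exists_cube e h hC hodd y hzy hty hy
    root_irred := fun hδ V pt R W hWV hW => hirr hδ V pt (et ▸ R) W hWV (et ▸ hW)
    tz_conj := ⟨⟨iI a σ, hP0 (h.tame.pow_mem _)⟩, iI_moves h⟩
    b_one := hb1
    b_sect := fun y hy => by
      rw [hbv (y : G) (cZero_le e y.2) (by rwa [Subgroup.orderOf_coe])]
      simp only [stein, WLine.fix]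
      congr 4
    b_const := fun y hy hyo k hk => by
      obtain ⟨x, hx, rfl⟩ := hk
      have hyC := hmemC y hy
      show (b : G → ℂ) (mid a σ * (y * (x : G))) = _
      have hxC := cZero_le e x.2
      have hxO : (⟨(x : G), hxC⟩ : C) ∈ Cfsg.oddCore ↥C := (phiZero_eq_one e).1 hx
      let π : ↥C →* ↥C ⧸ Cfsg.oddCore ↥C := QuotientGroup.mk' (Cfsg.oddCore ↥C)
      have e1 : π ⟨y * x, C.mul_mem hyC hxC⟩ = π ⟨y, hyC⟩ := by
        rw [show (⟨y * (x : G), C.mul_mem hyC hxC⟩ : C) = ⟨y, hyC⟩ * ⟨x, hxC⟩ from rfl, map_mul,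
          show π ⟨x, hxC⟩ = 1 from (QuotientGroup.eq_one_iff _).2 hxO, mul_one]
      have hodd' : ¬ 2 ∣ orderOf (y * (x : G)) := by
        intro h2
        haveI := Fact.mk Nat.prime_two
        set w : C := ⟨y * x, C.mul_mem hyC hxC⟩ with hw
        have h3 : w ^ orderOf y ∈ Cfsg.oddCore ↥C := by
          rw [← QuotientGroup.eq_one_iff]
          show π (w ^ orderOf y) = 1
          rw [map_pow, e1, ← map_pow, show (⟨y, hyC⟩ : C) ^ orderOf y = 1 from Subtype.ext (by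
            simp [pow_orderOf_eq_one]), map_one]
        have h4 : orderOf w ∣ orderOf y * Nat.card (Cfsg.oddCore ↥C) := by
          refine orderOf_dvd_of_pow_eq_one ?_
          rw [pow_mul]
          exact congrArg Subtype.val (pow_card_eq_one' (G := Cfsg.oddCore ↥C) (x := ⟨_, h3⟩))
        rw [← Subgroup.orderOf_coe w] at h4
        rcases Nat.prime_two.dvd_mul.1 (h2.trans h4) with h5 | h5
        · exact hyo h5
        · exact Cores.not_dvd_card_pPrimeCore (p := 2) (G := ↥C) h5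
      rw [hbv _ (C.mul_mem hyC hxC) hodd', hbv _ hyC hyo]
      letI := axAction e
      exact congrArg (fun w => -stein (Ax F) _ w) e1
    b_ker := fun x hx => Subtype.ext (hbk _ hx) }⟩

theorem exists_cube' (h : SD P a r σ s) (hC : ∀ g, g ∈ C ↔ Commute (mid a σ) g) (hodd : Odd (Nat.card F))
    (y : G) (hzy : Commute (mid a σ) y) (hty : Commute s y) (hy : y ∉ cZero e) :
    ∃ x ∈ cZero e, x ∈ centralizer ({mid a σ} : Set G) ⊓ centralizer ({s} : Set G) ∧
      ∀ hm : ⁅⁅⁅x, y⁆, y⁆, y⁆ ∈ cZero e, phiZero e ⟨_, hm⟩ ≠ 1 := by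
  obtain ⟨x, hxt, hx⟩ := exists_cube e h hC hodd y hzy hty hy
  exact ⟨x, x.2, ⟨mem_centralizer_singleton_iff.2 ((hC _).1 (cZero_le e x.2)).eq.symm,
    mem_centralizer_singleton_iff.2 hxt.eq.symm⟩, hx⟩

/-- A normal subgroup of `diag e` containing the torus is everything. -/
theorem torus_normal_top (h : SD P a r σ s) (hC : ∀ g, g ∈ C ↔ Commute (mid a σ) g) (hodd : Odd (Nat.card F))
    (ht : s ∈ cZero e) {M : Subgroup (diag e)} [M.Normal]
    (hM : centralizer ({phiZero e ⟨s, ht⟩} : Set (diag e)) ≤ M) : M = ⊤ := by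
  have hle := h.le_of_cent hC
  obtain ⟨S, hA, hq, hsS, hs2, hsz, hi⟩ :=
    image_facts h hC (hle h.tame.mid_mem) (hle h.s_mem) (hle (h.tame.pow_mem _))
  obtain ⟨_, _, D⟩ := diagSD e hA hodd hq hsS hs2 hsz hi
  exact D.eq_top_of_torus_le hM

end Cfsg.Agent.SDKeystone.Budget
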