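import Cfsg.Agent.EqLemmas
import Cfsg.Agent.Lib.SDKeystone.Budget.CoreFree
import Cfsg.Agent.Lib.SDKeystone.Budget.Setting

/-!
# The degree budget: the core of `C(t)` when the swap sees its derived group

* `Setting.exists_chi` : the abelian quotient of `C(z)` by `C` as a homomorphism;
* `Setting.phi_comm`, `Setting.cube'` : the torus hypotheses of `core_free`;
* `Setting.comm_of_swap_free` : if no non-trivial element of the derived group of `A = O ∩ C(t)` is seen
  trivially at `t`, then `A` is abelian and has no field part at `t`.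
-/

set_option autoImplicit false
set_option linter.unusedSectionVars false
set_option linter.style.haveILetI false

open scoped commutatorElement

namespace Cfsg.Agent.SDKeystone.Budget

open Subgroup Cfsg Cfsg.Agent.Char Cfsg.Agent.InvolChar

universe u v w

variable {G : Type u} [Group G] [Fintype G] {H : Type v} [Group H] [Finite H] {X : Type w} [MulAction H X]
  {z t g : G} {C : Subgroup G} [Fintype C] {φ : C →* H} {Z : Subgroup H} {n q o : ℕ} {δ : ℤ} {b : IrrCharacter G}

namespace Setting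

variable (D : Setting X z t g C φ Z n q o δ b)
include D

/-- `C` is the kernel of a map of `C(z)` onto an abelian group of order its index. -/
theorem exists_chi :
    ∃ (A : Type u) (_ : CommGroup A) (χ : centralizer ({z} : Set G) →* A),
      (∀ x (hx : x ∈ centralizer ({z} : Set G)), x ∈ C ↔ χ ⟨x, hx⟩ = 1) ∧
      Nat.card A = (C.subgroupOf (centralizer ({z} : Set G))).index := by
  set K := C.subgroupOf (centralizer ({z} : Set G)) with hK
  haveI : K.Normal := ⟨fun c hc y => D.conj_C _ y.2 _ hc⟩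
  have hcomm : ∀ a b : centralizer ({z} : Set G) ⧸ K, a * b = b * a := by
    intro a b
    induction a using QuotientGroup.induction_on with
    | H x =>
      induction b using QuotientGroup.induction_on with
      | H y =>
        refine commutatorElement_eq_one_iff_mul_comm.1 ?_
        exact (QuotientGroup.eq_one_iff (N := K) ⁅x, y⁆).2 (D.comm_C _ x.2 _ y.2)
  exact ⟨centralizer ({z} : Set G) ⧸ K, { (inferInstance : Group _) with mul_comm := hcomm },
    QuotientGroup.mk' K, fun x hx => (QuotientGroup.eq_one_iff (N := K) ⟨x, hx⟩).symm, rfl⟩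

/-- `C ∩ C(t)` acts through the torus. -/
theorem phi_comm {x y : C} (hx : Commute t (x : G)) (hy : Commute t (y : G)) : Commute (φ x) (φ y) := by
  have h : ∀ w : C, Commute t (w : G) → φ w ∈ centralizer ({φ ⟨t, D.t_mem⟩} : Set H) := fun w hw =>
    mem_centralizer_singleton_iff.2
      ((show Commute w (⟨t, D.t_mem⟩ : C) from Subtype.ext hw.eq.symm).map φ).eq
  exact D.line.torus_comm _ (h x hx) _ (h y hy)

/-- The cube hypothesis in the form of `core_free`. -/
theorem cube' (y : G) (hzy : Commute z y) (hty : Commute t y) (hy : y ∉ C) :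
    ∃ x ∈ C, x ∈ centralizer ({z} : Set G) ⊓ centralizer ({t} : Set G) ∧
      ∀ h : ⁅⁅⁅x, y⁆, y⁆, y⁆ ∈ C, φ ⟨_, h⟩ ≠ 1 := by
  obtain ⟨x, hxt, hx⟩ := D.cube y hzy hty hy
  exact ⟨x, x.2, ⟨mem_centralizer_singleton_iff.2 (D.le_cent x x.2).eq.symm,
    mem_centralizer_singleton_iff.2 hxt.eq.symm⟩, hx⟩

/-- The kernel of `φ` is normal in `C(z)`. -/
theorem conj_ker' (c : G) (hc : Commute z c) (k : G) (hk : k ∈ φ.ker.map C.subtype) :
    c * k * c⁻¹ ∈ φ.ker.map C.subtype :=
  D.conj_ker c (mem_centralizer_singleton_iff.2 hc.eq.symm) k hk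

/-- If no non-trivial element of the derived group of the core of `C(t)` is seen trivially at `t`, that core
is abelian and has no field part at `t`. -/
theorem comm_of_swap_free (h : ∀ x ∈ ⁅φ.ker ⊓ D.cT, φ.ker ⊓ D.cT⁆, InvT φ g x → x = 1) :
    (∀ x ∈ φ.ker ⊓ D.cT, ∀ y ∈ φ.ker ⊓ D.cT, Commute x y) ∧
      ∀ x ∈ φ.ker ⊓ D.cT, g * (x : G) * g⁻¹ ∈ C := by
  obtain ⟨A, iA, χ, hχ, -⟩ := D.exists_chi
  obtain ⟨s, hs⟩ := D.tz_conj
  have hsz : Commute z (s : G) := D.le_cent s s.2
  have hzt : Commute z t := D.le_cent t D.t_mem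
  set W := φ.ker.map C.subtype ⊓ centralizer ({t} : Set G) with hWdef
  have hWeq : (φ.ker ⊓ D.cT).map C.subtype = W := by
    refine le_antisymm ?_ ?_
    · rintro _ ⟨x, ⟨hxk, hxt⟩, rfl⟩
      exact ⟨⟨x, hxk, rfl⟩, mem_centralizer_singleton_iff.2 (D.mem_cT.1 hxt).eq.symm⟩
    · rintro _ ⟨⟨x, hxk, rfl⟩, hxt⟩
      exact ⟨x, ⟨hxk, D.mem_cT.2 (mem_centralizer_singleton_iff.1 hxt).symm⟩, rfl⟩
  -- `g ^ 2` fixes `z` and `t`; `s` moves `t` to `t z`
  have hg2z : Commute z (g * g) := by
    have e : g * g * z * (g * g)⁻¹ = z := by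
      calc g * g * z * (g * g)⁻¹ = g * (g * z * g⁻¹) * g⁻¹ := by group
        _ = z := by rw [D.g_z, D.g_t]
    exact (mul_inv_eq_iff_eq_mul.1 e).symm
  have hconjW : ∀ u ∈ ⁅W, W⁆, (s : G)⁻¹ * u * s ∈ ⁅W, W⁆ := by
    have hle : W.map (MulAut.conj (s : G)⁻¹).toMonoidHom ≤ W := by
      rintro _ ⟨k, ⟨hk, hkt⟩, rfl⟩
      simp only [MulEquiv.coe_toMonoidHom, MulAut.conj_apply]
      refine ⟨D.conj_ker' _ hsz.inv_right k hk, mem_centralizer_singleton_iff.2 ?_⟩
      have hkz : Commute z k := by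
        obtain ⟨x, -, rfl⟩ := hk
        exact D.le_cent x x.2
      have htk : Commute t k := (mem_centralizer_singleton_iff.1 hkt).symm
      have h1 := (htk.mul_left hkz).map
        (MulAut.conj (s : G)⁻¹)
      simp only [MulAut.conj_apply] at h1
      have e : (s : G)⁻¹ * (t * z) * ((s : G)⁻¹)⁻¹ = t := by rw [← hs]; group
      rw [e] at h1
      exact h1.eq.symm
    intro u hu
    have h1 := commutator_mono hle hle
      (map_commutator W W (MulAut.conj (s : G)⁻¹).toMonoidHom ▸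
        mem_map_of_mem (MulAut.conj (s : G)⁻¹).toMonoidHom hu)
    simpa using h1
  have hsym : ∀ u ∈ ⁅W, W⁆, ((s : G) * g)⁻¹ * u * ((s : G) * g) ∈ φ.ker.map C.subtype →
      g * u * g⁻¹ ∈ C → g * u * g⁻¹ ∈ φ.ker.map C.subtype := by
    intro u hu hu2 _
    obtain ⟨x, hx, hxe⟩ : (s : G)⁻¹ * u * s ∈ (⁅φ.ker ⊓ D.cT, φ.ker ⊓ D.cT⁆).map C.subtype := by
      rw [map_commutator, hWeq]; exact hconjW u hu
    have hinv : InvT φ g x := by
      have h1 := D.conj_ker' _ hg2z _ hu2
      show g * (x : G) * g⁻¹ ∈ φ.ker.map C.subtype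
      rw [show (x : G) = (s : G)⁻¹ * u * s from hxe]
      convert h1 using 1
      group
    have hu1 : u = 1 := by
      have hx1 : (s : G)⁻¹ * u * s = 1 := hxe.symm.trans (congrArg Subtype.val (h x hx hinv))
      have := congrArg (fun w => (s : G) * w * (s : G)⁻¹) hx1
      simpa [mul_assoc] using this
    simp [hu1]
  have hfree : ∀ x ∈ φ.ker ⊓ D.cT, g * (x : G) * g⁻¹ ∈ C := fun x hx =>
    core_free χ hχ φ rfl D.conj_ker' (fun k ⟨y, _, hy⟩ => hy ▸ D.le_cent y y.2) D.g_z D.g_t hzt s.2 hsz hs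
      (fun a c ha hc _ _ => D.phi_comm ha hc) D.cube' hsym x ⟨x, hx.1, rfl⟩ (D.mem_cT.1 hx.2)
  refine ⟨fun x hx y hy => commutatorElement_eq_one_iff_commute.1
    (h _ (commutator_mem_commutator hx hy) ?_), hfree⟩
  have hcj : ∀ w : C, Commute t (g * (w : G) * g⁻¹) := fun w => by
    have h1 := (D.le_cent w w.2).map (MulAut.conj g)
    simpa only [MulAut.conj_apply, D.g_z] using h1
  refine ⟨⁅(⟨_, hfree x hx⟩ : C), ⟨_, hfree y hy⟩⁆, ?_, ?_⟩
  · rw [SetLike.mem_coe, MonoidHom.mem_ker, map_commutatorElement, commutatorElement_eq_one_iff_commute]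
    exact D.phi_comm (hcj x) (hcj y)
  · simp only [Subgroup.coe_subtype, commutatorElement_def, Subgroup.coe_mul, Subgroup.coe_inv]
    group

end Setting

end Cfsg.Agent.SDKeystone.Budget
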