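import Cfsg.Agent.EqLemmas
import Cfsg.Agent.Lib.SDKeystone.Budget.Main
import Cfsg.Agent.Lib.SDKeystone.Budget.Final
import Cfsg.Agent.Lib.SDKeystone.Budget.RigidSwap
import Cfsg.Agent.Lib.SDKeystone.Budget.ProducerSD
import Cfsg.Agent.Lib.SDBudget.EndCentQ

/-!
# The degree budget, semidihedral case: the input of the end game

`n = 1`, so a normal subgroup of `H` containing the image of `t` is everything.

* `Setting.rigid` : either sign: `t` centralises the core, no invisible element is non-trivial;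
* `Setting.output` : the core is central in `C`, cyclic of order dividing `o`, and has no field part;
* `Setting.output_core` : the same for the core `O` of `C(z)`, with `C` containing the diagonal elements;
* `output_sd` : for `C = cZero e`: the inputs of `SDBudget.exists_data_plus` / `exists_data_minus`.
-/

set_option autoImplicit false
set_option linter.unusedSectionVars false
set_option linter.style.haveILetI false

namespace Cfsg.Agent.SDKeystone.Budget

open Subgroup Cfsg Cfsg.Agent.Char Cfsg.Agent.InvolChar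

universe u v w

variable {G : Type u} [Group G] [Fintype G] {H : Type v} [Group H] [Finite H] {X : Type w} [MulAction H X]
  {z t g : G} {C : Subgroup G} [Fintype C] {φ : C →* H} {Z : Subgroup H}
  {n q o : ℕ} {δ : ℤ} {b : IrrCharacter G}

namespace Setting

variable (D : Setting X z t g C φ Z n q o δ b)
include D

/-- The conclusion of the budget for either sign. -/
theorem rigid (hplus : δ = 1 → (∀ x : C, φ x = 1 → Commute x D.tC) ∧ ∀ x : C, D.IsInvisible x → x = 1)
    (hminus : δ = -1 → D.MinusPrincipal ∧ D.MinusMoved) :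
    (∀ x : C, φ x = 1 → Commute x D.tC) ∧ ∀ x : C, D.IsInvisible x → x = 1 := by
  rcases D.line.sign with h | h
  · exact hplus h
  · exact D.rigid_minus h (hminus h).1 (hminus h).2

/-- The core is central in `C`, cyclic of order dividing `o`, and has no field part. -/
theorem output (hn : n = 1) (hidx : ¬ 2 ∣ (C.subgroupOf (centralizer ({z} : Set G))).index)
    (hr : (∀ x : C, φ x = 1 → Commute x D.tC) ∧ ∀ x : C, D.IsInvisible x → x = 1) :
    (∀ x c : C, φ x = 1 → Commute x c) ∧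
      (∀ y : C, Commute t (y : G) → g * (y : G) * g⁻¹ ∈ C) ∧ IsCyclic φ.ker ∧ Nat.card φ.ker ∣ o ∧
      ∀ x : C, φ x = 1 → ∃ h : g * (x : G) * g⁻¹ ∈ C,
        φ ⟨_, h⟩ ∈ centralizer ({φ ⟨t, D.t_mem⟩} : Set H) := by
  obtain ⟨A, iA, χ, hχ, hcard⟩ := D.exists_chi
  obtain ⟨⟨N, hNn, htN, hN, -⟩, hinv⟩ := D.of_comm_t hr.1 hr.2
  obtain ⟨s, hs⟩ := D.tz_conj
  have htop : N.map φ = ⊤ := D.line.gen_one hn _ (hNn.map φ D.surj) (mem_map_of_mem φ htN)
  have hcover : ∀ c : C, ∃ m ∈ N, φ m = φ c := fun c => mem_map.1 (htop ▸ mem_top (φ c))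
  refine final_of_comm (s := (s : G)) (hcard ▸ hidx) χ hχ φ D.t_mem D.le_cent D.line D.ker_odd D.g_z D.g_t s.2 hs
    D.conj_ker' (fun x y hx hy _ _ => D.phi_comm hx hy) D.cube'
    (fun x hx => congrArg Subtype.val (hr.1 x hx).eq.symm) ?_ N (fun m hm x hx => (hN m hm x hx).symm) ?_ ?_
  · rintro x hx ⟨h, h1⟩
    exact hinv x hx ⟨⟨_, h⟩, h1, rfl⟩
  · intro c
    obtain ⟨m, hm, e⟩ := hcover c
    exact ⟨m, hm, 1, Commute.one_right t, by rw [mul_one, e]⟩
  · exact fun y _ _ => hcover y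

/-- The output for the core `O` of `C(z)`, `P` the diagonal elements. -/
theorem output_core (hn : n = 1) (hidx : ¬ 2 ∣ (C.subgroupOf (centralizer ({z} : Set G))).index)
    (hr : (∀ x : C, φ x = 1 → Commute x D.tC) ∧ ∀ x : C, D.IsInvisible x → x = 1)
    (O : Subgroup (centralizer ({z} : Set G)))
    (hO : ∀ x : centralizer ({z} : Set G), x ∈ O ↔ ∃ h : (x : G) ∈ C, φ ⟨x, h⟩ = 1)
    {m : ℕ} (hm : o = m) (P : centralizer ({z} : Set G) → Prop) (hP : ∀ y, P y → (y : G) ∈ C) :
    (∀ x ∈ O, ∀ y, P y → Commute x y) ∧ IsCyclic O ∧ Nat.card O ∣ m := by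
  obtain ⟨hc, -, hcyc, hdvd, -⟩ := D.output hn hidx hr
  let f : O →* φ.ker :=
    { toFun := fun x => ⟨⟨(x.1 : G), ((hO x.1).1 x.2).1⟩, MonoidHom.mem_ker.2 ((hO x.1).1 x.2).2⟩
      map_one' := rfl
      map_mul' := fun _ _ => rfl }
  have hf : Function.Injective f := fun a c e =>
    Subtype.ext (Subtype.ext (congrArg (fun w : φ.ker => ((w : C) : G)) e))
  refine ⟨fun x hx y hy => ?_, ?_, hm ▸ (card_dvd_of_injective f hf).trans hdvd⟩
  · obtain ⟨hxC, hx1⟩ := (hO x).1 hx
    exact Subtype.ext (congrArg (fun w : C => (w : G)) (hc ⟨x, hxC⟩ ⟨y, hP y hy⟩ hx1).eq)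
  · haveI := hcyc
    exact isCyclic_of_injective f hf

end Setting

section SD

open Cfsg.Agent.PSL2 (SL2)
open Cfsg.Agent.QGroup.PtLine (Ax)

variable {F : Type} [Field F] [Fintype F]
  {N : Subgroup (↥(centralizer ({z} : Set G)) ⧸ Cfsg.oddCore ↥(centralizer ({z} : Set G)))} [hNn : N.Normal]
  (e : N ≃* SL2 F) (hodd : Odd (Nat.card F))

/-- `fieldPart` and `fieldOf` have the same kernel. -/
theorem fieldPart_ker : (SDBudget.fieldPart e hodd).ker = diag e :=
  Subgroup.ext fun _ => (SDBudget.mem_ker_iff e hodd).trans (mem_diag e).symm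

omit [Fintype C] in
/-- The index of `cZero e` in `C(z)` is odd once a Sylow 2-subgroup has trivial field part. -/
theorem odd_index_cZero {S : Sylow 2 (↥(centralizer ({z} : Set G)) ⧸ Cfsg.oddCore ↥(centralizer ({z} : Set G)))}
    (hS : (S : Subgroup _) ≤ (SDBudget.fieldPart e hodd).ker) :
    ¬ 2 ∣ ((cZero e).subgroupOf (centralizer ({z} : Set G))).index := by
  haveI := Fact.mk Nat.prime_two
  rw [show (cZero e).subgroupOf (centralizer ({z} : Set G)) =
      (diag e).comap (QuotientGroup.mk' (Cfsg.oddCore ↥(centralizer ({z} : Set G)))) from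
    Subgroup.ext fun x => ⟨fun h => ((mem_cZero e).1 h).2, fun h => (mem_cZero e).2 ⟨x.2, h⟩⟩,
    Subgroup.index_comap_of_surjective _ (QuotientGroup.mk'_surjective _), ← fieldPart_ker e hodd]
  exact fun h => S.not_dvd_index (h.trans (Subgroup.index_dvd_of_le hS))

/-- **The inputs of the end game**, either sign. -/
theorem output_sd [Fintype (cZero e)] {Z : Subgroup (diag e)}
    {S : Sylow 2 (↥(centralizer ({z} : Set G)) ⧸ Cfsg.oddCore ↥(centralizer ({z} : Set G)))}
    (hS : (S : Subgroup _) ≤ (SDBudget.fieldPart e hodd).ker)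
    (D : letI := axAction (restrEquiv e); Setting (Ax F) z t g (cZero e) (phiZero e) Z 1 q o δ b)
    (hr : letI := axAction (restrEquiv e);
      (∀ x : cZero e, phiZero e x = 1 → Commute x D.tC) ∧ ∀ x : cZero e, D.IsInvisible x → x = 1) :
    (∀ x ∈ Cfsg.oddCore ↥(centralizer ({z} : Set G)), ∀ y : ↥(centralizer ({z} : Set G)),
      SDBudget.fieldPart e hodd (QuotientGroup.mk' (Cfsg.oddCore ↥(centralizer ({z} : Set G))) y) = 1 →
        Commute x y) ∧
      IsCyclic (Cfsg.oddCore ↥(centralizer ({z} : Set G))) ∧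
      Nat.card (Cfsg.oddCore ↥(centralizer ({z} : Set G))) ∣ o ∧ (q : ℤ) - δ = 2 * (o : ℤ) := by
  letI := axAction (restrEquiv e)
  have hO : ∀ x : centralizer ({z} : Set G), x ∈ Cfsg.oddCore ↥(centralizer ({z} : Set G)) ↔
      ∃ h : (x : G) ∈ cZero e, phiZero e ⟨x, h⟩ = 1 := by
    intro x
    constructor
    · intro hx
      have hxC : (x : G) ∈ cZero e := (mem_cZero e).2 ⟨x.2,
        (show QuotientGroup.mk' (Cfsg.oddCore ↥(centralizer ({z} : Set G))) x = 1 from
          (QuotientGroup.eq_one_iff x).2 hx) ▸ one_mem _⟩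
      exact ⟨hxC, (phiZero_eq_one e).2 hx⟩
    · rintro ⟨h, h1⟩
      exact (phiZero_eq_one e).1 h1
  obtain ⟨h1, h2, h3⟩ := D.output_core rfl (odd_index_cZero e hodd hS) hr
    (Cfsg.oddCore ↥(centralizer ({z} : Set G))) hO (m := o) rfl
    (fun y => SDBudget.fieldPart e hodd (QuotientGroup.mk' (Cfsg.oddCore ↥(centralizer ({z} : Set G))) y) = 1)
    (fun y hy => (mem_cZero e).2 ⟨y.2, fieldPart_ker e hodd ▸ MonoidHom.mem_ker.2 hy⟩)
  exact ⟨h1, h2, h3, by simpa using D.line.q_sub⟩

end SD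

end Cfsg.Agent.SDKeystone.Budget
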