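import Cfsg.Agent.Lib.OW.Basic
import Cfsg.Agent.Lib.Perm.OrbitalAlgebra

/-!
# The degree bound from a projection moved off a subgroup

* `index_mul_rank_le` : `Q` idempotent with `Q ρ(h) Q = 0` off `B` has `(G : B) * rank Q ≤ dim`
* `off_moved`, `off_core`, `index_mul_of_off` : for the isotypic projection of `θ ∈ Irr K` irreducible on `K0`
-/

set_option autoImplicit false
set_option linter.unusedSectionVars false

namespace Cfsg.Agent.SDKeystone.Budget

open Subgroup Cfsg Cfsg.Agent.Char Cfsg.Agent.OW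
open Cfsg.Agent.Perm.Orbital (coef conv groupSumOp_conv conv_coef isClassFunction_coef sum_coef_mul_character
  sum_coef_mul)
open scoped ComplexConjugate

universe u

variable {G : Type u} [Group G] [Finite G]

attribute [local instance 2000] Fintype.ofFinite

/-- An idempotent killed between itself and its translates off `B` has small rank. -/
theorem index_mul_rank_le {V : Type*} [AddCommGroup V] [Module ℂ V] [FiniteDimensional ℂ V]
    (ρ : Representation ℂ G V) (B : Subgroup G) (Q : Module.End ℂ V) (hQ : Q * Q = Q)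
    (hoff : ∀ h : G, h ∉ B → Q * ρ h * Q = 0) {k : ℕ} (hk : LinearMap.trace ℂ V Q = (k : ℂ)) :
    B.index * k ≤ Module.finrank ℂ V := by
  classical
  set T : G ⧸ B → Module.End ℂ V := fun c => ρ c.out * Q * ρ (c.out)⁻¹ with hT
  have hmul : ∀ c d, T c * T d = if c = d then T c else 0 := by
    intro c d
    have e : T c * T d = ρ c.out * (Q * ρ ((c.out)⁻¹ * d.out) * Q) * ρ (d.out)⁻¹ := by
      simp only [hT, map_mul, mul_assoc]
    split_ifs with hcd
    · subst hcd
      rw [e, inv_mul_cancel, map_one, mul_one, hQ]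
    · rw [e, hoff _ fun hm => hcd ?_, mul_zero, zero_mul]
      rw [← QuotientGroup.out_eq' c, ← QuotientGroup.out_eq' d]
      exact QuotientGroup.eq.2 hm
  set R := ∑ c : G ⧸ B, T c with hR
  have hRR : IsIdempotentElem R := by
    show R * R = R
    simp only [hR, Finset.sum_mul, Finset.mul_sum, hmul, Finset.sum_ite_eq', Finset.sum_ite_eq, Finset.mem_univ,
      if_true]
  have htr : LinearMap.trace ℂ V R = ((B.index * k : ℕ) : ℂ) := by
    rw [hR, map_sum, Finset.sum_congr rfl fun c _ => ?_, Finset.sum_const, Finset.card_univ, nsmul_eq_mul,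
      Subgroup.index_eq_card, Nat.card_eq_fintype_card, Nat.cast_mul]
    show LinearMap.trace ℂ V (T c) = (k : ℂ)
    rw [hT]
    show LinearMap.trace ℂ V (ρ c.out * Q * ρ (c.out)⁻¹) = (k : ℂ)
    rw [LinearMap.trace_mul_comm, ← mul_assoc, ← map_mul, inv_mul_cancel, map_one, one_mul, hk]
  rw [((LinearMap.isProj_range_iff_isIdempotentElem R).2 hRR).trace] at htr
  have h2 : Module.finrank ℂ (LinearMap.range R) = B.index * k := by exact_mod_cast htr
  exact h2 ▸ Submodule.finrank_le _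

/-- The projection of a character irreducible on `K0` absorbs that of its restriction. -/
theorem absorb {V : Type*} [AddCommGroup V] [Module ℂ V] {K0 K : Subgroup G} (hK0 : K0 ≤ K)
    (θ : IrrCharacter ↥K) (φ : IrrCharacter ↥K0) (hφ : ∀ g ∈ K0, E θ g = E φ g) (ρ : Representation ℂ G V) :
    groupSumOp (ρ.comp K.subtype) (coef (θ : ↥K → ℂ)) * groupSumOp (ρ.comp K0.subtype) (coef (φ : ↥K0 → ℂ)) =
      groupSumOp (ρ.comp K.subtype) (coef (θ : ↥K → ℂ)) := by
  classical
  obtain ⟨n, σ, hσ, hσθ⟩ := θ.2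
  haveI := hσ
  have hres : ∀ g : ↥K0, σ.character (Subgroup.inclusion hK0 g) = (φ : ↥K0 → ℂ) g := fun g => by
    rw [congrFun hσθ, ← E_coe θ, ← E_coe φ]
    exact hφ g g.2
  let σ0 : Representation ℂ ↥K0 (Fin n → ℂ) := σ.comp (Subgroup.inclusion hK0)
  have hchar : σ0.character = (φ : ↥K0 → ℂ) := funext hres
  haveI : σ0.IsIrreducible := by
    obtain ⟨m, τ, hτ, hτφ⟩ := φ.2
    obtain ⟨e⟩ := equiv_of_character_eq τ σ0 (hτφ.trans hchar.symm)
    exact isIrreducible_congr e hτ
  have hn : ((Module.finrank ℂ (Fin n → ℂ) : ℕ) : ℂ) ≠ 0 := by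
    have := nontrivial_of_isIrreducible σ
    exact Nat.cast_ne_zero.2 Module.finrank_pos.ne'
  have hone : (φ : ↥K0 → ℂ) 1 = ((Module.finrank ℂ (Fin n → ℂ) : ℕ) : ℂ) := by
    rw [← hres, map_one, Representation.char_one]
  have hid : groupSumOp σ0 (coef (φ : ↥K0 → ℂ)) = LinearMap.id := by
    rw [groupSumOp_eq_smul _ (isClassFunction_coef φ.2)]
    have h1 : ∑ g, coef (φ : ↥K0 → ℂ) g * σ0.character g =
        ((Module.finrank ℂ (Fin n → ℂ) : ℕ) : ℂ) := by
      rw [hchar, sum_coef_mul φ.2,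
        classInner_irr_self φ.2, mul_one, hone]
    rw [h1, div_self hn, one_smul]
  have hkey : ∀ y : ↥K, ∑ g : ↥K0, coef (θ : ↥K → ℂ) (y * (Subgroup.inclusion hK0 g)⁻¹) * coef (φ : ↥K0 → ℂ) g =
      coef (θ : ↥K → ℂ) y := by
    intro y
    have h1 : ∑ g : ↥K0, coef (φ : ↥K0 → ℂ) g * σ.character (y * Subgroup.inclusion hK0 g) = σ.character y := by
      have h2 := congrArg (fun L => LinearMap.trace ℂ _ (σ y * L)) hid
      simp only [groupSumOp, Finset.mul_sum, mul_smul_comm, map_sum, map_smul, smul_eq_mul] at h2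
      refine Eq.trans (Finset.sum_congr rfl fun g _ => ?_) (h2.trans ?_)
      · show _ = coef (φ : ↥K0 → ℂ) g * LinearMap.trace ℂ _ (σ y * σ (Subgroup.inclusion hK0 g))
        rw [← map_mul]
        rfl
      · show LinearMap.trace ℂ _ (σ y * 1) = _
        rw [mul_one]
        rfl
    rw [hσθ] at h1
    have h3 := congrArg conj h1
    rw [map_sum] at h3
    have hinv : ∀ g : ↥K0, conj (coef (φ : ↥K0 → ℂ) g) = coef (φ : ↥K0 → ℂ) g⁻¹ := by
      intro g
      simp only [coef, map_mul, map_div₀, Complex.conj_natCast, Complex.conj_conj]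
      rw [hone, Complex.conj_natCast, IsCharacter.apply_inv (IsIrrCharacter.isCharacter φ.2), Complex.conj_conj]
    calc ∑ g : ↥K0, coef (θ : ↥K → ℂ) (y * (Subgroup.inclusion hK0 g)⁻¹) * coef (φ : ↥K0 → ℂ) g
        = ∑ g : ↥K0, coef (θ : ↥K → ℂ) (y * Subgroup.inclusion hK0 g) * coef (φ : ↥K0 → ℂ) g⁻¹ :=
          Fintype.sum_equiv (Equiv.inv ↥K0) _ _ fun g => by simp
      _ = (θ : ↥K → ℂ) 1 / (Nat.card ↥K : ℂ) *
            ∑ g : ↥K0, conj (coef (φ : ↥K0 → ℂ) g * (θ : ↥K → ℂ) (y * Subgroup.inclusion hK0 g)) := by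
          rw [Finset.mul_sum]
          refine Finset.sum_congr rfl fun g _ => ?_
          rw [map_mul, hinv, coef]
          ring
      _ = coef (θ : ↥K → ℂ) y := by rw [h3]; rfl
  have hcomm : ∀ x : ↥K, ∀ g : ↥K0, (ρ.comp K.subtype) x * (ρ.comp K0.subtype) g =
      (ρ.comp K.subtype) (x * Subgroup.inclusion hK0 g) := fun x g => (map_mul ρ _ _).symm
  simp only [groupSumOp, Finset.sum_mul, Finset.mul_sum, smul_mul_smul_comm, hcomm]
  calc ∑ g : ↥K0, ∑ x : ↥K,
        (coef (θ : ↥K → ℂ) x * coef (φ : ↥K0 → ℂ) g) • (ρ.comp K.subtype) (x * Subgroup.inclusion hK0 g)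
      = ∑ g : ↥K0, ∑ y : ↥K, (coef (θ : ↥K → ℂ) (y * (Subgroup.inclusion hK0 g)⁻¹) *
          coef (φ : ↥K0 → ℂ) g) • (ρ.comp K.subtype) y :=
        Finset.sum_congr rfl fun g _ => Fintype.sum_equiv (Equiv.mulRight (Subgroup.inclusion hK0 g)) _ _
          fun x => by simp
    _ = ∑ y : ↥K, coef (θ : ↥K → ℂ) y • (ρ.comp K.subtype) y := by
        rw [Finset.sum_comm]
        exact Finset.sum_congr rfl fun y _ => by rw [← Finset.sum_smul, hkey]

/-- Transport of a projection by a normalising element. -/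
theorem conj_groupSumOp {V : Type*} [AddCommGroup V] [Module ℂ V] {H : Subgroup G} {x : G}
    (hx : x ∈ normalizer (H : Set G)) (χ : IrrCharacter ↥H) (ρ : Representation ℂ G V) :
    ρ x * groupSumOp (ρ.comp H.subtype) (coef (χ : ↥H → ℂ)) * ρ x⁻¹ =
      groupSumOp (ρ.comp H.subtype) (coef (cjI hx χ : ↥H → ℂ)) := by
  simp only [groupSumOp, Finset.mul_sum, Finset.sum_mul, mul_smul_comm, smul_mul_assoc]
  refine Fintype.sum_equiv (conjEquiv hx).toEquiv _ _ fun g => ?_
  have h1 : coef (cjI hx χ : ↥H → ℂ) ((conjEquiv hx) g) = coef (χ : ↥H → ℂ) g := by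
    show (χ : ↥H → ℂ) ((conjEquiv hx).symm 1) / _ * conj ((χ : ↥H → ℂ) ((conjEquiv hx).symm ((conjEquiv hx) g))) = _
    rw [map_one, MulEquiv.symm_apply_apply]
    rfl
  show _ = coef (cjI hx χ : ↥H → ℂ) ((conjEquiv hx) g) • ρ (x * (g : G) * x⁻¹)
  rw [h1, map_mul, map_mul]
  rfl

/-- The projection of `η` is killed across a double coset moving its restriction. -/
theorem off_moved {B K0 K : Subgroup G} (hK0 : K0 ≤ K) (θ : IrrCharacter ↥K) (φ : IrrCharacter ↥K0)
    (hφ : ∀ g ∈ K0, E θ g = E φ g) (hB : B ≤ normalizer (K : Set G)) (hfix : Fix B K (E θ)) {s : G}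
    (hs : s ∈ normalizer (K0 : Set G)) (hne : ∃ g ∈ K0, E θ (s * g * s⁻¹) ≠ E θ g)
    {V : Type*} [AddCommGroup V] [Module ℂ V] (ρ : Representation ℂ G V) {b b' : G} (hb : b ∈ B) (hb' : b' ∈ B) :
    groupSumOp (ρ.comp K.subtype) (coef (θ : ↥K → ℂ)) * ρ (b * s * b') *
      groupSumOp (ρ.comp K.subtype) (coef (θ : ↥K → ℂ)) = 0 := by
  classical
  set P := groupSumOp (ρ.comp K.subtype) (coef (θ : ↥K → ℂ)) with hP
  set P0 := groupSumOp (ρ.comp K0.subtype) (coef (φ : ↥K0 → ℂ)) with hP0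
  have hPP0 : P * P0 = P := absorb hK0 θ φ hφ ρ
  have hP0P : P0 * P = P := by
    have hc : ∀ g : ↥K0, Commute (ρ (g : G)) P := fun g =>
      (groupSumOp_comm (ρ.comp K.subtype) (isClassFunction_coef θ.2) (Subgroup.inclusion hK0 g)).symm
    have : Commute P0 P := by
      rw [hP0, groupSumOp]
      exact Commute.sum_left _ _ _ fun g _ => ((hc g).smul_left _)
    rw [this.eq, hPP0]
  have hbP : ∀ b ∈ B, P * ρ b = ρ b * P := by
    intro b hb
    have h1 := conj_groupSumOp (hB hb) θ ρ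
    rw [(cjI_eq_iff (hB hb) θ).2 (hfix b hb), ← hP] at h1
    conv_lhs => rw [← h1]
    rw [mul_assoc, ← map_mul, inv_mul_cancel, map_one, mul_one]
  have hs0 : P0 * ρ s * P0 = 0 := by
    have h1 : P0 * (ρ s * P0 * ρ s⁻¹) = 0 := by
      rw [hP0, conj_groupSumOp hs φ ρ, groupSumOp_conv, conv_coef φ.2 (cjI hs φ).2, if_neg]
      · simp [groupSumOp]
      intro e
      obtain ⟨g, hg, hg'⟩ := hne
      have hmem : s * g * s⁻¹ ∈ K0 := (mem_normalizer_iff.1 hs g).1 hg
      have h2 := E_cjI hs φ (s * g * s⁻¹)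
      rw [← Subtype.ext e] at h2
      refine hg' ?_
      rw [hφ _ hmem, h2, hφ _ hg]
      congr 1
      group
    calc P0 * ρ s * P0 = P0 * (ρ s * P0 * ρ s⁻¹) * ρ s := by
          rw [mul_assoc, mul_assoc, mul_assoc, mul_assoc, ← map_mul, inv_mul_cancel, map_one, mul_one]
      _ = 0 := by rw [h1, zero_mul]
  have hsP : P * ρ s * P = 0 := by
    calc P * ρ s * P = P * P0 * ρ s * (P0 * P) := by rw [hPP0, hP0P]
      _ = P * (P0 * ρ s * P0) * P := by simp only [mul_assoc]
      _ = 0 := by rw [hs0, mul_zero, zero_mul]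
  calc P * ρ (b * s * b') * P = P * ρ b * ρ s * (ρ b' * P) := by rw [map_mul, map_mul]; simp only [mul_assoc]
    _ = ρ b * P * ρ s * (P * ρ b') := by rw [hbP b hb, ← hbP b' hb']
    _ = ρ b * (P * ρ s * P) * ρ b' := by simp only [mul_assoc]
    _ = 0 := by rw [hsP, mul_zero, zero_mul]

/-- The projection of `η` is killed by what moves its restriction to a normalised subgroup. -/
theorem off_core {O K0 K : Subgroup G} (hK0 : K0 ≤ K) (hO : O ≤ K0) (θ : IrrCharacter ↥K) (lam : IrrCharacter ↥O)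
    (hlam : ∀ g ∈ O, E θ g = E lam g) {V : Type*} [AddCommGroup V] [Module ℂ V] (ρ : Representation ℂ G V)
    {h : G} (hh : h ∈ normalizer (O : Set G)) (hne : ¬ cjI hh lam = lam) :
    groupSumOp (ρ.comp K.subtype) (coef (θ : ↥K → ℂ)) * ρ h *
      groupSumOp (ρ.comp K.subtype) (coef (θ : ↥K → ℂ)) = 0 := by
  classical
  have hne' : ∃ g ∈ O, E θ (h * g * h⁻¹) ≠ E θ g := by
    by_contra hall
    push Not at hall
    refine hne ((cjI_eq_iff hh lam).2 fun g hg => ?_)
    rw [← hlam g hg, ← hlam _ ((mem_normalizer_iff.1 hh g).1 hg)]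
    exact hall g hg
  have := off_moved (B := (⊥ : Subgroup G)) (hO.trans hK0) θ lam hlam bot_le
    (fun r hr g _ => by simp [mem_bot.1 hr]) hh hne' ρ (one_mem _) (one_mem _)
  rwa [one_mul, mul_one] at this

/-- The index times the degree times the multiplicity is at most the dimension. -/
theorem index_mul_of_off (B : Subgroup G) {K : Subgroup G} (θ : IrrCharacter ↥K) {n : ℕ}
    (ρ : Representation ℂ G (Fin n → ℂ))
    (hoff : ∀ h : G, h ∉ B → groupSumOp (ρ.comp K.subtype) (coef (θ : ↥K → ℂ)) * ρ h *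
      groupSumOp (ρ.comp K.subtype) (coef (θ : ↥K → ℂ)) = 0) :
    B.index * (deg θ * mu K ρ.character (E θ)) ≤ charDegree ρ.character := by
  classical
  set P := groupSumOp (ρ.comp K.subtype) (coef (θ : ↥K → ℂ)) with hP
  have hPP : P * P = P := by
    rw [hP, groupSumOp_conv, conv_coef θ.2 θ.2, if_pos rfl]
  have hψc : IsCh K ρ.character := IsCharacter.restrict ⟨n, ρ, rfl⟩ K
  have htr : LinearMap.trace ℂ (Fin n → ℂ) P = ((deg θ * mu K ρ.character (E θ) : ℕ) : ℂ) := by
    rw [hP, sum_coef_mul_character θ.2, Nat.cast_mul, ← mu_spec hψc (isCh_E θ), ← E_coe θ 1,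
      OneMemClass.coe_one, E_one, ip, rs_E]
    rfl
  refine (index_mul_rank_le ρ B P hPP hoff htr).trans_eq ?_
  rw [charDegree, Representation.char_one]
  simp

end Cfsg.Agent.SDKeystone.Budget
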