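import Cfsg.Agent.Lib.SDKeystone.Budget.PlusOrbit
import Cfsg.Agent.Lib.SDKeystone.Budget.PlusProj
import Cfsg.Agent.Lib.SDKeystone.Budget.Facts

/-!
# The price of a visible character

* `AtBound` : the shape at equality; `AtBound.kernel` : what is then in the kernel of the core constituent
* `case_bound` : a character negated by `z` has `(q + 1) * vis ≤ 2 * degree`, with equality only at `AtBound`
-/

set_option autoImplicit false
set_option linter.unusedSectionVars false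
set_option linter.style.haveILetI false

namespace Cfsg.Agent.SDKeystone.Budget

open Subgroup Cfsg Cfsg.Agent.Char Cfsg.Agent.OW
open scoped ComplexConjugate

universe u

attribute [local instance 2000] Fintype.ofFinite

variable {G : Type u} [Group G] [Finite G] {O N B T1 : Subgroup G} {t z s : G} {q : ℕ}

/-- A constituent of the core fixed by `N` and `T1`, under a visible character on which `t` is scalar. -/
def AtBound (F : Frame O N B T1 t z s q) (L : Finset (IrrCharacter (tA O t))) (ψ : G → ℂ) : Prop :=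
  ∃ (θ : IrrCharacter N) (lam : IrrCharacter O), mu O ψ (E lam) ≠ 0 ∧ mu O (E θ) (E lam) ≠ 0 ∧
    (∀ μ, mu O (E θ) (E μ) ≠ 0 → μ = lam) ∧ N ≤ stab F lam ∧ T1 ≤ stab F lam ∧ Vis L θ ∧ wt L θ = deg θ

theorem sum_biUnion_le_nat {α β : Type*} [DecidableEq β] (S : Finset α) (T : α → Finset β) (f : β → ℕ) :
    ∑ x ∈ S.biUnion T, f x ≤ ∑ a ∈ S, ∑ x ∈ T a, f x := by
  classical
  induction S using Finset.induction_on with
  | empty => simp
  | insert a S ha ih =>
    rw [Finset.biUnion_insert, Finset.sum_insert ha]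
    refine le_trans ?_ (Nat.add_le_add_left ih _)
    rw [← Finset.sum_union_inter]
    exact Nat.le_add_right _ _

/-- A character lying over one character of `H` is a multiple of it on `H`. -/
theorem value_of_only {H : Subgroup G} {f : G → ℂ} (hf : IsCh H f) {lam : IrrCharacter H}
    (honly : ∀ μ : IrrCharacter H, mu H f (E μ) ≠ 0 → μ = lam) {x : G} (hx : x ∈ H) :
    f x = (mu H f (E lam) : ℂ) * E lam x := by
  classical
  obtain ⟨c, hc, hcn⟩ := IsCharacter.decompose hf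
  have hmu : ∀ η, (mu H f (E η) : ℂ) = c η := fun η => by
    rw [← mu_spec hf (isCh_E η), ip, rs_E, hcn]
  have h1 := congrFun hc ⟨x, hx⟩
  simp only [Finset.sum_apply, Pi.smul_apply, smul_eq_mul, rs] at h1
  rw [h1, Finset.sum_eq_single lam (fun η _ hne => ?_) (by simp), hmu, E_of_mem _ hx]
  rw [← hmu, show mu H f (E η) = 0 from not_ne_iff.1 fun h => hne (honly η h), Nat.cast_zero, zero_mul]

/-- At the bound `[x, t]` and the elements invisible to the seen character are in the kernel. -/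
theorem AtBound.kernel (F : Frame O N B T1 t z s q) {L : Finset (IrrCharacter (tA O t))} {ψ : G → ℂ}
    (h : AtBound F L ψ) : ∃ lam : IrrCharacter O, mu O ψ (E lam) ≠ 0 ∧ N ≤ stab F lam ∧ T1 ≤ stab F lam ∧
      (∀ x ∈ O, E lam (x * t * x⁻¹ * t⁻¹) = E lam 1) ∧
      ∃ f ∈ L, ∀ x ∈ tA O t, E f x = E f 1 → E lam x = E lam 1 := by
  classical
  obtain ⟨θ, lam, h0, h1, honly, hN, hT, ⟨f, hfL, η, hη, hf⟩, hwt⟩ := h
  refine ⟨lam, h0, hN, hT, ?_⟩
  obtain ⟨hn, hval⟩ := eq_smul_of_coef F hη f hf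
  have hC := cycN F
  rw [wt_eq F hfL ⟨η, hη, hf⟩] at hwt
  have ht := hval 1 (one_mem _)
  rw [one_mul, E_one] at ht
  obtain ⟨n, ρ, hirr, hρ⟩ := η.2
  haveI := hirr
  have hE : ∀ (y : G) (hy : y ∈ tM N t), E η y = ρ.character ⟨y, hy⟩ := fun y hy => by rw [E_of_mem _ hy, hρ]
  have hfin : E η 1 = ((Module.finrank ℂ (Fin n → ℂ) : ℕ) : ℂ) := by
    rw [hE 1 (one_mem _), ← Representation.char_one ρ]; rfl
  have hdeg : (deg θ : ℂ) = ((Module.finrank ℂ (Fin n → ℂ) : ℕ) : ℂ) := by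
    rw [← hfin, hη 1 (one_mem N), E_one]
  obtain ⟨ω, hω⟩ : ∃ ω : ℂ, ρ ⟨t, hC.mem⟩ = ω • LinearMap.id := by
    refine (norm_character_eq_iff ρ _).1 ?_
    rw [← hE, ht, norm_mul, hn, one_mul, Complex.norm_natCast, hwt]
    exact_mod_cast hdeg
  have hmul : ∀ (y : G) (hy : y ∈ tM N t), E η (y * t) = ω * E η y := fun y hy => by
    rw [hE _ (mul_mem hy hC.mem), hE y hy]
    show LinearMap.trace ℂ _ (ρ (⟨y, hy⟩ * ⟨t, hC.mem⟩)) = ω * LinearMap.trace ℂ _ (ρ ⟨y, hy⟩)
    rw [map_mul, hω, Module.End.mul_eq_comp, LinearMap.comp_smul, LinearMap.comp_id, map_smul, smul_eq_mul]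
  have hlam : ∀ y ∈ O, E η y = E η 1 → E lam y = E lam 1 := fun y hy he => by
    have hch := (isCh_E θ).mono F.O_le
    rw [hη y (F.O_le hy), hη 1 (one_mem N), value_of_only hch honly hy, value_of_only hch honly (one_mem O)] at he
    exact mul_left_cancel₀ (Nat.cast_ne_zero.2 h1) he
  have hω0 : ω ≠ 0 := by
    rintro rfl
    have h := hmul 1 (one_mem _)
    rw [one_mul, zero_mul, ht] at h
    rcases mul_eq_zero.1 h with h | h
    · rw [h, norm_zero] at hn; exact zero_ne_one hn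
    · exact (deg_pos f).ne' (Nat.cast_eq_zero.1 h)
  refine ⟨fun x hx => ?_, f, hfL, fun x hx hfx => hlam x (mem_tA.1 hx).1 ?_⟩
  · have htx : x * t * x⁻¹ * t⁻¹ ∈ O := by
      rw [show x * t * x⁻¹ * t⁻¹ = x * (t * x⁻¹ * t⁻¹) by group]
      exact mul_mem hx (F.O_conj (inv_mem hx) t)
    refine hlam _ htx (mul_left_cancel₀ hω0 ?_)
    rw [← hmul _ (hC.le (F.O_le htx)), ← hmul 1 (one_mem _), one_mul, inv_mul_cancel_right]
    exact E_conj η (hC.le (F.O_le hx)) hC.mem
  · refine mul_left_cancel₀ hω0 ?_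
    rw [← hmul x (hC.le (A_le F hx)), ← hmul 1 (one_mem _), one_mul, hval x hx, hfx, ht, E_one]

/-- The overgroup with `t` and `z`. -/
def tK (N : Subgroup G) (t z : G) : Subgroup G := tM N t ⊔ zpowers z

theorem z_notMem (F : Frame O N B T1 t z s q) (hz : z ≠ 1) : z ∉ tM N t := by
  intro h
  have key : ∀ n ∈ N, n * n = 1 → n = 1 := fun n hn h2 => by
    have h3 : (⟨n, hn⟩ : N) ^ 2 = 1 := Subtype.ext (by rw [pow_two]; exact h2)
    have h5 : orderOf (⟨n, hn⟩ : N) = 1 := by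
      have h4 := orderOf_dvd_of_pow_eq_one h3
      rcases (Nat.dvd_prime Nat.prime_two).1 h4 with h6 | h6
      · exact h6
      · exact absurd (F.N_odd.of_dvd_nat (orderOf_dvd_natCard _)) (by rw [h6]; decide)
    exact congrArg Subtype.val (orderOf_eq_one_iff.1 h5)
  obtain ⟨i, hi⟩ := (cycN F).gen z h
  rw [t_pow F] at hi
  split_ifs at hi
  · exact hz (key z (by simpa using hi) F.z_sq)
  · have ht' : t⁻¹ = t := inv_eq_of_mul_eq_one_right F.t_sq
    rw [ht'] at hi
    have hzt : z * t = 1 := key _ hi (by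
      rw [mul_assoc z t, ← mul_assoc t z, F.z_comm t, mul_assoc z t t, F.t_sq, mul_one, F.z_sq])
    have hzt' : z = t := by rw [← mul_inv_eq_one, ht', hzt]
    have h := F.s_conj
    rw [hzt', F.t_sq, mul_inv_eq_one] at h
    exact F.t_notMem (by rw [mul_eq_left.1 h]; exact one_mem N)

theorem cycK (F : Frame O N B T1 t z s q) (hz : z ≠ 1) : Cyc (tM N t) (tK N t z) z 2 := by
  have hn : z ∈ normalizer ((tM N t : Subgroup G) : Set G) := mem_normalizer_iff.2 fun x => by
    rw [← F.z_comm x, mul_inv_cancel_right]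
  refine ⟨le_sup_left, sup_le le_normalizer (zpowers_le.2 hn), le_sup_right (a := tM N t) (mem_zpowers z),
    fun g hg => ?_, fun i => ?_⟩
  · unfold tK at hg
    rw [← SetLike.mem_coe, coe_mul_of_right_le_normalizer_left (tM N t) (zpowers z) (zpowers_le.2 hn)] at hg
    obtain ⟨x, hx, y, hy, rfl⟩ := hg
    obtain ⟨k, rfl⟩ := mem_powers_iff_mem_zpowers.2 hy
    exact ⟨k, by simpa using hx⟩
  · rcases Nat.even_or_odd i with h | h
    · obtain ⟨j, rfl⟩ := h
      rw [← two_mul, pow_mul, pow_two, F.z_sq, one_pow]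
      exact ⟨fun _ => dvd_mul_right _ _, fun _ => one_mem _⟩
    · obtain ⟨j, rfl⟩ := h
      rw [pow_succ, pow_mul, pow_two, F.z_sq, one_pow, one_mul]
      exact ⟨fun h' => absurd h' (z_notMem F hz), fun h' => absurd h' (by omega)⟩

theorem constituent_odd (F : Frame O N B T1 t z s q) (hz : z ≠ 1) {ψ : G → ℂ} (hodd : ∀ x, ψ (z * x) = -ψ x)
    {η : IrrCharacter (tK N t z)} (hη : mu (tK N t z) ψ (E η) ≠ 0) :
    ∀ x ∈ tK N t z, E η (z * x) = -E η x := by
  classical
  have hzK : z ∈ tK N t z := (cycK F hz).mem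
  let zK : tK N t z := ⟨z, hzK⟩
  rcases apply_central_inv η.2 (z := zK) (Subtype.ext F.z_sq) (fun g => Subtype.ext (F.z_comm (g : G))) with h | h
  · exfalso
    apply hη
    have h0 : ip (tK N t z) ψ (E η) = 0 := by
      have e : ip (tK N t z) ψ (E η) = -ip (tK N t z) ψ (E η) := by
        conv_lhs => rw [ip, classInner]
        conv_rhs => rw [ip, classInner, ← mul_neg, ← Finset.sum_neg_distrib]
        congr 1
        refine Fintype.sum_equiv (Equiv.mulLeft zK) _ _ fun k => ?_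
        show rs _ ψ k * conj (rs _ (E η) k) = -(rs _ ψ (zK * k) * conj (rs _ (E η) (zK * k)))
        rw [rs_E, h k, show rs (tK N t z) ψ (zK * k) = -rs (tK N t z) ψ k from hodd (k : G)]
        ring
      linear_combination e / 2
    unfold mu
    rw [h0]
    simp
  · intro x hx
    rw [E_of_mem _ (mul_mem hzK hx), E_of_mem _ hx]
    exact h ⟨x, hx⟩

theorem odd_restrict_irr (F : Frame O N B T1 t z s q) (hz : z ≠ 1) (η : IrrCharacter (tK N t z))
    (hodd : ∀ x ∈ tK N t z, E η (z * x) = -E η x) : IsIrrCharacter (tM N t) (rs (tM N t) (E η)) := by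
  classical
  have hC := cycK F hz
  have h0 : hC.twI 0 η = η := irr_ext fun g hg => by rw [hC.E_twI 0 η hg, Cyc.tw, hC.ch_zero, mul_one]
  have h1 : hC.twI 1 η ≠ η := by
    intro e
    have h := hC.E_twI 1 η hC.mem
    rw [e, Cyc.tw, show hC.ch 1 z = zeta 2 by simpa using hC.ch_pow 1 1,
      IsPrimitiveRoot.eq_neg_one_of_two_right (zeta_prim two_ne_zero)] at h
    have hz1 : E η z = -E η 1 := by simpa using hodd 1 (one_mem _)
    have : E η 1 = 0 := by rw [hz1] at h; linear_combination -h / 2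
    rw [E_one, Nat.cast_eq_zero] at this
    exact (deg_pos η).ne' this
  have hs : mu (tM N t) (E η) (E η) = 1 := by
    rw [hC.mu_eq_sum (isCh_E η) (isCh_E η), Finset.sum_range_succ, Finset.sum_range_one, hC.mu_tw, hC.mu_tw,
      if_pos h0, if_neg h1]
  rw [isIrrCharacter_iff_norm_one ((isCh_E η).mono hC.le)]
  show ip (tM N t) (E η) (E η) = 1
  rw [mu_spec ((isCh_E η).mono hC.le) ((isCh_E η).mono hC.le), hs, Nat.cast_one]

theorem twI_mod (F : Frame O N B T1 t z s q) (j : ℕ) (χ : IrrCharacter (tM N t)) :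
    (cycN F).twI j χ = (cycN F).twI (j % 2) χ :=
  irr_ext fun g hg => by
    rw [(cycN F).E_twI _ _ hg, (cycN F).E_twI _ _ hg, Cyc.tw, Cyc.tw, Cyc.ch, Cyc.ch,
      zeta_congr two_ne_zero ((Nat.mod_modEq j 2).symm.mul_left _)]

/-- Irreducible on a smaller group gives irreducible. -/
theorem isIrr_of_restrict {A K0 : Subgroup G} (hAK : A ≤ K0) {f : G → ℂ} (hf : IsCh K0 f) (lam : IrrCharacter A)
    (h : ∀ x ∈ A, f x = E lam x) : IsIrrCharacter K0 (rs K0 f) := by
  classical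
  obtain ⟨c, hc, hcn⟩ := IsCharacter.decompose hf
  have hmu : ∀ η : IrrCharacter K0, mu K0 f (E η) = c η := fun η => by
    have h := mu_spec hf (isCh_E η)
    rw [ip, rs_E, hcn] at h
    exact_mod_cast h.symm
  have hsum : ∀ μ : IrrCharacter A, ∑ η, c η * mu A (E η) (E μ) = if lam = μ then 1 else 0 := by
    intro μ
    rw [← Finset.sum_congr rfl fun η _ => by rw [← hmu η], ← mu_trans hAK hf μ, mu,
      ip_congr (f' := E lam) (g' := E μ) h fun _ _ => rfl, ← mu, mu_E]
  have hpos : ∀ η, c η ≠ 0 → mu A (E η) (E lam) ≠ 0 := by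
    intro η hη
    obtain ⟨μ, -, hμ⟩ := Finset.exists_ne_zero_of_sum_ne_zero
      (s := Finset.univ) (f := fun μ : IrrCharacter A => mu A (E η) (E μ) * deg μ)
      (by rw [← deg_eq_sum hAK η]; exact (deg_pos η).ne')
    have hμ0 : mu A (E η) (E μ) ≠ 0 := left_ne_zero_of_mul hμ
    suffices lam = μ by rw [this]; exact hμ0
    by_contra hne
    have h1 := hsum μ
    rw [if_neg hne, Finset.sum_eq_zero_iff] at h1
    exact mul_ne_zero hη hμ0 (h1 η (Finset.mem_univ η))
  have hone := hsum lam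
  rw [if_pos rfl] at hone
  obtain ⟨η0, -, hη0⟩ := Finset.exists_ne_zero_of_sum_ne_zero (hone.trans_ne one_ne_zero)
  have hrest : ∀ η, η ≠ η0 → c η = 0 := by
    intro η hne
    by_contra hη
    have h2 : c η0 * mu A (E η0) (E lam) + c η * mu A (E η) (E lam) ≤ 1 := by
      rw [← Finset.sum_pair (Ne.symm hne) (f := fun η => c η * mu A (E η) (E lam)), ← hone]
      exact Finset.sum_le_sum_of_subset (Finset.subset_univ _)
    have := Nat.pos_of_ne_zero hη0
    have := Nat.mul_pos (Nat.pos_of_ne_zero hη) (Nat.pos_of_ne_zero (hpos η hη))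
    omega
  rw [Finset.sum_eq_single η0 (fun η _ hne => by rw [hrest η hne, zero_mul]) (by simp)] at hone
  have hc1 : c η0 = 1 := Nat.eq_one_of_mul_eq_one_right hone
  have e : rs K0 f = (η0 : K0 → ℂ) := by
    rw [hc, Finset.sum_eq_single η0 (fun η _ hne => by simp [hrest η hne]) (by simp), hc1, Nat.cast_one, one_smul]
  rw [e]
  exact η0.2

theorem card_orbit_le (F : Frame O N B T1 t z s q) (lam : IrrCharacter O) (H : Subgroup G)
    [DecidableEq (IrrCharacter O)] :
    (Finset.univ.image fun x : H => cjI (F.O_norm (x : G)) lam).card ≤ (stab F lam).relIndex H := by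
  classical
  set S := (stab F lam).subgroupOf H with hS
  refine le_trans ?_ (le_of_eq (Subgroup.index_eq_card S).symm)
  rw [Nat.card_eq_fintype_card, ← Finset.card_univ (α := H ⧸ S)]
  refine le_trans (Finset.card_le_card fun μ hμ => ?_) (Finset.card_image_le
    (f := fun c : H ⧸ S => cjI (F.O_norm (c.out : G)) lam))
  obtain ⟨x, -, rfl⟩ := Finset.mem_image.1 hμ
  refine Finset.mem_image.2 ⟨QuotientGroup.mk x, Finset.mem_univ _, (cjI_eq_cjI F lam).2 ?_⟩
  have h := QuotientGroup.eq.1 (QuotientGroup.out_eq' (QuotientGroup.mk (s := S) x))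
  exact h

/-- A stabiliser leaving the point stabiliser is transitive. -/
theorem trans_of_not_le (F : Frame O N B T1 t z s q) {S : Subgroup G} (hN : N ≤ S) (hS : ¬ S ≤ B) :
    ∀ x : G, ∃ σ ∈ S, ∃ b ∈ B, x = σ * b := by
  obtain ⟨h, hh, hhB⟩ := SetLike.not_le_iff_exists.1 hS
  intro x
  by_cases hx : x ∈ B
  · exact ⟨1, one_mem S, x, hx, (one_mul x).symm⟩
  obtain ⟨n, hn, b, hb, rfl⟩ := F.cover x hx
  obtain ⟨n', hn', b', hb', rfl⟩ := F.cover h hhB
  refine ⟨n * n'⁻¹ * (n' * s * b'), mul_mem (mul_mem (hN hn) (inv_mem (hN hn'))) hh, b'⁻¹ * b,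
    mul_mem (inv_mem hb') hb, ?_⟩
  group

/-- One constituent of `ψ` over a character of the core with transitive stabiliser. -/
theorem proj_bound (F : Frame O N B T1 t z s q) (hz : z ≠ 1) {θ : IrrCharacter N} {lam : IrrCharacter O}
    (hθO : ∀ x ∈ O, E θ x = E lam x) (hN : N ≤ stab F lam) (hStB : ¬ stab F lam ≤ B)
    (hθfix : ∀ c ∈ centralizer ({t} : Set G), c ∈ stab F lam → ∀ x ∈ N, E θ (c * x * c⁻¹) = E θ x)
    {ψ : G → ℂ} (hψ : IsCharacter G ψ) (η : IrrCharacter (tK N t z))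
    (hηz : ∀ x ∈ tK N t z, E η (z * x) = -E η x) (hηN : ∀ k ∈ N, E η k = E θ k) (hηt : E η t ≠ 0) :
    (q + 1) * (stab F lam).index * (deg θ * mu (tK N t z) ψ (E η)) ≤ charDegree ψ := by
  classical
  have hCN := cycN F
  have hCK := cycK F hz
  set St := stab F lam with hSt
  have hNK : N ≤ (tK N t z) := hCN.le.trans hCK.le
  have hsz : ∀ x : G, x * z * x⁻¹ = z := fun x => by rw [F.z_comm x, mul_inv_cancel_right]
  have htr := trans_of_not_le F hN hStB
  -- a swap inside the stabiliser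
  obtain ⟨σ, c0, hσS, hc0, hσc⟩ : ∃ σ c, σ ∈ St ∧ c ∈ centralizer ({t} : Set G) ∧ s = σ * c := by
    obtain ⟨σ0, hσ0, b, hb, e⟩ := htr s
    obtain ⟨n, hn, c, hc, rfl⟩ := F.B_eq b hb
    exact ⟨σ0 * n, c, mul_mem hσ0 (hN hn), hc, by rw [e, mul_assoc]⟩
  have hσB : σ ∉ B := fun h => F.s_notMem (by rw [hσc]; exact mul_mem h (F.cent_le hc0))
  have hσt : σ * t * σ⁻¹ = t * z := by
    rw [← F.s_conj, hσc, mul_inv_rev, show σ * c0 * t * (c0⁻¹ * σ⁻¹) = σ * (c0 * t * c0⁻¹) * σ⁻¹ by group,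
      (commute_of_cent hc0).eq, mul_inv_cancel_right]
  have hσt' : σ⁻¹ * t * σ = t * z := by
    have h2 : σ⁻¹ * (t * z) * σ = t := by rw [← hσt]; group
    have h3 : σ⁻¹ * (t * z) * σ = σ⁻¹ * t * σ * z := by
      rw [mul_assoc _ σ z, F.z_comm σ]; simp only [mul_assoc]
    rw [h3] at h2
    calc σ⁻¹ * t * σ = σ⁻¹ * t * σ * (z * z) := by rw [F.z_sq, mul_one]
      _ = t * z := by rw [← mul_assoc, h2]
  set K0 : Subgroup G := O ⊔ zpowers t ⊔ zpowers z with hK0
  have hOK0 : O ≤ K0 := le_sup_left.trans le_sup_left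
  have htK0 : t ∈ K0 := (le_sup_right.trans le_sup_left : zpowers t ≤ K0) (mem_zpowers t)
  have hzK0 : z ∈ K0 := (le_sup_right : zpowers z ≤ K0) (mem_zpowers z)
  have hK0K : K0 ≤ (tK N t z) := sup_le_sup_right (sup_le_sup_right F.O_le _) _
  have hηO : ∀ x ∈ O, E η x = E lam x := fun x hx => (hηN x (F.O_le hx)).trans (hθO x hx)
  let φ : IrrCharacter K0 := ⟨_, isIrr_of_restrict hOK0 ((isCh_E η).mono hK0K) lam hηO⟩
  have hφ : ∀ g ∈ K0, E η g = E φ g := fun g hg => by rw [E_of_mem φ hg]; rfl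
  have hgen : ∀ x : G, x * t * x⁻¹ ∈ K0 → ∀ y ∈ K0, x * y * x⁻¹ ∈ K0 := by
    intro x ht' y hy
    have hle : K0 ≤ K0.comap (MulAut.conj x).toMonoidHom :=
      sup_le (sup_le (fun w hw => hOK0 (F.O_conj hw x)) (zpowers_le.2 ht'))
        (zpowers_le.2 (show x * z * x⁻¹ ∈ K0 by rw [hsz]; exact hzK0))
    exact hle hy
  have hσN : σ ∈ normalizer (K0 : Set G) := mem_normalizer_iff.2 fun y =>
    ⟨fun hy => hgen σ (by rw [hσt]; exact mul_mem htK0 hzK0) y hy,
      fun hy => by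
        have := hgen σ⁻¹ (by rw [inv_inv, hσt']; exact mul_mem htK0 hzK0) _ hy
        simpa [mul_assoc] using this⟩
  have hTM : ∀ c ∈ centralizer ({t} : Set G), ∀ x ∈ (tK N t z), c * x * c⁻¹ ∈ (tK N t z) := by
    intro c hc x hx
    have hle : (tK N t z) ≤ (tK N t z).comap (MulAut.conj c).toMonoidHom := by
      refine sup_le (sup_le (fun w hw => hCK.le (hCN.le ((mem_normalizer_iff.1 (F.cent_norm hc) w).1 hw))) ?_) ?_
      · refine zpowers_le.2 ?_
        show c * t * c⁻¹ ∈ (tK N t z)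
        rw [(commute_of_cent hc).eq, mul_inv_cancel_right]
        exact hCK.le hCN.mem
      · refine zpowers_le.2 ?_
        show c * z * c⁻¹ ∈ (tK N t z)
        rw [hsz]
        exact hCK.mem
    exact hle hx
  have hTn : ∀ c ∈ centralizer ({t} : Set G), c ∈ normalizer (((tK N t z) : Subgroup G) : Set G) := fun c hc =>
    mem_normalizer_iff.2 fun x => ⟨hTM c hc x, fun hx => by simpa [mul_assoc] using hTM c⁻¹ (inv_mem hc) _ hx⟩
  set B1 := B ⊓ St with hB1
  have hB1eq : ∀ b ∈ B1, ∃ x ∈ N, ∃ c ∈ centralizer ({t} : Set G), c ∈ St ∧ b = x * c := fun b hb => by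
    obtain ⟨x, hx, c, hc, rfl⟩ := F.B_eq b (mem_inf.1 hb).1
    refine ⟨x, hx, c, hc, ?_, rfl⟩
    simpa using mul_mem (inv_mem (hN hx)) (mem_inf.1 hb).2
  have hB : B1 ≤ normalizer (((tK N t z) : Subgroup G) : Set G) := fun b hb => by
    obtain ⟨x, hx, c, hc, -, rfl⟩ := hB1eq b hb
    exact mul_mem (le_normalizer (hNK hx)) (hTn c hc)
  have hηM : IsIrrCharacter (tM N t) (rs (tM N t) (E η)) := odd_restrict_irr F hz η hηz
  let η1 : IrrCharacter (tM N t) := ⟨_, hηM⟩
  have e1 : ∀ x ∈ tM N t, E η1 x = E η x := fun x hx => by rw [E_of_mem _ hx]; rfl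
  have hN1 : ∀ k ∈ N, E η1 k = E θ k := fun k hk => by rw [e1 k (hCN.le hk), hηN k hk]
  have hfixT : ∀ c ∈ centralizer ({t} : Set G), c ∈ St → ∀ x ∈ (tK N t z), E η (c * x * c⁻¹) = E η x := by
    intro c hc hcS
    set η' := cjI (hTn c⁻¹ (inv_mem hc)) η with hη'
    have hval : ∀ x, E η' x = E η (c * x * c⁻¹) := fun x => by rw [hη', E_cjI, inv_inv]
    have hη'z : ∀ x ∈ (tK N t z), E η' (z * x) = -E η' x := fun x hx => by
      rw [hval, hval, show c * (z * x) * c⁻¹ = z * (c * x * c⁻¹) by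
        rw [← mul_assoc c z, F.z_comm c]; simp only [mul_assoc], hηz _ (hTM c hc x hx)]
    let η2 : IrrCharacter (tM N t) := ⟨_, odd_restrict_irr F hz η' hη'z⟩
    have e2 : ∀ x ∈ tM N t, E η2 x = E η' x := fun x hx => by rw [E_of_mem _ hx]; rfl
    have hN2 : ∀ k ∈ N, E η2 k = E θ k := fun k hk => by
      rw [e2 k (hCN.le hk), hval, hηN _ ((mem_normalizer_iff.1 (F.cent_norm hc) k).1 hk), hθfix c hc hcS k hk]
    have hmu : mu N (E η2) (E θ) ≠ 0 := by
      unfold mu
      rw [ip_congr (f' := E θ) (g' := E θ) hN2 (fun _ _ => rfl), ip_E]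
      simp
    obtain ⟨j, hj⟩ := hCN.exists_twist hN1 hmu
    have ht2 : E η2 t = E η t := by
      rw [e2 t hCN.mem, hval, (commute_of_cent hc).eq, mul_inv_cancel_right]
    have hch : hCN.ch j t = 1 := by
      have h := hCN.E_twI j η2 hCN.mem
      rw [hj, Cyc.tw, e1 t hCN.mem, ht2] at h
      exact ((mul_eq_left₀ hηt).1 h.symm)
    have hM : ∀ x ∈ tM N t, E η' x = E η x := by
      intro x hx
      have h := hCN.E_twI j η2 hx
      rw [hj, Cyc.tw, e1 x hx, e2 x hx] at h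
      have hz1 : zeta 2 ^ j = 1 := by simpa using (hCN.ch_pow j 1).symm.trans (by rw [pow_one, hch])
      have : hCN.ch j x = 1 := by rw [Cyc.ch, mul_comm, pow_mul, hz1, one_pow]
      rw [this, mul_one] at h
      exact h.symm
    intro x hx
    rw [← hval]
    obtain ⟨i, hi⟩ := hCK.gen x hx
    rcases Nat.even_or_odd i with he | he
    · obtain ⟨j', rfl⟩ := he
      rw [← two_mul, pow_mul, pow_two, F.z_sq, one_pow, inv_one, mul_one] at hi
      exact hM x hi
    · obtain ⟨j', rfl⟩ := he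
      rw [pow_succ, pow_mul, pow_two, F.z_sq, one_pow, one_mul] at hi
      have hx' : x = z * (x * z⁻¹) := by rw [← F.z_comm, inv_mul_cancel_right]
      rw [hx', hηz _ (hCK.le hi), hη'z _ (hCK.le hi), hM _ hi]
  have hfix : Fix B1 (tK N t z) (E η) := by
    intro b hb x hx
    obtain ⟨w, hw, c, hc, hcS, rfl⟩ := hB1eq b hb
    rw [show w * c * x * (w * c)⁻¹ = w * (c * x * c⁻¹) * w⁻¹ by group, E_conj η (hNK hw) (hTM c hc x hx),
      hfixT c hc hcS x hx]
  -- the projections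
  obtain ⟨n, ρ, hρ⟩ := hψ
  set P := groupSumOp (ρ.comp (tK N t z).subtype) (Perm.Orbital.coef (η : (tK N t z) → ℂ)) with hP
  have hoff : ∀ h : G, h ∉ B1 → P * ρ h * P = 0 := by
    intro h hh
    by_cases hhS : h ∈ St
    · have hhB : h ∉ B := fun hb => hh (mem_inf.2 ⟨hb, hhS⟩)
      obtain ⟨x, hx, b, hb, rfl⟩ := F.cover h hhB
      have hb' : c0 * b ∈ B1 := by
        refine mem_inf.2 ⟨mul_mem (F.cent_le hc0) hb, ?_⟩
        have h1 := mul_mem (mul_mem (inv_mem hσS) (inv_mem (hN hx))) hhS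
        rwa [show σ⁻¹ * x⁻¹ * (x * s * b) = c0 * b by rw [hσc]; group] at h1
      rw [show x * s * b = x * σ * (c0 * b) by rw [hσc]; group]
      exact off_moved (B := B1) hK0K η φ hφ hB hfix hσN ⟨t, htK0, by
        rw [hσt, F.z_comm t, hηz t (hK0K htK0)]
        intro e
        exact hηt (by linear_combination -e / 2)⟩ ρ (mem_inf.2 ⟨F.N_le hx, hN hx⟩) hb'
    · exact off_core hK0K hOK0 η lam hηO ρ (F.O_norm h) hhS
  have hidx : (q + 1) * St.index ≤ B1.index := by
    rw [← relIndex_mul_index (inf_le_right : B1 ≤ St), inf_relIndex_right]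
    refine Nat.mul_le_mul_right _ ?_
    rw [← F.index_B, Subgroup.relIndex, Subgroup.index_eq_card, Subgroup.index_eq_card]
    refine Nat.card_le_card_of_surjective
      (Quotient.map' (fun x : St => (x : G)) fun a b hab => ?_) fun c => ?_
    · rw [QuotientGroup.leftRel_apply] at hab ⊢
      exact hab
    · induction c using QuotientGroup.induction_on with
      | H x =>
        obtain ⟨σ', hσ', b, hb, rfl⟩ := htr x
        refine ⟨QuotientGroup.mk ⟨σ', hσ'⟩, ?_⟩
        show QuotientGroup.mk σ' = QuotientGroup.mk (σ' * b)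
        exact QuotientGroup.eq.2 (by simpa using hb)
  have hdeg : deg η = deg θ := by
    have := hηN 1 (one_mem N)
    rw [E_one, E_one] at this
    exact_mod_cast this
  have h := index_mul_of_off B1 η ρ hoff
  rw [hρ, hdeg] at h
  exact (Nat.mul_le_mul_right _ hidx).trans h

/-- The visible degrees over the characters of a transitive orbit. -/
theorem invariant_bound (F : Frame O N B T1 t z s q) (hz : z ≠ 1) (hsq : ∀ a : ℕ, a * a ≠ q)
    {L : Finset (IrrCharacter (tA O t))}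
    (hinv : ∀ f ∈ L, Fix T1 (tA O t) (E f)) {ψ : G → ℂ} (hψ : IsCharacter G ψ)
    (hodd : ∀ x, ψ (z * x) = -ψ x) {lam : IrrCharacter O} (hN : N ≤ stab F lam) (hStB : ¬ stab F lam ≤ B)
    {θ : IrrCharacter N} (hv : Vis L θ) (h0 : mu O (E θ) (E lam) ≠ 0) :
    (∀ θ', Vis L θ' → mu O (E θ') (E lam) ≠ 0 → θ' = θ) ∧
      (q + 1) * (stab F lam).index * (mu N ψ (E θ) * deg θ) ≤ 2 * charDegree ψ := by
  classical
  have hCN := cycN F
  have hCK := cycK F hz
  have hfixθ := hv.fixed F hinv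
  obtain ⟨hT, honly⟩ : T1 ≤ stab F lam ∧ ∀ μ, mu O (E θ) (E μ) ≠ 0 → μ = lam := by
    rcases core_cases F hfixθ h0 with h | h
    · exfalso
      have hle : N ≤ O := fun x hx => h x hx (hN hx)
      have hcard := Nat.le_of_dvd Nat.card_pos (card_dvd_of_le hle)
      rw [F.card_N] at hcard
      nlinarith [F.three_le, Nat.card_pos (α := O)]
    · exact h.2
  obtain ⟨-, -, hθO⟩ := restrict_irr F hsq hfixθ h0 honly
  have huniq : ∀ θ', Vis L θ' → mu O (E θ') (E lam) ≠ 0 → θ' = θ := fun θ' hv' h' =>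
    t_fixed_unique F hsq hfixθ h0 honly (hv'.fixed F hinv t F.t_mem_T1) h'
  have hθfix : ∀ c ∈ centralizer ({t} : Set G), c ∈ stab F lam → ∀ x ∈ N, E θ (c * x * c⁻¹) = E θ x := by
    intro c hc hcS
    have hcN : c ∈ normalizer (N : Set G) := F.cent_norm hc
    refine (cjI_eq_iff hcN θ).1 (t_fixed_unique F hsq hfixθ h0 honly (fun x hx => ?_) ?_)
    · rw [E_cjI, E_cjI, ← hfixθ t F.t_mem_T1 (c⁻¹ * x * c)
        (by simpa using (mem_normalizer_iff.1 (inv_mem hcN) x).1 hx)]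
      congr 1
      rw [show c⁻¹ * (t * x * t⁻¹) * c = (c⁻¹ * t * c) * (c⁻¹ * x * c) * (c⁻¹ * t * c)⁻¹ by group,
        show c⁻¹ * t * c = t by rw [mul_assoc, ← (commute_of_cent hc).eq, inv_mul_cancel_left]]
    · have h := mu_cjI (F.O_norm c) hcN θ lam
      rw [show cjI (F.O_norm c) lam = lam from hcS] at h
      rw [h]
      exact h0
  refine ⟨huniq, ?_⟩
  obtain ⟨f, hfL, η0, hη0, hf0⟩ := hv
  obtain ⟨-, hval0⟩ := eq_smul_of_coef F hη0 f hf0
  have hη0t : E η0 t ≠ 0 := by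
    have h := hval0 1 (one_mem _)
    rw [one_mul, E_one] at h
    rw [h]
    exact mul_ne_zero hf0 (Nat.cast_ne_zero.2 (deg_pos f).ne')
  have hψK : IsCh (tK N t z) ψ := IsCharacter.restrict hψ _
  set S := Finset.univ.filter fun η : IrrCharacter (tK N t z) =>
    mu (tK N t z) ψ (E η) * mu N (E η) (E θ) ≠ 0 with hS
  have hinfo : ∀ η ∈ S, (∀ x ∈ tK N t z, E η (z * x) = -E η x) ∧
      ∃ j < 2, ∀ x ∈ tM N t, E η x = E (hCN.twI j η0) x := by
    intro η hη
    have hη' := (Finset.mem_filter.1 hη).2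
    have hz' := constituent_odd F hz hodd (left_ne_zero_of_mul hη')
    refine ⟨hz', ?_⟩
    let η1 : IrrCharacter (tM N t) := ⟨_, odd_restrict_irr F hz η hz'⟩
    have e1 : ∀ x ∈ tM N t, E η1 x = E η x := fun x hx => by rw [E_of_mem _ hx]; rfl
    have hmu : mu N (E η1) (E θ) ≠ 0 := by
      unfold mu
      rw [ip_congr (f' := E η) (g' := E θ) (fun x hx => e1 x (hCN.le hx)) fun _ _ => rfl]
      exact right_ne_zero_of_mul hη'
    obtain ⟨j, hj⟩ := hCN.exists_twist hη0 hmu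
    refine ⟨j % 2, Nat.mod_lt _ two_pos, fun x hx => ?_⟩
    rw [← twI_mod F, hCN.E_twI _ _ hx, Cyc.tw]
    have h := hCN.E_twI j η1 hx
    rw [hj, Cyc.tw, e1 x hx] at h
    have hsq' : hCN.ch j x * hCN.ch j x = 1 := by
      rw [Cyc.ch, ← pow_add, ← two_mul, pow_mul, (zeta_prim two_ne_zero).pow_eq_one, one_pow]
    rw [h, mul_assoc, hsq', mul_one]
  have hNval : ∀ η ∈ S, (∀ k ∈ N, E η k = E θ k) ∧ E η t ≠ 0 := by
    intro η hη
    obtain ⟨-, j, -, hj⟩ := hinfo η hη
    refine ⟨fun k hk => ?_, ?_⟩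
    · rw [hj k (hCN.le hk), hCN.E_twI _ _ (hCN.le hk), Cyc.tw, hCN.ch_of_mem _ hk, mul_one, hη0 k hk]
    · rw [hj t hCN.mem, hCN.E_twI _ _ hCN.mem, Cyc.tw]
      refine mul_ne_zero hη0t fun h => ?_
      have := hCN.ch_norm j t
      rw [h, zero_mul] at this
      exact zero_ne_one this
  have hcard : S.card ≤ 2 := by
    choose! jf hjlt hjf using fun η hη => (hinfo η hη).2
    rw [← Finset.card_range 2]
    refine Finset.card_le_card_of_injOn jf (fun η hη => Finset.mem_range.2 (hjlt η hη)) ?_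
    intro a ha b hb hab
    have hM : ∀ x ∈ tM N t, E a x = E b x := fun x hx => by rw [hjf a ha x hx, hjf b hb x hx, hab]
    refine irr_ext fun x hx => ?_
    obtain ⟨i, hi⟩ := hCK.gen x hx
    rcases Nat.even_or_odd i with he | he
    · obtain ⟨j', rfl⟩ := he
      rw [← two_mul, pow_mul, pow_two, F.z_sq, one_pow, inv_one, mul_one] at hi
      exact hM x hi
    · obtain ⟨j', rfl⟩ := he
      rw [pow_succ, pow_mul, pow_two, F.z_sq, one_pow, one_mul] at hi
      have hx' : x = z * (x * z⁻¹) := by rw [← F.z_comm, inv_mul_cancel_right]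
      rw [hx', (hinfo a ha).1 _ (hCK.le hi), (hinfo b hb).1 _ (hCK.le hi), hM _ hi]
  have hmu1 : ∀ η ∈ S, mu N (E η) (E θ) = 1 := fun η hη => by
    unfold mu
    rw [ip_congr (f' := E θ) (g' := E θ) (hNval η hη).1 (fun _ _ => rfl), ip_E]
    simp
  have hsum : mu N ψ (E θ) = ∑ η ∈ S, mu (tK N t z) ψ (E η) := by
    rw [mu_trans (hCN.le.trans hCK.le) hψK θ, ← Finset.sum_filter_ne_zero]
    exact Finset.sum_congr rfl fun η hη => by rw [hmu1 η hη, mul_one]
  calc (q + 1) * (stab F lam).index * (mu N ψ (E θ) * deg θ)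
      = ∑ η ∈ S, (q + 1) * (stab F lam).index * (deg θ * mu (tK N t z) ψ (E η)) := by
        rw [hsum, Finset.sum_mul, Finset.mul_sum]
        exact Finset.sum_congr rfl fun η _ => by ring
    _ ≤ S.card • charDegree ψ := Finset.sum_le_card_nsmul _ _ _ fun η hη =>
        proj_bound F hz hθO hN hStB hθfix hψ η (hinfo η hη).1 (hNval η hη).1 (hNval η hη).2
    _ ≤ 2 * charDegree ψ := by rw [smul_eq_mul]; exact Nat.mul_le_mul_right _ hcard

theorem horbit_of (F : Frame O N B T1 t z s q) (ψ : IrrCharacter G) {lam μ : IrrCharacter O}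
    (hlam : mu O (ψ : G → ℂ) (E lam) ≠ 0) (hμ : mu O (ψ : G → ℂ) (E μ) ≠ 0) :
    ∃ x : G, cjI (F.O_norm x) lam = μ := by
  classical
  haveI := F.O_normal
  have hψO : IsCh O (ψ : G → ℂ) := IsCharacter.restrict (IsIrrCharacter.isCharacter ψ.2) O
  have hcl : ∀ κ : IrrCharacter O, mu O (ψ : G → ℂ) (E κ) ≠ 0 →
      classInner (fun n : O => (ψ : G → ℂ) n) (κ : O → ℂ) ≠ 0 := fun κ hκ => by
    have h := mu_spec hψO (isCh_E κ)
    rw [ip, rs_E] at h
    change classInner (fun n : O => (ψ : G → ℂ) n) (κ : O → ℂ) = _ at h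
    rw [h]
    exact_mod_cast hκ
  obtain ⟨x, hx⟩ := CliffordChar.constituents_conjugate O ψ.2 lam.2 μ.2 (hcl _ hlam) (hcl μ hμ)
  refine ⟨x, irr_ext fun g hg => ?_⟩
  have h := congrFun hx ⟨g, hg⟩
  rw [CliffordChar.conjFun_apply] at h
  rw [E_cjI, E_of_mem lam (by simpa using F.O_conj hg x⁻¹), E_of_mem μ hg]
  exact h

/-- Each character negated by `z` pays for what is seen. -/
theorem case_bound (F : Frame O N B T1 t z s q) (hsq : ∀ a : ℕ, a * a ≠ q)
    {L : Finset (IrrCharacter (tA O t))}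
    (hinv : ∀ f ∈ L, Fix T1 (tA O t) (E f)) (ψ : IrrCharacter G)
    (hodd : ∀ x, (ψ : G → ℂ) (z * x) = -(ψ : G → ℂ) x) :
    (q + 1) * vis N L (ψ : G → ℂ) ≤ 2 * charDegree (ψ : G → ℂ) ∧
      ((q + 1) * vis N L (ψ : G → ℂ) = 2 * charDegree (ψ : G → ℂ) → AtBound F L (ψ : G → ℂ)) := by
  classical
  have hψ : IsCharacter G (ψ : G → ℂ) := IsIrrCharacter.isCharacter ψ.2
  have hψ1 : (ψ : G → ℂ) 1 ≠ 0 := IsIrrCharacter.apply_one_ne_zero ψ.2
  have hψd : 0 < charDegree (ψ : G → ℂ) := by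
    obtain ⟨d, hd⟩ := IsCharacter.exists_degree hψ
    rw [charDegree, hd, Complex.natCast_re, Nat.floor_natCast]
    refine Nat.pos_of_ne_zero fun e => hψ1 ?_
    rw [hd, e, Nat.cast_zero]
  have hz : z ≠ 1 := by
    rintro rfl
    exact hψ1 (by have := hodd 1; simp only [one_mul] at this; linear_combination this / 2)
  have hq := F.three_le
  have hψN : IsCh N (ψ : G → ℂ) := IsCharacter.restrict hψ N
  set D := charDegree (ψ : G → ℂ) with hD
  set m : IrrCharacter N → ℕ := fun θ => mu N (ψ : G → ℂ) (E θ) with hm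
  have hvisdef : vis N L (ψ : G → ℂ) = ∑ θ, m θ * wt L θ := rfl
  have hDN : D = ∑ θ, m θ * deg θ := degree_sum N hψ
  by_cases hbig : ∀ θ, m θ ≠ 0 → q * wt L θ ≤ deg θ
  · have h1 : q * vis N L (ψ : G → ℂ) ≤ D := by
      rw [hvisdef, hDN, Finset.mul_sum]
      refine Finset.sum_le_sum fun θ _ => ?_
      by_cases h0 : m θ = 0
      · simp [h0]
      · calc q * (m θ * wt L θ) = m θ * (q * wt L θ) := by ring
          _ ≤ m θ * deg θ := Nat.mul_le_mul_left _ (hbig θ h0)
    have hlt : (q + 1) * vis N L (ψ : G → ℂ) < 2 * D := by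
      refine Nat.lt_of_mul_lt_mul_left (a := q) ?_
      calc q * ((q + 1) * vis N L (ψ : G → ℂ)) = (q + 1) * (q * vis N L (ψ : G → ℂ)) := by ring
        _ ≤ (q + 1) * D := Nat.mul_le_mul_left _ h1
        _ < q * (2 * D) := by nlinarith
    exact ⟨hlt.le, fun h => absurd h hlt.ne⟩
  push Not at hbig
  obtain ⟨θ, hmθ, hθbig⟩ := hbig
  have hv : Vis L θ := by
    by_contra h
    rw [wt_eq_zero h] at hθbig
    omega
  obtain ⟨lam, h0⟩ := exists_core_constituent F θ
  obtain ⟨hN, hT, honly⟩ := (core_cases F (hv.fixed F hinv) h0).resolve_left fun h =>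
    absurd (wt_big F L h0 h) (not_le.2 hθbig)
  have hψO : IsCh O (ψ : G → ℂ) := IsCharacter.restrict hψ O
  have hover : ∀ (θ' : IrrCharacter N) (μ : IrrCharacter O), m θ' ≠ 0 → mu O (E θ') (E μ) ≠ 0 → mu O (ψ : G → ℂ) (E μ) ≠ 0 := by
    intro θ' μ h1 h2
    rw [mu_trans F.O_le hψN μ]
    intro e
    exact mul_ne_zero h1 h2 (Finset.sum_eq_zero_iff.1 e θ' (Finset.mem_univ _))
  have hlamψ := hover θ lam hmθ h0
  have hat : wt L θ = deg θ → AtBound F L (ψ : G → ℂ) := fun h => ⟨θ, lam, hlamψ, h0, honly, hN, hT, hv, h⟩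
  set I := Finset.univ.image fun x : (⊤ : Subgroup G) => cjI (F.O_norm (x : G)) lam with hI
  have hmemI : ∀ μ, mu O (ψ : G → ℂ) (E μ) ≠ 0 → μ ∈ I := fun μ hμ => by
    obtain ⟨x, rfl⟩ := horbit_of F ψ hlamψ hμ
    exact Finset.mem_image.2 ⟨⟨x, mem_top x⟩, Finset.mem_univ _, rfl⟩
  have hIle : ∀ μ ∈ I, I.card ≤ (stab F μ).index := by
    intro μ hμ
    obtain ⟨y, -, rfl⟩ := Finset.mem_image.1 hμ
    rw [← relIndex_top_right (stab F (cjI (F.O_norm (y : G)) lam))]
    refine le_trans (Finset.card_le_card fun κ hκ => ?_) (card_orbit_le F _ _)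
    obtain ⟨x, -, rfl⟩ := Finset.mem_image.1 hκ
    refine Finset.mem_image.2 ⟨⟨(x : G) * (y : G)⁻¹, mem_top _⟩, Finset.mem_univ _, ?_⟩
    rw [← cjI_mul F]
    exact irr_ext fun g _ => by rw [E_cjI, E_cjI]; congr 1; group
  by_cases hStB : stab F lam ≤ B
  · -- the orbit of a point stabiliser
    set x0 := mu O (ψ : G → ℂ) (E lam) * deg lam with hx0
    set I0 := Finset.univ.image fun x : B => cjI (F.O_norm (x : G)) lam with hI0
    set part : IrrCharacter N → ℕ := fun θ' => ∑ μ ∈ I0, mu O (E θ') (E μ) * deg μ with hpart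
    have hval : ∀ μ ∈ I, mu O (ψ : G → ℂ) (E μ) * deg μ = x0 := fun μ hμ => by
      obtain ⟨x, -, rfl⟩ := Finset.mem_image.1 hμ
      rw [mu_conj _ (fun h _ => by
        have := IsIrrCharacter.isClassFunction ψ.2 h (x : G)⁻¹
        rwa [inv_inv] at this) lam, deg_cjI, hx0]
    have hsub : I0 ⊆ I := fun μ hμ => by
      obtain ⟨x, -, rfl⟩ := Finset.mem_image.1 hμ
      exact Finset.mem_image.2 ⟨⟨x, mem_top _⟩, Finset.mem_univ _, rfl⟩
    have hcard : (q + 1) * I0.card ≤ I.card := by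
      refine le_trans (Nat.mul_le_mul_left _ (card_orbit_le F lam B)) ?_
      have h1 : Nat.card (⊤ : Subgroup G) = (stab F lam).index * Nat.card (stab F lam) := by
        rw [card_top, ← (stab F lam).card_mul_index, mul_comm]
      refine le_trans (le_of_eq ?_) (card_conjugates F lam (H := ⊤) (fun x _ hx => hx) h1)
      rw [← relIndex_mul_index hStB, F.index_B, mul_comm]
    have hA : ∑ θ', m θ' * part θ' = I0.card * x0 := by
      calc ∑ θ', m θ' * part θ' = ∑ μ ∈ I0, mu O (ψ : G → ℂ) (E μ) * deg μ := by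
            simp only [hpart, hm, Finset.mul_sum]
            rw [Finset.sum_comm]
            refine Finset.sum_congr rfl fun μ _ => ?_
            rw [mu_trans F.O_le hψN μ, Finset.sum_mul]
            exact Finset.sum_congr rfl fun _ _ => by ring
        _ = I0.card * x0 := by
            rw [Finset.sum_congr rfl fun μ hμ => hval μ (hsub hμ), Finset.sum_const, smul_eq_mul]
    have hDlow : (q + 1) * (I0.card * x0) ≤ D := by
      rw [← mul_assoc, hD, degree_sum O hψ]
      refine le_trans (Nat.mul_le_mul_right _ hcard) (le_trans (le_of_eq ?_)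
        (Finset.sum_le_sum_of_subset (Finset.subset_univ I)))
      rw [Finset.sum_congr rfl hval, Finset.sum_const, smul_eq_mul]
    have hterm : ∀ θ', q * (m θ' * wt L θ') + m θ' * part θ' ≤ q * (m θ' * part θ') + m θ' * deg θ' := by
      intro θ'
      by_cases hm0 : m θ' = 0
      · simp [hm0]
      obtain ⟨μ, hμ⟩ := exists_core_constituent F θ'
      obtain ⟨x, hxμ⟩ := horbit_of F ψ hlamψ (hover θ' μ hm0 hμ)
      by_cases hex : ∃ κ ∈ I0, mu O (E θ') (E κ) ≠ 0
      · obtain ⟨κ, hκ, hκ0⟩ := hex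
        have hall : part θ' = deg θ' := by
          rw [hpart, deg_eq_sum F.O_le θ']
          refine Finset.sum_subset (Finset.subset_univ _) fun ν _ hν => ?_
          by_contra h
          obtain ⟨y, hy, rfl⟩ := conj_in_N F θ' hκ0 (left_ne_zero_of_mul h)
          obtain ⟨b, -, rfl⟩ := Finset.mem_image.1 hκ
          exact hν (Finset.mem_image.2 ⟨⟨y * b, mul_mem (F.N_le hy) b.2⟩, Finset.mem_univ _, cjI_mul F _ _ _⟩)
        rw [hall]
        exact Nat.add_le_add_right (Nat.mul_le_mul_left _ (Nat.mul_le_mul_left _ (wt_le_deg F L θ'))) _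
      · push Not at hex
        have hz0 : part θ' = 0 := Finset.sum_eq_zero fun κ hκ => by rw [hex κ hκ, zero_mul]
        have hxB : x ∉ B := fun hx => hμ (hex μ (Finset.mem_image.2 ⟨⟨x, hx⟩, Finset.mem_univ _, hxμ⟩))
        have hb : ∀ y ∈ N, y ∈ stab F μ → y ∈ O := fun y hy hys => by
          rw [mem_stab, ← hxμ, ← cjI_mul F, cjI_eq_cjI F] at hys
          refine F.free y hy x hxB ?_
          have h1 := hStB (inv_mem hys)
          rwa [show ((y * x)⁻¹ * x)⁻¹ = x⁻¹ * y * x by group] at h1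
        rw [hz0, mul_zero, mul_zero, add_zero, zero_add, mul_left_comm]
        exact Nat.mul_le_mul_left _ (wt_big F L hμ hb)
    have hsum : q * vis N L (ψ : G → ℂ) + I0.card * x0 ≤ q * (I0.card * x0) + D := by
      rw [← hA, hvisdef, hDN, Finset.mul_sum, Finset.mul_sum, ← Finset.sum_add_distrib, ← Finset.sum_add_distrib]
      exact Finset.sum_le_sum fun θ' _ => hterm θ'
    set V := vis N L (ψ : G → ℂ) with hV
    set A := I0.card * x0 with hAdef
    obtain ⟨p, hp⟩ : ∃ p, q = p + 1 := ⟨q - 1, by omega⟩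
    have e1 : (q + 1) * (q * V) ≤ (q + 1) * (p * A + D) := by
      refine Nat.mul_le_mul_left _ (Nat.le_of_add_le_add_right (b := A) (hsum.trans_eq ?_))
      rw [hp]; ring
    have e2 : p * ((q + 1) * A) ≤ p * D := Nat.mul_le_mul_left _ hDlow
    have e3 : (q + 1) * (q * V) ≤ q * (2 * D) := by
      calc (q + 1) * (q * V) ≤ p * ((q + 1) * A) + (q + 1) * D := e1.trans_eq (by ring)
        _ ≤ p * D + (q + 1) * D := Nat.add_le_add_right e2 _
        _ = q * (2 * D) := by rw [hp]; ring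
    refine ⟨Nat.le_of_mul_le_mul_left (by linarith [e3] : q * ((q + 1) * V) ≤ q * (2 * D)) (by omega),
      fun heq => hat ?_⟩
    -- equality forces equality in every term
    have e4 : q * V + A = q * A + D := by
      refine le_antisymm hsum (Nat.le_of_mul_le_mul_left ?_ (Nat.succ_pos q))
      calc (q + 1) * (q * A + D) = q * ((q + 1) * A) + (q + 1) * D := by ring
        _ = p * ((q + 1) * A) + (q + 1) * A + (q + 1) * D := by rw [hp]; ring
        _ ≤ p * D + (q + 1) * A + (q + 1) * D := Nat.add_le_add_right (Nat.add_le_add_right e2 _) _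
        _ = q * (2 * D) + (q + 1) * A := by rw [hp]; ring
        _ = (q + 1) * (q * V + A) := by rw [← heq]; ring
    rw [← hA, hvisdef, hDN, Finset.mul_sum, Finset.mul_sum, ← Finset.sum_add_distrib,
      ← Finset.sum_add_distrib] at e4
    have h1 := (Finset.sum_eq_sum_iff_of_le fun θ' _ => hterm θ').1 e4 θ (Finset.mem_univ _)
    have hall : part θ = deg θ := by
      rw [hpart, deg_eq_sum F.O_le θ]
      refine Finset.sum_subset (Finset.subset_univ _) fun ν _ hν => ?_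
      by_contra h
      obtain rfl := honly ν (left_ne_zero_of_mul h)
      exact hν (Finset.mem_image.2 ⟨1, Finset.mem_univ _, irr_ext fun g _ => by rw [E_cjI]; simp⟩)
    rw [hall] at h1
    exact Nat.eq_of_mul_eq_mul_left (Nat.pos_of_ne_zero hmθ)
      (Nat.eq_of_mul_eq_mul_left (by omega) (Nat.add_right_cancel h1))
  · -- a transitive orbit
    have htr := trans_of_not_le F hN hStB
    set vis' := ∑ θ' ∈ Finset.univ.filter (fun θ' : IrrCharacter N => Vis L θ'), m θ' * deg θ' with hvis'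
    have hv1 : vis N L (ψ : G → ℂ) = ∑ θ' ∈ Finset.univ.filter (fun θ' : IrrCharacter N => Vis L θ'), m θ' * wt L θ' := by
      rw [hvisdef]
      refine (Finset.sum_filter_of_ne fun θ' _ hne => ?_).symm
      by_contra h
      exact hne (by rw [wt_eq_zero h, mul_zero])
    have hle : vis N L (ψ : G → ℂ) ≤ vis' := by
      rw [hv1]
      exact Finset.sum_le_sum fun θ' _ => Nat.mul_le_mul_left _ (wt_le_deg F L θ')
    set T : IrrCharacter O → Finset (IrrCharacter N) := fun μ =>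
      Finset.univ.filter fun θ' => Vis L θ' ∧ m θ' ≠ 0 ∧ mu O (E θ') (E μ) ≠ 0 with hTdef
    have hμ1 : ∀ μ ∈ I, (q + 1) * I.card * ∑ θ' ∈ T μ, m θ' * deg θ' ≤ 2 * D := by
      intro μ hμ
      rcases (T μ).eq_empty_or_nonempty with hTe | ⟨θ1, hθ1⟩
      · simp [hTe]
      obtain ⟨hv', -, hθμ⟩ := (Finset.mem_filter.1 hθ1).2
      obtain ⟨y, -, rfl⟩ := Finset.mem_image.1 hμ
      obtain ⟨σ, hσ, b, hb, hy⟩ := htr (y : G)⁻¹
      have hy' : (y : G) = b⁻¹ * σ⁻¹ := by rw [← mul_inv_rev, ← hy, inv_inv]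
      have hμeq : cjI (F.O_norm (y : G)) lam = cjI (F.O_norm b⁻¹) lam := by
        rw [cjI_eq_cjI F, hy']
        simpa [mul_assoc] using hσ
      have hNμ : N ≤ stab F (cjI (F.O_norm (y : G)) lam) := fun n hn => by
        rw [mem_stab, hμeq, ← cjI_mul F, cjI_eq_cjI F]
        have h1 := inv_mem (hN (F.N_conj hn hb))
        rwa [show (b * n * b⁻¹)⁻¹ = (n * b⁻¹)⁻¹ * b⁻¹ by group] at h1
      have hnB : ¬ stab F (cjI (F.O_norm (y : G)) lam) ≤ B := by
        intro hle'
        refine hStB fun w hw => ?_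
        have h1 : b⁻¹ * w * b ∈ stab F (cjI (F.O_norm (y : G)) lam) := by
          rw [mem_stab, hμeq, ← cjI_mul F, cjI_eq_cjI F]
          have h2 := inv_mem hw
          rwa [show w⁻¹ = (b⁻¹ * w * b * b⁻¹)⁻¹ * b⁻¹ by group] at h2
        simpa [mul_assoc] using mul_mem (mul_mem hb (hle' h1)) (inv_mem hb)
      obtain ⟨huniq, hb2⟩ := invariant_bound F hz hsq hinv hψ hodd hNμ hnB hv' hθμ
      rw [Finset.sum_eq_single_of_mem θ1 hθ1 fun θ2 h2 hne =>
        absurd (huniq θ2 (Finset.mem_filter.1 h2).2.1 (Finset.mem_filter.1 h2).2.2.2) hne]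
      exact (Nat.mul_le_mul_right _ (Nat.mul_le_mul_left _ (hIle _ hμ))).trans hb2
    have hcov : vis' ≤ ∑ μ ∈ I, ∑ θ' ∈ T μ, m θ' * deg θ' := by
      rw [hvis', ← Finset.sum_filter_ne_zero]
      refine le_trans (Finset.sum_le_sum_of_subset (t := I.biUnion T) fun θ' hθ' => ?_) ?_
      · obtain ⟨h1, h2⟩ := Finset.mem_filter.1 hθ'
        obtain ⟨μ, hμ⟩ := exists_core_constituent F θ'
        exact Finset.mem_biUnion.2 ⟨μ, hmemI μ (hover θ' μ (left_ne_zero_of_mul h2) hμ),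
          Finset.mem_filter.2 ⟨Finset.mem_univ _, (Finset.mem_filter.1 h1).2, left_ne_zero_of_mul h2, hμ⟩⟩
      · exact sum_biUnion_le_nat _ _ _
    have hJ : 0 < I.card := Finset.card_pos.2 ⟨lam, hmemI lam hlamψ⟩
    have hb : (q + 1) * vis' ≤ 2 * D := by
      refine Nat.le_of_mul_le_mul_left ?_ hJ
      calc I.card * ((q + 1) * vis') ≤ I.card * ((q + 1) * ∑ μ ∈ I, ∑ θ' ∈ T μ, m θ' * deg θ') :=
            Nat.mul_le_mul_left _ (Nat.mul_le_mul_left _ hcov)
        _ = ∑ μ ∈ I, (q + 1) * I.card * ∑ θ' ∈ T μ, m θ' * deg θ' := by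
            rw [← Finset.mul_sum]; ring
        _ ≤ I.card • (2 * D) := Finset.sum_le_card_nsmul _ _ _ hμ1
        _ = I.card * (2 * D) := smul_eq_mul _ _
    refine ⟨(Nat.mul_le_mul_left _ hle).trans hb, fun heq => hat ?_⟩
    have he : vis N L (ψ : G → ℂ) = vis' :=
      le_antisymm hle (Nat.le_of_mul_le_mul_left (hb.trans heq.ge) (Nat.succ_pos q))
    rw [hv1, hvis'] at he
    exact Nat.eq_of_mul_eq_mul_left (Nat.pos_of_ne_zero hmθ)
      ((Finset.sum_eq_sum_iff_of_le fun θ' _ => Nat.mul_le_mul_left _ (wt_le_deg F L θ')).1 he θ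
        (Finset.mem_filter.2 ⟨Finset.mem_univ _, hv⟩))

end Cfsg.Agent.SDKeystone.Budget
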