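import Cfsg.Agent.Lib.SDKeystone.Budget.PlusSeen
import Cfsg.Agent.Lib.SDKeystone.Budget.PlusCases

/-!
# The plus budget

* `Setting.scalar_of_atBound` : a character at the bound is scalar
* `Setting.plusBound` : `PlusBound` as soon as `q` is not a square
* `Setting.plusBound_of_one` : `PlusBound` for `n = 1`
-/

set_option autoImplicit false
set_option linter.unusedSectionVars false
set_option linter.style.haveILetI false

open scoped ComplexConjugate commutatorElement

namespace Cfsg.Agent.SDKeystone.Budget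

open Subgroup Cfsg Cfsg.Agent.Char Cfsg.Agent.OW Cfsg.Agent.InvolChar

universe u v w

attribute [local instance 2000] Fintype.ofFinite

/-- A character is the sum of its constituents on a subgroup. -/
theorem value_on {G : Type*} [Group G] [Finite G] {H : Subgroup G} {f : G → ℂ} (hf : IsCh H f) {x : G}
    (hx : x ∈ H) : f x = ∑ μ : IrrCharacter H, (mu H f (E μ) : ℂ) * E μ x := by
  classical
  obtain ⟨c, hc, hcn⟩ := IsCharacter.decompose hf
  have hmu : ∀ η, (mu H f (E η) : ℂ) = c η := fun η => by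
    rw [← mu_spec hf (isCh_E η), ip, rs_E, hcn]
  have h1 := congrFun hc ⟨x, hx⟩
  simp only [Finset.sum_apply, Pi.smul_apply, smul_eq_mul, rs] at h1
  rw [h1]
  exact Finset.sum_congr rfl fun η _ => by rw [hmu, E_of_mem _ hx]

namespace Setting

variable {G : Type u} [Group G] [Fintype G] {H : Type v} [Group H] [Finite H] {X : Type w} [MulAction H X]
  {z t g : G} {C : Subgroup G} [Fintype C] {φ : C →* H} {Z : Subgroup H}
  {n q o : ℕ} {δ : ℤ} {b : IrrCharacter G}
variable (D : Setting X z t g C φ Z n q o δ b)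
include D

/-- A character at the bound is scalar. -/
theorem scalar_of_atBound {V : Subgroup H} {p : X} {B : Subgroup C} {s : C}
    (F : Frame φ.ker (V.comap φ) B D.torusPow D.tC D.zC s q) (hR : RootAt H X (φ D.tC) q V p)
    {L : Finset (IrrCharacter (tA φ.ker D.tC))}
    (hL : ∀ f ∈ L, ∃ (r : C) (hr : IsSwap z t r), ∀ k ∈ D.sideKer hr,
      (f : tA φ.ker D.tC → ℂ) k = (f : tA φ.ker D.tC → ℂ) 1)
    (ψ : IrrCharacter C) (h : AtBound F L (ψ : C → ℂ)) : D.IsScalar (ψ : C → ℂ) := by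
  classical
  obtain ⟨lam, h0, hN, -, hcom, f, hfL, hf⟩ := h.kernel F
  obtain ⟨r, hr, hker⟩ := hL f hfL
  obtain ⟨k, ρ, hρi, hρ⟩ := id lam.2
  have hJ : ∀ x, x ∈ (MonoidHom.ker ρ).map φ.ker.subtype ↔ x ∈ φ.ker ∧ E lam x = E lam 1 := by
    intro x
    have h1 : ∀ (hx : x ∈ φ.ker), E lam x = E lam 1 ↔ ρ ⟨x, hx⟩ = 1 := fun hx => by
      rw [E_of_mem lam hx, E_of_mem lam (one_mem φ.ker), ← hρ]
      show ρ.character ⟨x, hx⟩ = ρ.character 1 ↔ _
      rw [Representation.char_one]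
      exact character_eq_finrank_iff ρ _
    constructor
    · rintro ⟨y, hy, rfl⟩
      exact ⟨y.2, (h1 y.2).2 (MonoidHom.mem_ker.1 hy)⟩
    · rintro ⟨hx, he⟩
      exact ⟨⟨x, hx⟩, MonoidHom.mem_ker.2 ((h1 hx).1 he), rfl⟩
  refine ⟨(MonoidHom.ker ρ).map φ.ker.subtype, V, p, r, hR, hr, fun x hx => ((hJ x).1 hx).1,
    fun x hx j hj => ?_, fun c hc j hj => ?_, fun x hx => ?_, fun x hx hxT hi => ?_, fun x hx hall => ?_⟩
  · obtain ⟨hjO, hje⟩ := (hJ j).1 hj
    exact (hJ _).2 ⟨F.O_conj hjO x, by rw [E_conj lam (MonoidHom.mem_ker.2 hx) hjO, hje]⟩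
  · obtain ⟨hjO, hje⟩ := (hJ j).1 hj
    refine (hJ _).2 ⟨F.O_conj hjO c, ?_⟩
    have h1 := (mem_stab F).1 (hN (inv_mem (show c ∈ V.comap φ from hc)))
    rw [← hje]
    conv_rhs => rw [← h1]
    rw [E_cjI, inv_inv]
  · have hxO : x ∈ φ.ker := MonoidHom.mem_ker.2 hx
    rw [commutatorElement_def]
    refine (hJ _).2 ⟨?_, hcom x hxO⟩
    rw [show x * D.tC * x⁻¹ * D.tC⁻¹ = x * (D.tC * x⁻¹ * D.tC⁻¹) by group]
    exact mul_mem hxO (F.O_conj (inv_mem hxO) _)
  · have hxA : x ∈ tA φ.ker D.tC := mem_tA.2 ⟨MonoidHom.mem_ker.2 hx, hxT⟩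
    refine (hJ _).2 ⟨MonoidHom.mem_ker.2 hx, hf x hxA ?_⟩
    rw [E_of_mem f hxA, E_of_mem f (one_mem _)]
    exact hker ⟨x, hxA⟩ hi
  · have hxO : x ∈ φ.ker := MonoidHom.mem_ker.2 hx
    have hψO : IsCh φ.ker (ψ : C → ℂ) := IsCharacter.restrict (IsIrrCharacter.isCharacter ψ.2) _
    rw [value_on hψO hxO, value_on hψO (one_mem _)]
    refine Finset.sum_congr rfl fun μ _ => ?_
    by_cases hμ : mu φ.ker (ψ : C → ℂ) (E μ) = 0
    · rw [hμ, Nat.cast_zero, zero_mul, zero_mul]
    obtain ⟨c, rfl⟩ := horbit_of F ψ h0 hμ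
    congr 1
    rw [E_cjI, E_cjI, mul_one, inv_mul_cancel]
    exact ((hJ _).1 (by simpa using hall c⁻¹)).2

/-- `PlusBound` when `q` is not a square. -/
theorem plusBound (hsq : ∀ a : ℕ, a * a ≠ q) : D.PlusBound := by
  classical
  intro hδ
  obtain ⟨V, p, s, F, hR, hfix, hs⟩ := D.exists_frame hδ
  set N := V.comap φ with hN
  haveI : Finite (IrrCharacter (tA φ.ker D.tC)) := inferInstance
  have hs1 : IsSwap z t (1 : C) := Or.inl (by simp)
  have hs2 : IsSwap z t s := Or.inr hs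
  haveI := D.sideKer_normal hs1
  haveI := D.sideKer_normal hs2
  set L : Finset (IrrCharacter (tA φ.ker D.tC)) := Finset.univ.filter fun f =>
    (∀ k ∈ D.sideKer hs1, (f : tA φ.ker D.tC → ℂ) k = (f : tA φ.ker D.tC → ℂ) 1) ∨
      ∀ k ∈ D.sideKer hs2, (f : tA φ.ker D.tC → ℂ) k = (f : tA φ.ker D.tC → ℂ) 1 with hLdef
  have hL : ∀ f ∈ L, ∃ (r : C) (hr : IsSwap z t r), ∀ k ∈ D.sideKer hr,
      (f : tA φ.ker D.tC → ℂ) k = (f : tA φ.ker D.tC → ℂ) 1 := fun f hf =>
    (Finset.mem_filter.1 hf).2.elim (fun h => ⟨1, hs1, h⟩) fun h => ⟨s, hs2, h⟩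
  have hinv : ∀ f ∈ L, Fix D.torusPow (tA φ.ker D.tC) (E f) := fun f hf => by
    obtain ⟨r, hr, h⟩ := hL f hf
    exact D.side_fix F hr f h
  -- the constituents
  have hres : ∀ x : C, (b : G → ℂ) (x : G) = ∑ ψ : IrrCharacter C, (mult b C ψ : ℂ) * (ψ : C → ℂ) x := by
    intro x
    letI := Fintype.ofFinite (IrrCharacter C)
    have h := congrFun
      (IsCharacter.decompose (IsCharacter.restrict (IsIrrCharacter.isCharacter b.2) C)).choose_spec.1 x
    simp only [Finset.sum_apply, Pi.smul_apply, smul_eq_mul] at h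
    exact h
  have hzo : ∀ ψ : IrrCharacter C, ¬ D.IsEvenC (ψ : C → ℂ) → ∀ x, (ψ : C → ℂ) (D.zC * x) = -(ψ : C → ℂ) x :=
    fun ψ h => (apply_central_inv ψ.2 D.zC_sq D.zC_comm).resolve_left h
  have hsplit : ∀ f : IrrCharacter C → ℂ, ∑ ψ, (mult b C ψ : ℂ) * f ψ =
      (∑ ψ ∈ D.evenPart, (mult b C ψ : ℂ) * f ψ) + ∑ ψ ∈ D.oddPart, (mult b C ψ : ℂ) * f ψ := by
    intro f
    rw [← Finset.sum_filter_add_sum_filter_not Finset.univ (fun ψ : IrrCharacter C => D.IsEvenC (ψ : C → ℂ))]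
    congr 1
    · refine (Finset.sum_subset (fun ψ h => ?_) fun ψ h h' => ?_).symm
      · exact Finset.mem_filter.2 ⟨Finset.mem_univ _, (Finset.mem_filter.1 h).2.1⟩
      · have : mult b C ψ = 0 := by
          by_contra hm
          exact h' (Finset.mem_filter.2 ⟨Finset.mem_univ _, (Finset.mem_filter.1 h).2, hm⟩)
        rw [this, Nat.cast_zero, zero_mul]
    · refine (Finset.sum_subset (fun ψ h => ?_) fun ψ h h' => ?_).symm
      · exact Finset.mem_filter.2 ⟨Finset.mem_univ _, (Finset.mem_filter.1 h).2.1⟩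
      · have : mult b C ψ = 0 := by
          by_contra hm
          exact h' (Finset.mem_filter.2 ⟨Finset.mem_univ _, (Finset.mem_filter.1 h).2, hm⟩)
        rw [this, Nat.cast_zero, zero_mul]
  set Ψp : C → ℂ := fun x => ∑ ψ ∈ D.evenPart, (mult b C ψ : ℂ) * (ψ : C → ℂ) x with hΨp
  set Ψm : C → ℂ := fun x => ∑ ψ ∈ D.oddPart, (mult b C ψ : ℂ) * (ψ : C → ℂ) x with hΨm
  have hplus : ∀ x : C, (b : G → ℂ) (x : G) = Ψp x + Ψm x := fun x => by rw [hres, hsplit]
  have hminus : ∀ x : C, (b : G → ℂ) (z * (x : G)) = Ψp x - Ψm x := fun x => by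
    rw [show z * (x : G) = ((D.zC * x : C) : G) from rfl, hplus, sub_eq_add_neg, hΨp, hΨm, ← Finset.sum_neg_distrib]
    congr 1
    · exact Finset.sum_congr rfl fun ψ hψ => by rw [(Finset.mem_filter.1 hψ).2.1]
    · exact Finset.sum_congr rfl fun ψ hψ => by rw [hzo ψ (Finset.mem_filter.1 hψ).2.1, mul_neg]
  have hchp : IsCharacter C Ψp := by
    rw [show Ψp = ∑ ψ ∈ D.evenPart, (mult b C ψ : ℂ) • (ψ : C → ℂ) from funext fun x => by simp [hΨp]]
    exact IsCharacter.sum _ fun ψ _ => IsCharacter.natCast_smul (IsIrrCharacter.isCharacter ψ.2) _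
  -- values at `a t`
  have hp_at : ∀ a : tA φ.ker D.tC,
      Ψp ((a : C) * D.tC) = (D.sideVal b 1 a + D.sideVal b s a) / 2 := by
    intro a
    have h1 : (b : G → ℂ) ((((a : C) * D.tC : C)) : G) = D.sideVal b 1 a := by
      simp only [sideVal, one_mul, inv_one, mul_one]
      rfl
    have h2 : (b : G → ℂ) (z * (((a : C) * D.tC : C) : G)) = D.sideVal b s a := by
      show (b : G → ℂ) (z * (((a : C) : G) * t)) = (b : G → ℂ) ((s : G) * ((a : C) : G) * (s : G)⁻¹ * t)
      rw [← D.b_conj (z * (((a : C) : G) * t)) (s : G)]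
      refine congrArg _ ?_
      have hzs : (s : G) * z * (s : G)⁻¹ = z := by
        rw [← (D.le_cent s s.2).eq, mul_inv_cancel_right]
      have hzz : z * z = 1 := by rw [← pow_two, ← D.z2, pow_orderOf_eq_one]
      have hza : Commute z ((s : G) * ((a : C) : G) * (s : G)⁻¹) :=
        D.le_cent _ (C.mul_mem (C.mul_mem s.2 (a : C).2) (C.inv_mem s.2))
      have hzt : Commute z t := D.le_cent t D.t_mem
      calc (s : G) * (z * (((a : C) : G) * t)) * (s : G)⁻¹
          = (s : G) * z * (s : G)⁻¹ * ((s : G) * ((a : C) : G) * (s : G)⁻¹ * ((s : G) * t * (s : G)⁻¹)) := by group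
        _ = z * ((s : G) * ((a : C) : G) * (s : G)⁻¹ * (t * z)) := by rw [hzs, hs]
        _ = (s : G) * ((a : C) : G) * (s : G)⁻¹ * (z * (t * z)) := by
            rw [← mul_assoc z, hza.eq, mul_assoc]
        _ = (s : G) * ((a : C) : G) * (s : G)⁻¹ * t := by
            rw [show z * (t * z) = t by rw [← mul_assoc, hzt.eq, mul_assoc, hzz, mul_one]]
    rw [hplus] at h1
    rw [hminus] at h2
    rw [← h1, ← h2]
    ring
  -- `q` is paid at `t`
  have hq : (q : ℝ) ≤ (vis N L Ψp : ℝ) := by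
    have hM : IsCh (tM N D.tC) Ψp := IsCharacter.restrict hchp _
    refine le_trans ?_ (sum_coef_le F L hM)
    set h : tA φ.ker D.tC → ℂ := fun a => Ψp ((a : C) * D.tC) with hh
    have e : h = (1 / 2 : ℂ) • D.sideVal b 1 + (1 / 2 : ℂ) • D.sideVal b s := funext fun a => by
      show Ψp _ = _
      rw [hp_at a]
      simp only [Pi.add_apply, Pi.smul_apply, smul_eq_mul]
      ring
    have hlin : ∀ f : IrrCharacter (tA φ.ker D.tC), classInner h (f : tA φ.ker D.tC → ℂ) ≠ 0 → f ∈ L := by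
      intro f hf
      rw [e, classInner_add_left, classInner_smul_left, classInner_smul_left] at hf
      by_cases h1 : classInner (D.sideVal b 1) (f : tA φ.ker D.tC → ℂ) = 0
      · rw [h1, mul_zero, zero_add] at hf
        exact Finset.mem_filter.2 ⟨Finset.mem_univ _, Or.inr (seen_through _ (D.sideVal_class hs2)
          (fun a k hk => D.side_value hs2 a hk) f (right_ne_zero_of_mul hf))⟩
      · exact Finset.mem_filter.2 ⟨Finset.mem_univ _, Or.inl (seen_through _ (D.sideVal_class hs1)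
          (fun a k hk => D.side_value hs1 a hk) f h1)⟩
    have hcoef : ∀ f, coef φ.ker D.tC Ψp f = classInner h (f : tA φ.ker D.tC → ℂ) := fun f => by
      rw [coef, ip, rs_E]; rfl
    have hcl : IsClassFunction (tA φ.ker D.tC) h := fun a c => by
      have h1 := D.sideVal_class hs1 a c
      have h2 := D.sideVal_class hs2 a c
      simp only [e, Pi.add_apply, Pi.smul_apply, h1, h2]
    have h1 : h 1 = -(q : ℂ) := by
      show Ψp _ = _
      rw [hp_at, D.sideVal_one hδ, D.sideVal_one hδ]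
      ring
    have h2 : h 1 = ∑ f ∈ L, coef φ.ker D.tC Ψp f * (deg f : ℂ) := by
      conv_lhs => rw [classFunction_eq_sum hcl]
      simp only [Finset.sum_apply, Pi.smul_apply, smul_eq_mul]
      rw [← Finset.sum_subset (Finset.subset_univ L) fun f _ hf => by
        rw [show classInner h (f : tA φ.ker D.tC → ℂ) = 0 from not_ne_iff.1 fun e' => hf (hlin f e'), zero_mul]]
      exact Finset.sum_congr rfl fun f hf => by rw [hcoef, ← E_one f, E_of_mem f (one_mem _)]; rfl
    calc (q : ℝ) = ‖h 1‖ := by rw [h1, norm_neg, Complex.norm_natCast]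
      _ ≤ _ := by
        rw [h2]
        refine (norm_sum_le _ _).trans (le_of_eq (Finset.sum_congr rfl fun f _ => ?_))
        rw [norm_mul, Complex.norm_natCast]
  -- the parts on `N`
  set Fv : IrrCharacter C → ℕ := fun ψ => vis N L (ψ : C → ℂ) with hFv
  have hone : 1 ≤ wt L (⟨1, isIrrCharacter_one⟩ : IrrCharacter N) := by
    have hfL : (⟨1, isIrrCharacter_one⟩ : IrrCharacter (tA φ.ker D.tC)) ∈ L :=
      Finset.mem_filter.2 ⟨Finset.mem_univ _, Or.inl fun a _ => rfl⟩
    have hsees : Sees φ.ker D.tC (⟨1, isIrrCharacter_one⟩ : IrrCharacter N)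
        (⟨1, isIrrCharacter_one⟩ : IrrCharacter (tA φ.ker D.tC)) := by
      refine ⟨⟨1, isIrrCharacter_one⟩, fun k hk => ?_, ?_⟩
      · rw [E_of_mem _ ((cycN F).le hk), E_of_mem _ hk]; rfl
      · have e : coef φ.ker D.tC (E (⟨1, isIrrCharacter_one⟩ : IrrCharacter (tM N D.tC)))
            (⟨1, isIrrCharacter_one⟩ : IrrCharacter (tA φ.ker D.tC)) = 1 := by
          rw [coef, ip, rs_E, ← classInner_irr_self (isIrrCharacter_one (G := tA φ.ker D.tC))]
          congr 1
          funext a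
          have hm : (a : C) * D.tC ∈ tM N D.tC := mul_mem ((cycN F).le (A_le F a.2)) (cycN F).mem
          show E _ ((a : C) * D.tC) = _
          rw [E_of_mem _ hm]
          rfl
        rw [e]
        exact one_ne_zero
    rw [wt_eq F hfL hsees]
    exact deg_pos _
  have hψN : ∀ ψ : IrrCharacter C, IsCh N (ψ : C → ℂ) := fun ψ =>
    IsCharacter.restrict (IsIrrCharacter.isCharacter ψ.2) N
  have hipsum : ∀ (S : Finset (IrrCharacter C)) (θ : IrrCharacter N),
      ip N (fun x => ∑ ψ ∈ S, (mult b C ψ : ℂ) * (ψ : C → ℂ) x) (E θ) =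
        ((∑ ψ ∈ S, mult b C ψ * mu N (ψ : C → ℂ) (E θ) : ℕ) : ℂ) := by
    intro S θ
    push_cast
    simp only [← mu_spec (hψN _) (isCh_E θ)]
    unfold ip
    rw [← Finset.sum_congr rfl fun ψ _ => classInner_smul_left (mult b C ψ : ℂ) _ _, ← classInner_sum_left]
    congr 1
    funext x
    simp [rs]
  have hN1 : ∀ k : N, stein X δ (φ (k : C)) = if φ (k : C) = 1 then (q : ℂ) else 0 := by
    intro k
    split_ifs with hk
    · have hfx : (Nat.card (MulAction.fixedBy X (1 : H)) : ℂ) = (q : ℂ) + 1 := by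
        rw [show MulAction.fixedBy X (1 : H) = Set.univ from Set.eq_univ_of_forall fun x => one_smul H x,
          Nat.card_coe_set_eq, Set.ncard_univ, D.line.card_X, Nat.cast_add, Nat.cast_one]
      rw [hk]
      simp only [stein, WLine.fix, hδ, Int.cast_one, Int.cast_natCast, hfx]
      ring
    · have hfx : (Nat.card (MulAction.fixedBy X (φ (k : C))) : ℂ) = 1 := by
        rw [hfix _ k.2 hk, Nat.card_coe_set_eq, Set.ncard_singleton, Nat.cast_one]
      simp only [stein, WLine.fix, hδ, Int.cast_one, Int.cast_natCast, hfx]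
      ring
  have hbal : ∀ θ : IrrCharacter N, ∑ ψ ∈ D.oddPart, mult b C ψ * mu N (ψ : C → ℂ) (E θ) =
      (∑ ψ ∈ D.evenPart, mult b C ψ * mu N (ψ : C → ℂ) (E θ)) + mu φ.ker (fun _ => 1) (E θ) := by
    intro θ
    have hon : IsCh φ.ker (fun _ : C => (1 : ℂ)) := isCharacter_one
    have key : ip N Ψm (E θ) = ip N Ψp (E θ) + ip φ.ker (fun _ => 1) (E θ) := by
      have e1 : ∀ x ∈ N, Ψm x = Ψp x + stein X δ (φ x) := fun x hx => by
        have hx2 : ¬ 2 ∣ orderOf x := fun h => Nat.not_even_iff_odd.2 F.N_odd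
          (even_iff_two_dvd.2 (h.trans (Subgroup.orderOf_dvd_natCard N hx)))
        linear_combination (hminus x).symm.trans (D.b_sect x hx2) * (-1)
      rw [ip_congr (f' := fun x => Ψp x + stein X δ (φ x)) (g' := E θ) e1 fun _ _ => rfl]
      have e3 : ip N (fun x => Ψp x + stein X δ (φ x)) (E θ) =
          ip N Ψp (E θ) + ip N (fun x => stein X δ (φ x)) (E θ) := classInner_add_left _ _ _
      rw [e3]
      congr 1
      have hKN : φ.ker ≤ N := F.O_le
      apply mul_left_cancel₀ (Nat.cast_ne_zero.2 (Nat.card_pos (α := N)).ne' : (Nat.card N : ℂ) ≠ 0)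
      rw [show (Nat.card N : ℂ) * ip φ.ker (fun _ => 1) (E θ) =
        (q : ℂ) * ((Nat.card φ.ker : ℂ) * ip φ.ker (fun _ => 1) (E θ)) by rw [F.card_N]; push_cast; ring]
      unfold ip
      rw [card_mul_classInner, card_mul_classInner, Finset.mul_sum]
      rw [← Finset.sum_filter_of_ne (p := fun x : N => (x : C) ∈ φ.ker) (fun x _ hx => by
        by_contra h
        refine hx ?_
        show stein X δ (φ (x : C)) * _ = 0
        rw [hN1, if_neg fun e => h (MonoidHom.mem_ker.2 e), zero_mul])]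
      refine Finset.sum_bij' (fun x hx => (⟨(x : C), (Finset.mem_filter.1 hx).2⟩ : φ.ker))
        (fun x _ => (⟨(x : C), hKN x.2⟩ : N)) (fun _ _ => Finset.mem_univ _)
        (fun x _ => Finset.mem_filter.2 ⟨Finset.mem_univ _, x.2⟩) (fun _ _ => rfl) (fun _ _ => rfl) fun x hx => ?_
      show stein X δ (φ (x : C)) * conj (rs N (E θ) x) = (q : ℂ) * (1 * conj (E θ (x : C)))
      rw [hN1, if_pos (MonoidHom.mem_ker.1 (Finset.mem_filter.1 hx).2), one_mul]
      rfl
    rw [hipsum, hipsum, mu_spec hon ((isCh_E θ).mono F.O_le)] at key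
    exact_mod_cast key
  have hsum : ∀ S : Finset (IrrCharacter C), ∑ ψ ∈ S, mult b C ψ * Fv ψ =
      ∑ θ : IrrCharacter N, (∑ ψ ∈ S, mult b C ψ * mu N (ψ : C → ℂ) (E θ)) * wt L θ := by
    intro S
    simp only [hFv, vis, Finset.mul_sum, Finset.sum_mul]
    rw [Finset.sum_comm]
    exact Finset.sum_congr rfl fun θ _ => Finset.sum_congr rfl fun ψ _ => (mul_assoc _ _ _).symm
  have hvp : vis N L Ψp = ∑ ψ ∈ D.evenPart, mult b C ψ * Fv ψ := by
    rw [hsum, vis]
    refine Finset.sum_congr rfl fun θ _ => ?_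
    congr 1
    apply Nat.cast_injective (R := ℂ)
    rw [← hipsum, ← mu_spec (show IsCh N Ψp from IsCharacter.restrict hchp N) (isCh_E θ)]
  have hge : vis N L Ψp + 1 ≤ ∑ ψ ∈ D.oddPart, mult b C ψ * Fv ψ := by
    rw [hvp, hsum, hsum]
    simp only [hbal, add_mul, Finset.sum_add_distrib]
    refine Nat.add_le_add_left ?_ _
    refine le_trans ?_ (Finset.single_le_sum (fun θ _ => Nat.zero_le _)
      (Finset.mem_univ (⟨1, isIrrCharacter_one⟩ : IrrCharacter N)))
    have h : ip φ.ker (fun _ : C => (1 : ℂ)) (E (⟨1, isIrrCharacter_one⟩ : IrrCharacter N)) = 1 := by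
      rw [ip_congr (f' := fun _ : C => (1 : ℂ)) (g' := fun _ : C => (1 : ℂ)) (fun _ _ => rfl) fun x hx => by
        rw [E_of_mem _ (F.O_le hx)]; rfl]
      exact classInner_irr_self (isIrrCharacter_one (G := φ.ker))
    rw [mu, h]
    simpa using hone
  refine ⟨fun ψ => (Fv ψ : ℝ), ?_, fun ψ hψ => ?_⟩
  · have h := (Nat.cast_le (α := ℝ)).2 hge
    push_cast at h
    linarith
  obtain ⟨hle, heq⟩ := case_bound F hsq hinv ψ (hzo ψ (Finset.mem_filter.1 hψ).2.1)
  refine ⟨?_, fun he => ?_⟩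
  · show ((q : ℝ) + 1) * (Fv ψ : ℝ) ≤ _
    exact_mod_cast hle
  have he' : ((q : ℝ) + 1) * (Fv ψ : ℝ) = 2 * (charDegree (ψ : C → ℂ) : ℝ) := he
  exact D.scalar_of_atBound F hR hL ψ (heq (by exact_mod_cast he'))

/-- `PlusBound` for semidihedral type. -/
theorem plusBound_of_one (hn : n = 1) : D.PlusBound := fun hδ => D.plusBound (fun a ha => by
  have h := D.line.q_sub
  rw [hδ, hn, ← ha] at h
  obtain ⟨j, hj⟩ := D.line.o_odd
  rw [hj] at h
  push_cast at h
  rcases Nat.even_or_odd a with ⟨k, hk⟩ | ⟨k, hk⟩ <;> rw [hk] at h <;> push_cast at h <;> ring_nf at h <;> omega) hδ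

end Setting

end Cfsg.Agent.SDKeystone.Budget
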