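import Cfsg.Agent.Lib.OW.Basic

/-!
# The frame of the plus budget

* `Frame O N B T1 t z s q` : `O` the core, `N / O` the root group inverted by `t`, `B` the stabiliser of a point,
  `T1` a subgroup of `centralizer {t}` irreducible on `N / O`, `s` off `B` with `s t s⁻¹ = t z`, `z` a central
  involution
-/

set_option autoImplicit false
set_option linter.unusedSectionVars false

namespace Cfsg.Agent.SDKeystone.Budget

open Subgroup

universe u

/-- The frame of the plus budget. -/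
structure Frame {G : Type u} [Group G] (O N B T1 : Subgroup G) (t z s : G) (q : ℕ) : Prop where
  O_normal : O.Normal
  O_le : O ≤ N
  N_le : N ≤ B
  B_norm : B ≤ normalizer (N : Set G)
  N_odd : Odd (Nat.card N)
  card_N : Nat.card N = q * Nat.card O
  three_le : 3 ≤ q
  comm : ∀ x ∈ N, ∀ y ∈ N, x * y * x⁻¹ * y⁻¹ ∈ O
  inv : ∀ x ∈ N, t * x * t⁻¹ * x ∈ O
  cent_le : centralizer ({t} : Set G) ≤ B
  cent_N : ∀ x ∈ N, x ∈ centralizer ({t} : Set G) → x ∈ O
  T1_le : T1 ≤ centralizer ({t} : Set G)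
  t_mem_T1 : t ∈ T1
  irred : ∀ U : Subgroup G, O ≤ U → U ≤ N → (∀ c ∈ T1, ∀ x ∈ U, c * x * c⁻¹ ∈ U) → U = O ∨ U = N
  free : ∀ x ∈ N, ∀ h : G, h ∉ B → h⁻¹ * x * h ∈ B → x ∈ O
  B_eq : ∀ b ∈ B, ∃ x ∈ N, ∃ c ∈ centralizer ({t} : Set G), b = x * c
  index_B : B.index = q + 1
  s_notMem : s ∉ B
  cover : ∀ h : G, h ∉ B → ∃ x ∈ N, ∃ b ∈ B, h = x * s * b
  t_sq : t * t = 1
  t_notMem : t ∉ N
  z_sq : z * z = 1
  z_comm : ∀ x : G, x * z = z * x
  s_conj : s * t * s⁻¹ = t * z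

namespace Frame

variable {G : Type u} [Group G] {O N B T1 : Subgroup G} {t z s : G} {q : ℕ} (F : Frame O N B T1 t z s q)
include F

theorem t_cent : t ∈ centralizer ({t} : Set G) := by
  rw [mem_centralizer_singleton_iff]

theorem z_cent : z ∈ centralizer ({t} : Set G) := by
  rw [mem_centralizer_singleton_iff]
  exact (F.z_comm t).symm

theorem O_odd [Finite G] : Odd (Nat.card O) :=
  F.N_odd.of_dvd_nat (card_dvd_of_le F.O_le)

theorem O_conj {x : G} (hx : x ∈ O) (c : G) : c * x * c⁻¹ ∈ O := F.O_normal.conj_mem x hx c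

theorem N_conj {x : G} (hx : x ∈ N) {b : G} (hb : b ∈ B) : b * x * b⁻¹ ∈ N :=
  (mem_normalizer_iff.1 (F.B_norm hb) x).1 hx

theorem cent_norm : centralizer ({t} : Set G) ≤ normalizer (N : Set G) := F.cent_le.trans F.B_norm

end Frame

end Cfsg.Agent.SDKeystone.Budget
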