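import Cfsg.Agent.Lib.SDKeystone.Budget.Setting
import Cfsg.Agent.Lib.SDKeystone.Budget.PlusFrame

/-!
# The frame of a setting with `δ = 1`

* `lift_cent` : the centraliser of `t` in `C` covers the torus
* `torusPow` : the subgroup generated by `t` and the `m ^ 2`-th powers of `C ∩ C(t)`, `m = [C(z) : C]`
* `exists_frame` : the frame `O = ker φ`, `N`, `B` the preimages of the root group and of its fixed point
-/

set_option autoImplicit false
set_option linter.unusedSectionVars false
set_option linter.style.haveILetI false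

namespace Cfsg.Agent.SDKeystone.Budget

open Subgroup Cfsg Cfsg.Agent.Char Cfsg.Agent.InvolChar MulAction

universe u v w

namespace Setting

variable {G : Type u} [Group G] [Fintype G] {H : Type v} [Group H] [Finite H] {X : Type w} [MulAction H X]
  {z t g : G} {C : Subgroup G} [Fintype C] {φ : C →* H} {Z : Subgroup H}
  {n q o : ℕ} {δ : ℤ} {b : IrrCharacter G}
variable (D : Setting X z t g C φ Z n q o δ b)
include D

theorem tC_sq : D.tC * D.tC = 1 :=
  Subtype.ext (by show t * t = 1; rw [← pow_two, ← D.t2, pow_orderOf_eq_one])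

theorem zC_sq : D.zC * D.zC = 1 :=
  Subtype.ext (by show z * z = 1; rw [← pow_two, ← D.z2, pow_orderOf_eq_one])

theorem zC_comm (x : C) : x * D.zC = D.zC * x := Subtype.ext (D.le_cent x x.2).eq.symm

theorem lift_cent {τ : H} (hτ : τ ∈ centralizer ({φ D.tC} : Set H)) :
    ∃ c ∈ centralizer ({D.tC} : Set C), φ c = τ := by
  obtain ⟨c0, hc0⟩ := D.surj τ
  set t' := c0 * D.tC * c0⁻¹ with ht'
  have ht'2 : t' * t' = 1 := by
    rw [ht', show c0 * D.tC * c0⁻¹ * (c0 * D.tC * c0⁻¹) = c0 * (D.tC * D.tC) * c0⁻¹ by group, D.tC_sq,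
      mul_one, mul_inv_cancel]
  have htinv : D.tC⁻¹ = D.tC := inv_eq_of_mul_eq_one_right D.tC_sq
  set u := t' * D.tC with hu
  have huO : φ u = 1 := by
    rw [hu, ht', map_mul, map_mul, map_mul, map_inv, hc0, (mem_centralizer_singleton_iff.1 hτ), mul_inv_cancel_right,
      ← map_mul, D.tC_sq, map_one]
  have hinv : D.tC * u * D.tC = u⁻¹ := by
    refine eq_inv_of_mul_eq_one_left ?_
    rw [hu, show D.tC * (t' * D.tC) * D.tC * (t' * D.tC) = D.tC * (t' * (D.tC * D.tC)) * (t' * D.tC) by group,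
      D.tC_sq, mul_one, show D.tC * t' * (t' * D.tC) = D.tC * (t' * t') * D.tC by group, ht'2, mul_one, D.tC_sq]
  obtain ⟨k, hk⟩ := Nat.odd_iff.2 (Nat.two_dvd_ne_zero.1 D.ker_odd)
  have hpow : u ^ (2 * k + 1) = 1 := by
    rw [← hk]
    exact congrArg Subtype.val (pow_card_eq_one' (x := (⟨u, huO⟩ : φ.ker)))
  set r := u ^ (k + 1) with hr
  have hrr : r * r = u := by
    rw [hr, ← pow_add, show k + 1 + (k + 1) = 2 * k + 1 + 1 by ring, pow_succ, hpow, one_mul]
  have hrinv : D.tC * r⁻¹ = r * D.tC := by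
    have h : D.tC * r * D.tC = r⁻¹ := by
      have e : D.tC * r * D.tC⁻¹ = (D.tC * u * D.tC⁻¹) ^ (k + 1) := by rw [conj_pow]
      rw [htinv] at e
      rw [e, hinv, inv_pow]
    rw [← h, ← mul_assoc, ← mul_assoc, D.tC_sq, one_mul]
  have hconj : r * D.tC * r⁻¹ = t' := by
    rw [mul_assoc, hrinv, ← mul_assoc, hrr, hu, mul_assoc, D.tC_sq, mul_one]
  refine ⟨r⁻¹ * c0, mem_centralizer_singleton_iff.2 ?_, ?_⟩
  · calc r⁻¹ * c0 * D.tC = r⁻¹ * (c0 * D.tC * c0⁻¹) * c0 := by group
      _ = r⁻¹ * (r * D.tC * r⁻¹) * c0 := by rw [← ht', hconj]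
      _ = D.tC * (r⁻¹ * c0) := by group
  · rw [map_mul, map_inv, hr, map_pow, huO, one_pow, inv_one, one_mul, hc0]

theorem root_eq_one {V : Subgroup H} (hV : Nat.card V = q) {v : H} (hv : v ∈ V) (hinv : φ D.tC * v * (φ D.tC)⁻¹ = v⁻¹)
    (hc : φ D.tC * v * (φ D.tC)⁻¹ = v) : v = 1 := by
  have h2 : v ^ 2 = 1 := by
    rw [pow_two, mul_eq_one_iff_eq_inv]
    exact hc.symm.trans hinv
  rcases (Nat.dvd_prime Nat.prime_two).1 (orderOf_dvd_of_pow_eq_one h2) with h | h
  · exact orderOf_eq_one_iff.1 h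
  · have hd : orderOf (⟨v, hv⟩ : V) ∣ q := hV ▸ orderOf_dvd_natCard _
    rw [← Subgroup.orderOf_coe, h] at hd
    exact absurd (even_iff_two_dvd.2 hd) (Nat.not_even_iff_odd.2 D.line.q_odd)

/-- Generated by `t` and the `m ^ 2`-th powers of `C ∩ C(t)`, `m = [C(z) : C]`. -/
def torusPow : Subgroup C :=
  closure ({x | ∃ c ∈ D.cT, x = c ^ ((C.subgroupOf (centralizer ({z} : Set G))).index ^ 2)} ∪ {D.tC})

/-- A setting with `δ = 1` gives a frame. -/
theorem exists_frame (hδ : δ = 1) : ∃ (V : Subgroup H) (p : X) (s : C),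
    Frame φ.ker (V.comap φ) ((stabilizer H p).comap φ) D.torusPow D.tC D.zC s q ∧
      RootAt H X (φ D.tC) q V p ∧
      (∀ v ∈ V, v ≠ 1 → fixedBy X v = {p}) ∧ (s : G) * t * (s : G)⁻¹ = t * z := by
  classical
  obtain ⟨V, p, hR⟩ := D.line.root hδ
  obtain ⟨htp, hVp, hVq, hVab, hVinv, hTV, hVtr, -, -, -, -⟩ := id hR
  have hq3 := D.line.three_le
  haveI : Finite X := Nat.finite_of_card_ne_zero (by rw [D.line.card_X]; omega)
  haveI : Fintype X := Fintype.ofFinite X
  haveI : Fintype H := Fintype.ofFinite H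
  set tb := φ D.tC with htb
  set T := centralizer ({tb} : Set H) with hT
  replace hVinv : ∀ v ∈ V, tb * v * tb⁻¹ = v⁻¹ := hVinv
  have hTcard : Nat.card T = 2 ^ n * (2 ^ n * o) := D.line.torus_card
  have hzc : Commute (φ D.zC) tb := D.line.central_Z _ D.z_bar tb
  have hne : ∀ x : X, ∃ y : X, y ≠ x := fun x => by
    by_contra h
    push Not at h
    have : Nat.card X ≤ 1 := Finite.card_le_one_iff_subsingleton.2 ⟨fun a b => (h a).trans (h b).symm⟩
    rw [D.line.card_X] at this
    omega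
  obtain ⟨y, hyp, hty⟩ : ∃ y, y ≠ p ∧ tb • y = y := by
    have hc := D.line.torus_fix tb (mem_centralizer_singleton_iff.2 rfl) D.line.t_notMem
    rw [hδ] at hc
    by_contra h
    push Not at h
    have hs : fixedBy X tb = {p} := Set.eq_singleton_iff_unique_mem.2 ⟨htp, fun w hw => by
      by_contra hne'
      exact h w hne' hw⟩
    rw [hs] at hc
    simp at hc
  have hVuniq : ∀ x : X, (∀ v ∈ V, v • x = x) → x = p := by
    intro x hx
    by_contra hxp
    have h2 : ∀ y' : X, y' ≠ p → y' = x := fun y' hy' => by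
      obtain ⟨v, hv, hv'⟩ := hVtr x y' hxp hy'
      rw [← hv', hx v hv]
    have hsub : (Finset.univ : Finset X) ⊆ {p, x} := fun w _ => by
      rcases eq_or_ne w p with rfl | hw
      · exact Finset.mem_insert_self _ _
      · exact Finset.mem_insert_of_mem (Finset.mem_singleton.2 (h2 w hw))
    have := Finset.card_le_card hsub
    rw [Finset.card_univ, ← Nat.card_eq_fintype_card, D.line.card_X] at this
    have := Finset.card_le_two (a := p) (b := x)
    omega
  have hTp : ∀ c ∈ T, c • p = p := by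
    intro c hc
    refine hVuniq _ fun v hv => ?_
    have hv' : c⁻¹ * v * c ∈ V := by
      simpa using (mem_normalizer_iff.1 (hTV (inv_mem hc)) v).1 hv
    calc v • c • p = c • (c⁻¹ * v * c) • p := by rw [← mul_smul, ← mul_smul]; congr 1; group
      _ = c • p := by rw [hVp _ hv']
  have hTy : ∀ c ∈ T, c • y = y := by
    intro c hc
    have h1 : tb • c • y = c • y := by
      rw [← mul_smul, ← (mem_centralizer_singleton_iff.1 hc), mul_smul, hty]
    have h2 : c • y ≠ p := fun h => hyp (smul_left_cancel c (h.trans (hTp c hc).symm))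
    by_contra h3
    have hc2 := D.line.torus_fix tb (mem_centralizer_singleton_iff.2 rfl) D.line.t_notMem
    rw [hδ] at hc2
    have hsub : ({p, y, c • y} : Finset X) ⊆ (fixedBy X tb).toFinset := by
      intro w hw
      simp only [Finset.mem_insert, Finset.mem_singleton] at hw
      rw [Set.mem_toFinset]
      rcases hw with rfl | rfl | rfl
      exacts [htp, hty, h1]
    have h4 := Finset.card_le_card hsub
    rw [Finset.card_eq_three.2 ⟨p, y, c • y, hyp.symm, h2.symm, fun e => h3 e.symm, rfl⟩, Set.toFinset_card,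
      ← Nat.card_eq_fintype_card] at h4
    omega
  haveI : IsPretransitive H X := ⟨fun a b => by
    obtain ⟨a', ha⟩ := hne a
    obtain ⟨b', hb⟩ := hne b
    obtain ⟨h, h1, -⟩ := D.line.trans_two a a' b b' ha.symm hb.symm
    exact ⟨h, h1⟩⟩
  have hidx : (stabilizer H p).index = q + 1 := by rw [index_stabilizer_of_transitive, D.line.card_X]
  have horb : MulAction.orbit (stabilizer H p) y = {x : X | x ≠ p} := by
    ext x
    simp only [Set.mem_setOf_eq]
    constructor
    · rintro ⟨⟨h, hh⟩, rfl⟩ e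
      refine hyp (smul_left_cancel h ?_)
      show h • y = h • p
      rw [show h • p = p from hh]
      exact e
    · intro hx
      obtain ⟨v, hv, hv'⟩ := hVtr y x hyp hx
      exact ⟨⟨v, hVp v hv⟩, hv'⟩
  set S2 := stabilizer H p ⊓ stabilizer H y with hS2
  have hTS : T ≤ S2 := fun c hc => ⟨hTp c hc, hTy c hc⟩
  have hS2card : Nat.card S2 ≤ Nat.card T := by
    have h1 : (stabilizer (stabilizer H p) y).index = q := by
      have h : ({x : X | x ≠ p} : Set X).ncard + ({p} : Set X).ncard = Nat.card X := by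
        rw [show {x : X | x ≠ p} = ({p} : Set X)ᶜ from rfl, add_comm, Set.ncard_add_ncard_compl]
      rw [Set.ncard_singleton, D.line.card_X] at h
      rw [index_stabilizer, horb]
      omega
    have h2 : Nat.card (stabilizer (stabilizer H p) y) = Nat.card S2 :=
      Nat.card_congr
        { toFun := fun x => ⟨(x : stabilizer H p), (x : stabilizer H p).2, x.2⟩
          invFun := fun x => ⟨⟨x, x.2.1⟩, x.2.2⟩
          left_inv := fun x => rfl
          right_inv := fun x => rfl }
    have h3 := (stabilizer (stabilizer H p) y).card_mul_index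
    have h4 := (stabilizer H p).card_mul_index
    rw [← h3, h1, h2, hidx, D.line.card_H] at h4
    rw [hTcard]
    have hqo : q - 1 = 2 ^ n * o := by
      have := D.line.q_sub
      rw [hδ] at this
      have h5 : (q : ℤ) = 1 + ((2 ^ n * o : ℕ) : ℤ) := by push_cast at this ⊢; linarith
      omega
    have h6 : q ^ 2 - 1 = (q + 1) * (q - 1) := by rw [← Nat.sq_sub_sq, one_pow]
    rw [h6, hqo] at h4
    have h7 : Nat.card S2 * (q * (q + 1)) = 2 ^ n * (2 ^ n * o) * (q * (q + 1)) := by
      rw [← mul_assoc (Nat.card S2) q, h4]; ring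
    exact le_of_eq (Nat.eq_of_mul_eq_mul_right (by positivity) h7)
  have hST : S2 = T := (Subgroup.eq_of_le_of_card_ge hTS hS2card).symm
  obtain ⟨s, hs⟩ := D.tz_conj
  have hsC : s * D.tC * s⁻¹ = D.tC * D.zC := Subtype.ext hs
  have hzne : φ D.zC ≠ 1 := by
    intro h
    have h2 : orderOf D.zC = 2 := (Subgroup.orderOf_coe D.zC).symm.trans D.z2
    exact D.ker_odd (h2 ▸ Subgroup.orderOf_dvd_natCard φ.ker h)
  have hVone : ∀ v ∈ V, tb * v * tb⁻¹ = v → v = 1 := fun v hv h => D.root_eq_one hVq hv (hVinv v hv) h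
  have hsB : φ s • p ≠ p := by
    intro h
    obtain ⟨v, hv, hv'⟩ := hVtr y (φ s • y) hyp (fun e => hyp (smul_left_cancel (φ s) (e.trans h.symm)))
    have hm : v⁻¹ * φ s ∈ T := by
      rw [← hST]
      refine ⟨?_, ?_⟩
      · show (v⁻¹ * φ s) • p = p
        rw [mul_smul, h, inv_smul_eq_iff, hVp v hv]
      · show (v⁻¹ * φ s) • y = y
        rw [mul_smul, ← hv', inv_smul_smul]
    have h1 : φ s * tb * (φ s)⁻¹ = tb * φ D.zC := by
      rw [htb, ← map_inv, ← map_mul, ← map_mul, ← map_mul, hsC]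
    set τ := v⁻¹ * φ s with hτ
    have h2 : φ s = v * τ := by rw [hτ, mul_inv_cancel_left]
    have htinv : tb⁻¹ = tb := by rw [htb, ← map_inv, inv_eq_of_mul_eq_one_right D.tC_sq]
    have h3 : tb * φ D.zC = v * tb * v⁻¹ := by
      rw [← h1, h2, mul_inv_rev, show v * τ * tb * (τ⁻¹ * v⁻¹) = v * (τ * tb * τ⁻¹) * v⁻¹ by group,
        (mem_centralizer_singleton_iff.1 hm), mul_inv_cancel_right]
    have h4 : φ D.zC = v⁻¹ * v⁻¹ := by
      have h5 : tb * (v * tb * v⁻¹) = v⁻¹ * v⁻¹ := by
        rw [show tb * (v * tb * v⁻¹) = tb * v * tb⁻¹ * (tb * tb) * v⁻¹ by group, hVinv v hv,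
          show tb * tb = 1 by rw [htb, ← map_mul, D.tC_sq, map_one], mul_one]
      rw [← h5, ← h3, ← mul_assoc, show tb * tb = 1 by rw [htb, ← map_mul, D.tC_sq, map_one], one_mul]
    refine hzne (hVone _ (h4 ▸ mul_mem (inv_mem hv) (inv_mem hv)) ?_)
    rw [← hzc.eq, mul_inv_cancel_right]
  have hfix : ∀ v ∈ V, v ≠ 1 → fixedBy X v = {p} := fun v hv hv1 => by
    refine Set.eq_singleton_iff_unique_mem.2 ⟨hVp v hv, fun w hw => ?_⟩
    by_contra hwp
    refine hv1 (hVone v hv ?_)
    have hz : v ∈ Z := (D.line.mem_Z v).2 fun w' => by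
      rcases eq_or_ne w' p with rfl | hw'
      · exact hVp v hv
      obtain ⟨r, hr, rfl⟩ := hVtr w w' hwp hw'
      rw [← mul_smul, (hVab v hv r hr).eq, mul_smul, show v • w = w from hw]
    rw [← (D.line.central_Z v hz tb).eq, mul_inv_cancel_right]
  refine ⟨V, p, s,
    { O_normal := inferInstance
      O_le := fun x hx => ?_
      N_le := fun x hx => hVp _ hx
      B_norm := fun c hc => ?_
      N_odd := ?_
      card_N := ?_
      three_le := hq3
      comm := fun x hx y hy => ?_
      inv := fun x hx => ?_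
      cent_le := fun c hc => hTp _ (mem_centralizer_singleton_iff.2 ?_)
      cent_N := fun x hx hc => ?_
      T1_le := (closure_le _).2 ?_
      t_mem_T1 := subset_closure (Or.inr rfl)
      irred := fun U hOU hUN hU => ?_
      free := fun x hx h hh hxh => ?_
      B_eq := fun c hc => ?_
      index_B := ?_
      s_notMem := hsB
      cover := fun h hh => ?_
      t_sq := D.tC_sq
      t_notMem := fun h => ?_
      z_sq := D.zC_sq
      z_comm := fun x => D.zC_comm x
      s_conj := hsC }, hR, hfix, hs⟩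
  · rw [mem_comap, MonoidHom.mem_ker.1 hx]; exact one_mem V
  · -- the root group is normal in the stabiliser
    have hkey : ∀ h : H, h • p = p → ∀ v ∈ V, h * v * h⁻¹ ∈ V := by
      intro h hp v hv
      obtain ⟨w, hw, hw'⟩ := hVtr y (h • y) hyp (fun e => hyp (smul_left_cancel h (e.trans hp.symm)))
      have hm : w⁻¹ * h ∈ T := by
        rw [← hST]
        refine ⟨?_, ?_⟩
        · show (w⁻¹ * h) • p = p
          rw [mul_smul, hp, inv_smul_eq_iff, hVp w hw]
        · show (w⁻¹ * h) • y = y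
          rw [mul_smul, ← hw', inv_smul_smul]
      rw [show h * v * h⁻¹ = w * (w⁻¹ * h * v * (w⁻¹ * h)⁻¹) * w⁻¹ by group]
      exact mul_mem (mul_mem hw ((mem_normalizer_iff.1 (hTV hm) v).1 hv)) (inv_mem hw)
    refine mem_normalizer_iff.2 fun x => ⟨fun hx => ?_, fun hx => ?_⟩
    · show φ (c * x * c⁻¹) ∈ V
      rw [map_mul, map_mul, map_inv]
      exact hkey _ hc _ hx
    · show φ x ∈ V
      have h := hkey (φ c)⁻¹ (inv_smul_eq_iff.2 (show φ c • p = p from hc).symm) _ hx
      simpa [mul_assoc] using h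
  · have h : Nat.card (V.comap φ) = q * Nat.card φ.ker := by
      have h1 := (V.comap φ).card_mul_index
      rw [Subgroup.index_comap_of_surjective V D.surj, ← φ.ker.card_mul_index, Subgroup.index_ker, φ.range_eq_top_of_surjective D.surj,
        card_top, ← V.card_mul_index, hVq, ← mul_assoc, mul_comm (Nat.card φ.ker) q] at h1
      exact Nat.eq_of_mul_eq_mul_right (Nat.pos_of_ne_zero Subgroup.index_ne_zero_of_finite) h1
    rw [h]
    exact D.line.q_odd.mul (Nat.odd_iff.2 (Nat.two_dvd_ne_zero.1 D.ker_odd))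
  · have h1 := (V.comap φ).card_mul_index
    rw [Subgroup.index_comap_of_surjective V D.surj, ← φ.ker.card_mul_index, Subgroup.index_ker, φ.range_eq_top_of_surjective D.surj,
      card_top, ← V.card_mul_index, hVq, ← mul_assoc, mul_comm (Nat.card φ.ker) q] at h1
    exact Nat.eq_of_mul_eq_mul_right (Nat.pos_of_ne_zero Subgroup.index_ne_zero_of_finite) h1
  · rw [MonoidHom.mem_ker, map_mul, map_mul, map_mul, map_inv, map_inv, (hVab _ hx _ hy).eq, mul_inv_cancel_right,
      mul_inv_cancel]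
  · rw [MonoidHom.mem_ker, map_mul, map_mul, map_mul, map_inv, hVinv _ hx, inv_mul_cancel]
  · rw [htb, ← map_mul, ← map_mul, mem_centralizer_singleton_iff.1 hc]
  · rw [MonoidHom.mem_ker]
    refine hVone _ hx ?_
    rw [htb, ← map_mul, ← (mem_centralizer_singleton_iff.1 hc), map_mul, mul_inv_cancel_right]
  · rintro x (⟨c, hc, rfl⟩ | rfl)
    · exact pow_mem hc _
    · exact mem_centralizer_singleton_iff.2 rfl
  · have hW : ∀ τ ∈ centralizer ({φ D.tC} : Set H), ∀ a ∈ U.map φ,
        τ ^ ((C.subgroupOf (centralizer ({z} : Set G))).index ^ 2) * a *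
          (τ ^ ((C.subgroupOf (centralizer ({z} : Set G))).index ^ 2))⁻¹ ∈ U.map φ := by
      intro τ hτ a ha
      obtain ⟨c, hc, rfl⟩ := D.lift_cent hτ
      obtain ⟨u, hu, rfl⟩ := mem_map.1 ha
      refine mem_map.2 ⟨_, hU _ (subset_closure (Or.inl ⟨c, hc, rfl⟩)) u hu, ?_⟩
      rw [map_mul, map_mul, map_inv, map_pow]
    rcases D.root_irred hδ V p hR (U.map φ) (map_le_iff_le_comap.2 hUN) hW with h | h
    · refine Or.inl (le_antisymm (fun u hu => MonoidHom.mem_ker.2 (mem_bot.1 (h ▸ mem_map_of_mem φ hu))) hOU)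
    · refine Or.inr (le_antisymm hUN ?_)
      rw [← h, comap_map_eq]
      exact sup_le le_rfl hOU
  · rw [MonoidHom.mem_ker]
    by_contra hv
    refine hh ?_
    have h1 : φ h • p ∈ fixedBy X (φ x) := by
      have h2 : φ (h⁻¹ * x * h) • p = p := hxh
      rw [map_mul, map_mul, map_inv, mul_smul, mul_smul, inv_smul_eq_iff] at h2
      exact h2
    rw [hfix _ hx hv] at h1
    exact h1
  · obtain ⟨w, hw, hw'⟩ := hVtr y (φ c • y) hyp
      (fun e => hyp (smul_left_cancel (φ c) (e.trans (show φ c • p = p from hc).symm)))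
    have hm : w⁻¹ * φ c ∈ T := by
      rw [← hST]
      refine ⟨?_, ?_⟩
      · show (w⁻¹ * φ c) • p = p
        rw [mul_smul, show φ c • p = p from hc, inv_smul_eq_iff, hVp w hw]
      · show (w⁻¹ * φ c) • y = y
        rw [mul_smul, ← hw', inv_smul_smul]
    obtain ⟨d, hd, hd'⟩ := D.lift_cent hm
    refine ⟨c * d⁻¹, ?_, d, hd, by group⟩
    show φ (c * d⁻¹) ∈ V
    rw [map_mul, map_inv, hd', mul_inv_rev, inv_inv, mul_inv_cancel_left]
    exact hw
  · rw [Subgroup.index_comap_of_surjective _ D.surj, hidx]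
  · obtain ⟨v, hv, hv'⟩ := hVtr (φ s • p) (φ h • p) hsB hh
    obtain ⟨x, rfl⟩ := D.surj v
    refine ⟨x, hv, (x * s)⁻¹ * h, ?_, by group⟩
    show φ ((x * s)⁻¹ * h) • p = p
    rw [map_mul, mul_smul, ← hv', map_inv, map_mul, ← mul_smul (φ x), inv_smul_smul]
  · have h2 : orderOf D.tC = 2 := (Subgroup.orderOf_coe D.tC).symm.trans D.t2
    have hd := Subgroup.orderOf_dvd_natCard (V.comap φ) h
    have hodd : Odd (Nat.card (V.comap φ)) := by
      have h1 := (V.comap φ).card_mul_index
      rw [Subgroup.index_comap_of_surjective V D.surj, ← φ.ker.card_mul_index, Subgroup.index_ker, φ.range_eq_top_of_surjective D.surj,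
        card_top, ← V.card_mul_index, hVq, ← mul_assoc, mul_comm (Nat.card φ.ker) q] at h1
      rw [Nat.eq_of_mul_eq_mul_right (Nat.pos_of_ne_zero Subgroup.index_ne_zero_of_finite) h1]
      exact D.line.q_odd.mul (Nat.odd_iff.2 (Nat.two_dvd_ne_zero.1 D.ker_odd))
    exact absurd (hodd.of_dvd_nat (h2 ▸ hd)) (by decide)

end Setting

end Cfsg.Agent.SDKeystone.Budget
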