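import Cfsg.Agent.Lib.SDKeystone.Budget.PlusVisible
import Cfsg.Agent.Lib.CharApp.CoprimeFixed

/-!
# The core under a visible character

* `core_cases` : a constituent of a `T1`-invariant character of `N` has stabiliser meeting `N` in the core, or is
  the only constituent and is fixed by `N` and `T1`
* `wt_big` : in the first case `q * wt ≤ degree`; `wt_le_deg`
* `twist_trivial`, `restrict_irr`, `t_fixed_unique` : over a fixed character of the core
-/

set_option autoImplicit false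
set_option linter.unusedSectionVars false
set_option linter.style.haveILetI false

namespace Cfsg.Agent.SDKeystone.Budget

open Subgroup Cfsg Cfsg.Agent.Char Cfsg.Agent.OW
open scoped ComplexConjugate

universe u

attribute [local instance 2000] Fintype.ofFinite

variable {G : Type u} [Group G] [Finite G] {O N B T1 : Subgroup G} {t z s : G} {q : ℕ}

theorem mu_conj {H : Subgroup G} {x : G} (hx : x ∈ normalizer (H : Set G)) {f : G → ℂ}
    (hf : ∀ h ∈ H, f (x⁻¹ * h * x) = f h) (χ : IrrCharacter H) : mu H f (E (cjI hx χ)) = mu H f (E χ) := by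
  unfold mu
  congr 2
  rw [ip_congr (f' := fun y => f (x⁻¹ * y * x)) (g' := fun y => E χ (x⁻¹ * y * x)) (fun h hh => (hf h hh).symm)
    fun h _ => E_cjI hx χ h, ip_conj hx]

theorem degree_sum (H : Subgroup G) {ψ : G → ℂ} (hψ : IsCharacter G ψ) :
    charDegree ψ = ∑ η : IrrCharacter H, mu H ψ (E η) * deg η := by
  classical
  have hH : IsCh H ψ := IsCharacter.restrict hψ H
  obtain ⟨c, hc, hcn⟩ := IsCharacter.decompose hH
  have hmu : ∀ η : IrrCharacter H, mu H ψ (E η) = c η := fun η => by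
    have h := mu_spec hH (isCh_E η)
    rw [ip, rs_E, hcn] at h
    exact_mod_cast h.symm
  have h1 := congrFun hc 1
  simp only [Finset.sum_apply, Pi.smul_apply, smul_eq_mul, ← fun η : IrrCharacter H => E_coe η 1,
    OneMemClass.coe_one, E_one, rs] at h1
  obtain ⟨n, hn⟩ := IsCharacter.exists_degree hψ
  have h2 : charDegree ψ = n := by rw [charDegree, hn]; simp
  rw [h2]
  simp only [hmu]
  rw [hn] at h1
  exact_mod_cast h1

theorem linear_norm {H : Subgroup G} {χ : IrrCharacter H} (hχ : deg χ = 1) {x : G} (hx : x ∈ H) : ‖E χ x‖ = 1 := by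
  have h1 : E χ (x * x⁻¹) = E χ x * E χ x⁻¹ := linear_mul hχ hx (inv_mem hx)
  rw [mul_inv_cancel, E_one, hχ, Nat.cast_one] at h1
  have h2 : E χ x⁻¹ = conj (E χ x) := by
    rw [E_of_mem χ hx, E_of_mem χ (inv_mem hx)]
    exact IsCharacter.apply_inv (IsIrrCharacter.isCharacter χ.2) ⟨x, hx⟩
  rw [h2, Complex.mul_conj'] at h1
  have h3 : ‖E χ x‖ ^ 2 = 1 := by exact_mod_cast h1.symm
  nlinarith [norm_nonneg (E χ x)]

theorem linear_conj_eq {H : Subgroup G} {χ : IrrCharacter H} (hχ : deg χ = 1) {x y : G} (hx : x ∈ H) (hy : y ∈ H) :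
    E χ (x * y * x⁻¹ * y⁻¹) = 1 := by
  rw [linear_mul hχ (mul_mem (mul_mem hx hy) (inv_mem hx)) (inv_mem hy), linear_mul hχ (mul_mem hx hy) (inv_mem hx),
    linear_mul hχ hx hy, mul_right_comm (E χ x), ← linear_mul hχ hx (inv_mem hx), mul_inv_cancel, E_one, hχ,
    Nat.cast_one, one_mul, ← linear_mul hχ hy (inv_mem hy), mul_inv_cancel, E_one, hχ, Nat.cast_one]

/-- A character lying over one linear character of `H` is a multiple of it on `H`. -/
theorem value_of_linear {H : Subgroup G} {f : G → ℂ} (hf : IsCh H f) {lam : IrrCharacter H} (hlam : deg lam = 1)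
    (honly : ∀ μ : IrrCharacter H, mu H f (E μ) ≠ 0 → μ = lam) {x : G} (hx : x ∈ H) : f x = f 1 * E lam x := by
  classical
  obtain ⟨c, hc, hcn⟩ := IsCharacter.decompose hf
  have h0 : ∀ η, η ≠ lam → c η = 0 := fun η hne => by
    by_contra h
    refine hne (honly η ?_)
    have h2 := mu_spec hf (isCh_E η)
    rw [ip, rs_E, hcn] at h2
    intro e
    rw [e, Nat.cast_zero] at h2
    exact h (by exact_mod_cast h2)
  have hval : ∀ y (hy : y ∈ H), f y = (c lam : ℂ) * E lam y := fun y hy => by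
    have h1 := congrFun hc ⟨y, hy⟩
    simp only [Finset.sum_apply, Pi.smul_apply, smul_eq_mul, rs] at h1
    rw [h1, Finset.sum_eq_single lam (fun η _ hne => by simp [h0 η hne]) (by simp), E_of_mem _ hy]
  rw [hval x hx, hval 1 (one_mem H), E_one, hlam, Nat.cast_one, mul_one]

theorem Frame.O_norm (F : Frame O N B T1 t z s q) (x : G) : x ∈ normalizer (O : Set G) :=
  mem_normalizer_iff.2 fun y => ⟨fun hy => F.O_conj hy x, fun hy => by
    simpa [mul_assoc] using F.O_conj hy x⁻¹⟩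

/-- The stabiliser of a character of the core. -/
def stab (F : Frame O N B T1 t z s q) (lam : IrrCharacter O) : Subgroup G where
  carrier := {x | cjI (F.O_norm x) lam = lam}
  one_mem' := (cjI_eq_iff _ _).2 fun h _ => by simp
  mul_mem' := fun {a b} ha hb => (cjI_eq_iff _ _).2 fun h hh => by
    rw [show a * b * h * (a * b)⁻¹ = a * (b * h * b⁻¹) * a⁻¹ by group,
      (cjI_eq_iff _ _).1 ha _ (F.O_conj hh b), (cjI_eq_iff _ _).1 hb _ hh]
  inv_mem' := fun {a} ha => (cjI_eq_iff _ _).2 fun h hh => by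
    rw [← (cjI_eq_iff _ _).1 ha _ (F.O_conj hh a⁻¹)]
    congr 1
    group

theorem mem_stab (F : Frame O N B T1 t z s q) {lam : IrrCharacter O} {x : G} :
    x ∈ stab F lam ↔ cjI (F.O_norm x) lam = lam := Iff.rfl

theorem O_le_stab (F : Frame O N B T1 t z s q) (lam : IrrCharacter O) : O ≤ stab F lam := fun _ hx =>
  (cjI_eq_iff _ _).2 fun _ hh => E_conj lam hx hh

theorem cjI_mul (F : Frame O N B T1 t z s q) (lam : IrrCharacter O) (x y : G) :
    cjI (F.O_norm (x * y)) lam = cjI (F.O_norm x) (cjI (F.O_norm y) lam) :=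
  irr_ext fun g _ => by rw [E_cjI, E_cjI, E_cjI]; congr 1; group

theorem cjI_eq_cjI (F : Frame O N B T1 t z s q) (lam : IrrCharacter O) {x y : G} :
    cjI (F.O_norm x) lam = cjI (F.O_norm y) lam ↔ x⁻¹ * y ∈ stab F lam := by
  rw [mem_stab, cjI_mul F]
  constructor
  · intro h
    rw [← h, ← cjI_mul F]
    exact (cjI_eq_iff _ _).2 fun g _ => by simp
  · intro h
    conv_lhs => rw [← h, ← cjI_mul F, ← cjI_mul F]
    exact irr_ext fun g _ => by rw [E_cjI, E_cjI]; congr 1; group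

/-- Few points in a stabiliser, many conjugates. -/
theorem card_conjugates (F : Frame O N B T1 t z s q) (lam : IrrCharacter O) {H S : Subgroup G} {k : ℕ}
    (hS : ∀ x ∈ H, x ∈ stab F lam → x ∈ S) (hk : Nat.card H = k * Nat.card S)
    [DecidableEq (IrrCharacter O)] :
    k ≤ (Finset.univ.image fun x : H => cjI (F.O_norm (x : G)) lam).card := by
  classical
  set I := Finset.univ.image fun x : H => cjI (F.O_norm (x : G)) lam
  have hfib : ∀ μ ∈ I, (Finset.univ.filter fun x : H => cjI (F.O_norm (x : G)) lam = μ).card ≤ Nat.card S := by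
    intro μ hμ
    obtain ⟨y, -, rfl⟩ := Finset.mem_image.1 hμ
    rw [Nat.card_eq_fintype_card, ← Finset.card_univ (α := S)]
    refine Finset.card_le_card_of_injOn
      (fun x => if h : (y : G)⁻¹ * (x : G) ∈ S then ⟨_, h⟩ else (1 : S)) (fun _ _ => Finset.mem_univ _) ?_
    intro a ha b hb e
    simp only [Finset.coe_filter, Finset.mem_univ, true_and] at ha hb
    have hm : ∀ w : H, cjI (F.O_norm (w : G)) lam = cjI (F.O_norm (y : G)) lam → (y : G)⁻¹ * (w : G) ∈ S :=
      fun w hw => hS _ (mul_mem (inv_mem y.2) w.2) ((cjI_eq_cjI F lam).1 hw.symm)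
    simp only at e
    rw [dif_pos (hm a ha), dif_pos (hm b hb)] at e
    exact Subtype.ext (mul_left_cancel (congrArg Subtype.val e))
  have h1 := Finset.card_eq_sum_card_image (fun x : H => cjI (F.O_norm (x : G)) lam) Finset.univ
  have h2 : Nat.card H ≤ I.card * Nat.card S := by
    rw [Nat.card_eq_fintype_card, ← Finset.card_univ, h1]
    exact (Finset.sum_le_card_nsmul _ _ _ hfib).trans_eq (smul_eq_mul _ _)
  rw [hk] at h2
  exact Nat.le_of_mul_le_mul_right h2 Nat.card_pos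

theorem O_subgroupOf_normal (F : Frame O N B T1 t z s q) : (O.subgroupOf N).Normal :=
  ⟨fun x hx y => mem_subgroupOf.2 (by simpa using F.O_conj (mem_subgroupOf.1 hx) (y : G))⟩

/-- Constituents on the core are conjugate in `N`. -/
theorem conj_in_N (F : Frame O N B T1 t z s q) (θ : IrrCharacter N) {lam μ : IrrCharacter O}
    (h1 : mu O (E θ) (E lam) ≠ 0) (h2 : mu O (E θ) (E μ) ≠ 0) : ∃ x ∈ N, cjI (F.O_norm x) lam = μ := by
  classical
  haveI := O_subgroupOf_normal F
  let e := subgroupOfEquivOfLe F.O_le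
  have hcl : ∀ κ : IrrCharacter O, mu O (E θ) (E κ) ≠ 0 →
      classInner (fun n : O.subgroupOf N => (θ : N → ℂ) n) (fun n => (κ : O → ℂ) (e n)) ≠ 0 := fun κ hκ => by
    have h := ip_subgroupOf F.O_le (E θ) (E κ)
    rw [mu_spec ((isCh_E θ).mono F.O_le) (isCh_E κ), rs_E] at h
    rw [show (fun n => (κ : O → ℂ) (e n)) = fun n : O.subgroupOf N => rs N (E κ) n from funext fun n => by
      show (κ : O → ℂ) (e n) = E κ ((n : N) : G)
      exact (E_coe κ (e n)).symm, h]
    exact_mod_cast hκ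
  obtain ⟨x, hx⟩ := CliffordChar.constituents_conjugate (O.subgroupOf N) θ.2
    (IsIrrCharacter.comp_equiv lam.2 e) (IsIrrCharacter.comp_equiv μ.2 e) (hcl lam h1) (hcl μ h2)
  refine ⟨x, x.2, irr_ext fun g hg => ?_⟩
  have h := congrFun hx (e.symm ⟨g, hg⟩)
  rw [CliffordChar.conjFun_apply, e.apply_symm_apply] at h
  rw [E_cjI, E_of_mem lam (by simpa using F.O_conj hg (x : G)⁻¹), E_of_mem μ hg]
  exact h

/-- A constituent of an invariant character of `N` is moved by the whole root group, or is alone. -/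
theorem core_cases (F : Frame O N B T1 t z s q) {θ : IrrCharacter N} (hθ : Fix T1 N (E θ))
    {lam : IrrCharacter O} (h0 : mu O (E θ) (E lam) ≠ 0) :
    (∀ x ∈ N, x ∈ stab F lam → x ∈ O) ∨
      (N ≤ stab F lam ∧ T1 ≤ stab F lam ∧ ∀ μ, mu O (E θ) (E μ) ≠ 0 → μ = lam) := by
  classical
  have hcmu : ∀ c ∈ T1, mu O (E θ) (E (cjI (F.O_norm c) lam)) = mu O (E θ) (E lam) :=
    fun c hc => mu_conj _ (fun h hh => by simpa using hθ c⁻¹ (inv_mem hc) h (F.O_le hh)) lam
  have hinvU : ∀ c ∈ T1, ∀ n ∈ N ⊓ stab F lam, c * n * c⁻¹ ∈ N ⊓ stab F lam := by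
    intro c hc n hn
    obtain ⟨hn, hns⟩ := mem_inf.1 hn
    have hc' := F.T1_le hc
    obtain ⟨x, hx, hxl⟩ := conj_in_N F θ h0 (μ := cjI (F.O_norm c) lam) (by rw [hcmu c hc]; exact h0)
    have hw : x⁻¹ * c ∈ stab F lam := (cjI_eq_cjI F lam).1 hxl
    have hwB : x⁻¹ * c ∈ B := mul_mem (inv_mem (F.N_le hx)) (F.cent_le hc')
    have hmN : x⁻¹ * c * n * (x⁻¹ * c)⁻¹ ∈ N := F.N_conj hn hwB
    have hmS : x⁻¹ * c * n * (x⁻¹ * c)⁻¹ ∈ stab F lam := mul_mem (mul_mem hw hns) (inv_mem hw)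
    set m := x⁻¹ * c * n * (x⁻¹ * c)⁻¹ with hm
    have h3 : x * m * x⁻¹ ∈ stab F lam := by
      rw [show x * m * x⁻¹ = x * m * x⁻¹ * m⁻¹ * m by group]
      exact mul_mem (O_le_stab F lam (F.comm x hx m hmN)) hmS
    rw [hm, show x * (x⁻¹ * c * n * (x⁻¹ * c)⁻¹) * x⁻¹ = c * n * c⁻¹ by group] at h3
    exact mem_inf.2 ⟨F.N_conj hn (F.cent_le hc'), h3⟩
  rcases F.irred (N ⊓ stab F lam) (le_inf F.O_le (O_le_stab F lam)) inf_le_left hinvU with h | h
  · exact Or.inl fun x hx hxs => h ▸ mem_inf.2 ⟨hx, hxs⟩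
  · have hN : N ≤ stab F lam := inf_eq_left.1 h
    have honly : ∀ μ, mu O (E θ) (E μ) ≠ 0 → μ = lam := fun μ hμ => by
      obtain ⟨x, hx, rfl⟩ := conj_in_N F θ h0 hμ
      exact hN hx
    exact Or.inr ⟨hN, fun c hc => honly _ (by rw [hcmu c hc]; exact h0), honly⟩

theorem relIndex_eq (F : Frame O N B T1 t z s q) : O.relIndex N = q := by
  have h := (O.subgroupOf N).card_mul_index
  rw [Nat.card_congr (subgroupOfEquivOfLe F.O_le).toEquiv, F.card_N, mul_comm q] at h
  exact Nat.eq_of_mul_eq_mul_left Nat.card_pos h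

/-- No twist fixes an invariant character over one character of the core. -/
theorem twist_trivial (F : Frame O N B T1 t z s q) (hsq : ∀ a : ℕ, a * a ≠ q) {θ : IrrCharacter N}
    (hθ : Fix T1 N (E θ)) {lam : IrrCharacter O}
    (honly : ∀ μ, mu O (E θ) (E μ) ≠ 0 → μ = lam) (l : N →* ℂ) (hl : ∀ x : N, (x : G) ∈ O → l x = 1)
    (hfix : ∀ x : N, (θ : N → ℂ) x * l x = (θ : N → ℂ) x) : l = 1 := by
  classical
  have hcN : ∀ c ∈ T1, ∀ x : N, c * (x : G) * c⁻¹ ∈ N := fun c hc x => F.N_conj x.2 (F.cent_le (F.T1_le hc))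
  let U : Subgroup G :=
    { carrier := {x | ∃ hx : x ∈ N, ∀ c (hc : c ∈ T1), l ⟨_, hcN c hc ⟨x, hx⟩⟩ = 1}
      one_mem' := ⟨one_mem N, fun c hc => hl _ (by simp)⟩
      mul_mem' := fun {a b} ⟨ha, ha'⟩ ⟨hb, hb'⟩ => ⟨mul_mem ha hb, fun c hc => by
        rw [show (⟨_, hcN c hc ⟨a * b, mul_mem ha hb⟩⟩ : N) =
          ⟨_, hcN c hc ⟨a, ha⟩⟩ * ⟨_, hcN c hc ⟨b, hb⟩⟩ from
            Subtype.ext (by show c * (a * b) * c⁻¹ = c * a * c⁻¹ * (c * b * c⁻¹); group),
          map_mul, ha' c hc, hb' c hc, one_mul]⟩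
      inv_mem' := fun {a} ⟨ha, ha'⟩ => ⟨inv_mem ha, fun c hc => by
        have h1 : l ⟨_, hcN c hc ⟨a⁻¹, inv_mem ha⟩⟩ * l ⟨_, hcN c hc ⟨a, ha⟩⟩ = 1 := by
          rw [← map_mul]
          exact hl _ (by show c * a⁻¹ * c⁻¹ * (c * a * c⁻¹) ∈ O; simp [mul_assoc])
        rwa [ha' c hc, mul_one] at h1⟩ }
  have hmemU : ∀ {x : G}, x ∈ U ↔ ∃ hx : x ∈ N, ∀ c (hc : c ∈ T1), l ⟨_, hcN c hc ⟨x, hx⟩⟩ = 1 := Iff.rfl
  have hUinv : ∀ c ∈ T1, ∀ x ∈ U, c * x * c⁻¹ ∈ U := by
    intro c hc x hx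
    obtain ⟨hx', h⟩ := hmemU.1 hx
    refine hmemU.2 ⟨hcN c hc ⟨x, hx'⟩, fun d hd => ?_⟩
    have h1 := h (d * c) (mul_mem hd hc)
    refine Eq.trans (congrArg l (Subtype.ext ?_)) h1
    show d * (c * x * c⁻¹) * d⁻¹ = d * c * x * (d * c)⁻¹
    group
  rcases F.irred U (fun x hx => hmemU.2 ⟨F.O_le hx, fun c _ => hl _ (F.O_conj hx c)⟩) (fun x hx => (hmemU.1 hx).1)
    hUinv with hU | hU
  swap
  · refine MonoidHom.ext fun x => ?_
    obtain ⟨hx, h⟩ := hmemU.1 (hU.ge x.2)
    have h1 := h 1 (one_mem T1)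
    rwa [show (⟨_, hcN 1 (one_mem T1) ⟨x, hx⟩⟩ : N) = x from Subtype.ext (by simp)] at h1
  exfalso
  have hvan : ∀ n : N, (n : G) ∉ O → (θ : N → ℂ) n = 0 := by
    intro n hn
    by_contra h0
    refine hn (hU.le (hmemU.2 ⟨n.2, fun c hc => ?_⟩))
    have h := hfix ⟨_, hcN c hc n⟩
    have h1 : (θ : N → ℂ) ⟨_, hcN c hc n⟩ = (θ : N → ℂ) n := by
      rw [← E_coe θ, hθ c hc n n.2, E_coe]
    rw [h1] at h
    exact (mul_eq_left₀ h0).1 h
  have hone : ip N (E θ) (E θ) = 1 := by rw [ip_E]; simp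
  have hsplit : ∑ x : N, E θ x * conj (E θ x) = ∑ x : O, E θ x * conj (E θ x) := by
    rw [← Finset.sum_filter_of_ne (p := fun x : N => (x : G) ∈ O) (fun x _ hx => by
      by_contra h
      exact hx (by rw [E_coe, hvan x h, zero_mul]))]
    refine Finset.sum_bij' (fun x hx => (⟨(x : G), (Finset.mem_filter.1 hx).2⟩ : O))
      (fun x _ => (⟨(x : G), F.O_le x.2⟩ : N)) (fun _ _ => Finset.mem_univ _)
      (fun x _ => Finset.mem_filter.2 ⟨Finset.mem_univ _, x.2⟩) (fun _ _ => rfl) (fun _ _ => rfl) fun _ _ => rfl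
  set a := mu O (E θ) (E lam) with ha
  have hip : ip O (E θ) (E θ) = ((a * a : ℕ) : ℂ) := by
    have hch := (isCh_E θ).mono F.O_le
    obtain ⟨c, hc, hcn⟩ := IsCharacter.decompose hch
    have hca : ∀ μ, (c μ : ℂ) = mu O (E θ) (E μ) := fun μ => by
      rw [← mu_spec hch (isCh_E μ), ip, rs_E, hcn]
    rw [ip]
    conv_lhs => arg 1; rw [hc]
    rw [classInner_sum_left, Finset.sum_eq_single lam (fun μ _ hne => ?_) (by simp)]
    · rw [classInner_smul_left, hca, show classInner (lam : O → ℂ) (rs O (E θ)) = (a : ℂ) by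
        rw [← rs_E lam]
        show ip O (E lam) (E θ) = _
        rw [← ip_comm hch (isCh_E lam), mu_spec hch (isCh_E lam)]]
      push_cast
      rfl
    · rw [classInner_smul_left, hca, show mu O (E θ) (E μ) = 0 from not_ne_iff.1 fun h => hne (honly μ h),
        Nat.cast_zero, zero_mul]
  have h1 : (Nat.card N : ℂ) * ip N (E θ) (E θ) = (Nat.card O : ℂ) * ip O (E θ) (E θ) := by
    rw [ip, ip, card_mul_classInner, card_mul_classInner]
    exact hsplit
  rw [hone, hip, mul_one, F.card_N, ← Nat.cast_mul, Nat.cast_inj, mul_comm q] at h1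
  exact hsq a (Nat.eq_of_mul_eq_mul_left Nat.card_pos h1).symm

/-- The twist by a linear character trivial on the core. -/
noncomputable def twist (θ : IrrCharacter N) (l : N →* ℂ) : IrrCharacter N :=
  ⟨fun x => (θ : N → ℂ) x * l x, IsIrrCharacter.mul_linear θ.2 l⟩

/-- An invariant character over one character of the core restricts irreducibly. -/
theorem restrict_irr (F : Frame O N B T1 t z s q) (hsq : ∀ a : ℕ, a * a ≠ q) {θ : IrrCharacter N}
    (hθ : Fix T1 N (E θ)) {lam : IrrCharacter O} (h0 : mu O (E θ) (E lam) ≠ 0)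
    (honly : ∀ μ, mu O (E θ) (E μ) ≠ 0 → μ = lam) :
    mu O (E θ) (E lam) = 1 ∧ deg θ = deg lam ∧ ∀ x ∈ O, E θ x = E lam x := by
  classical
  haveI := O_subgroupOf_normal F
  set a := mu O (E θ) (E lam) with ha
  have hdeg : deg θ = a * deg lam := by
    rw [deg_eq_sum F.O_le θ, Finset.sum_eq_single lam (fun μ _ hne => ?_) (by simp)]
    rw [show mu O (E θ) (E μ) = 0 from not_ne_iff.1 fun h => hne (honly μ h), zero_mul]
  letI : CommGroup (N ⧸ O.subgroupOf N) :=
    { (inferInstance : Group (N ⧸ O.subgroupOf N)) with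
      mul_comm := fun x y => QuotientGroup.induction_on x fun x => QuotientGroup.induction_on y fun y => by
        rw [← QuotientGroup.mk_mul, ← QuotientGroup.mk_mul, QuotientGroup.eq, mem_subgroupOf]
        simpa [mul_assoc] using F.comm (y : G)⁻¹ (inv_mem y.2) (x : G)⁻¹ (inv_mem x.2) }
  let lift : ((N ⧸ O.subgroupOf N) →* ℂˣ) → (N →* ℂ) := fun l =>
    ((Units.coeHom ℂ).comp l).comp (QuotientGroup.mk' _)
  have hlift : ∀ l, ∀ x : N, (x : G) ∈ O → lift l x = 1 := fun l x hx => by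
    show ((l (QuotientGroup.mk x) : ℂˣ) : ℂ) = 1
    rw [(QuotientGroup.eq_one_iff x).2 (mem_subgroupOf.2 hx), map_one, Units.val_one]
  have hinj : Function.Injective fun l => twist θ (lift l) := by
    intro l1 l2 e
    have h := twist_trivial F hsq hθ honly (lift (l1 * l2⁻¹)) (hlift _) fun x => by
      have ex := congrFun (congrArg Subtype.val e) x
      simp only [twist] at ex
      have hmul : lift (l1 * l2⁻¹) x * lift l2 x = lift l1 x := by
        show ((l1 * l2⁻¹) (QuotientGroup.mk x) : ℂ) * (l2 (QuotientGroup.mk x) : ℂ) = _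
        rw [← Units.val_mul, MonoidHom.mul_apply, MonoidHom.inv_apply, inv_mul_cancel_right]
        rfl
      have hne : lift l2 x ≠ 0 := Units.ne_zero _
      apply mul_right_cancel₀ hne
      rw [mul_assoc, hmul, ex]
    apply mul_inv_eq_one.1
    refine MonoidHom.ext fun y => QuotientGroup.induction_on y fun x => Units.ext ?_
    exact DFunLike.congr_fun h x
  have hcard : Nat.card ((N ⧸ O.subgroupOf N) →* ℂˣ) = q := by
    have : NeZero (Monoid.exponent (N ⧸ O.subgroupOf N)) := ⟨Monoid.exponent_ne_zero_of_finite⟩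
    have : NeZero ((Monoid.exponent (N ⧸ O.subgroupOf N) : ℕ) : ℂ) := ⟨Nat.cast_ne_zero.2 (NeZero.ne _)⟩
    rw [CommGroup.card_monoidHom_of_hasEnoughRootsOfUnity, ← Subgroup.index_eq_card]
    exact relIndex_eq F
  haveI : Finite ((N ⧸ O.subgroupOf N) →* ℂˣ) := Nat.finite_of_card_ne_zero (by rw [hcard]; have := F.three_le; omega)
  have hsum := sum_mu_deg F.O_le lam
  rw [relIndex_eq F] at hsum
  have hterm : ∀ l, mu O (E (twist θ (lift l))) (E lam) * deg (twist θ (lift l)) = a * (a * deg lam) := by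
    intro l
    have hval : ∀ x ∈ O, E (twist θ (lift l)) x = E θ x := fun x hx => by
      rw [E_of_mem _ (F.O_le hx), E_of_mem _ (F.O_le hx)]
      show (θ : N → ℂ) _ * lift l _ = _
      rw [hlift l ⟨x, F.O_le hx⟩ hx, mul_one]
    have h1 : mu O (E (twist θ (lift l))) (E lam) = a := by
      rw [ha]; unfold mu; rw [ip_congr hval fun _ _ => rfl]
    have h2 : deg (twist θ (lift l)) = deg θ := by
      have := hval 1 (one_mem O)
      rw [E_one, E_one] at this
      exact_mod_cast this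
    rw [h1, h2, hdeg]
  have hle : q * (a * (a * deg lam)) ≤ q * deg lam := by
    calc q * (a * (a * deg lam))
        = ∑ l : (N ⧸ O.subgroupOf N) →* ℂˣ, mu O (E (twist θ (lift l))) (E lam) * deg (twist θ (lift l)) := by
          rw [Finset.sum_congr rfl fun l _ => hterm l, Finset.sum_const, Finset.card_univ, ← Nat.card_eq_fintype_card,
            hcard, smul_eq_mul]
      _ = ∑ χ ∈ Finset.univ.image (fun l => twist θ (lift l)), mu O (E χ) (E lam) * deg χ := by
          rw [Finset.sum_image fun _ _ _ _ h => hinj h]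
      _ ≤ ∑ χ : IrrCharacter N, mu O (E χ) (E lam) * deg χ := Finset.sum_le_sum_of_subset (Finset.subset_univ _)
      _ = q * deg lam := hsum
  have hq : 0 < q := by have := F.three_le; omega
  have h3 := Nat.le_of_mul_le_mul_left hle hq
  rw [← mul_assoc] at h3
  have h4 : a * a ≤ 1 := Nat.le_of_mul_le_mul_right (h3.trans_eq (one_mul _).symm) (deg_pos lam)
  have hapos : 0 < a := Nat.pos_of_ne_zero h0
  have ha1 : a = 1 := le_antisymm (le_trans (Nat.le_mul_self a) h4) hapos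
  refine ⟨ha1, by rw [hdeg, ha1, one_mul], fun x hx => ?_⟩
  have hch := (isCh_E θ).mono F.O_le
  obtain ⟨c, hc, hcn⟩ := IsCharacter.decompose hch
  have hca : ∀ μ, c μ = mu O (E θ) (E μ) := fun μ => by
    have h := mu_spec hch (isCh_E μ)
    rw [ip, rs_E, hcn] at h
    exact_mod_cast h
  have h1 := congrFun hc ⟨x, hx⟩
  simp only [Finset.sum_apply, Pi.smul_apply, smul_eq_mul, rs] at h1
  rw [h1, Finset.sum_eq_single lam (fun μ _ hne => ?_) (by simp), hca, ← ha, ha1, Nat.cast_one, one_mul, E_of_mem _ hx]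
  rw [hca, show mu O (E θ) (E μ) = 0 from not_ne_iff.1 fun h => hne (honly μ h), Nat.cast_zero, zero_mul]

/-- A character fixed by `t` over a fixed character of the core is unique. -/
theorem t_fixed_unique (F : Frame O N B T1 t z s q) (hsq : ∀ a : ℕ, a * a ≠ q) {θ : IrrCharacter N}
    (hθ : Fix T1 N (E θ)) {lam : IrrCharacter O} (h0 : mu O (E θ) (E lam) ≠ 0)
    (honly : ∀ μ, mu O (E θ) (E μ) ≠ 0 → μ = lam) {θ' : IrrCharacter N}
    (ht' : ∀ x ∈ N, E θ' (t * x * t⁻¹) = E θ' x) (h0' : mu O (E θ') (E lam) ≠ 0) : θ' = θ := by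
  classical
  haveI := O_subgroupOf_normal F
  let e := subgroupOfEquivOfLe F.O_le
  have hcl : ∀ κ : IrrCharacter N, mu O (E κ) (E lam) ≠ 0 →
      classInner (fun n : O.subgroupOf N => (κ : N → ℂ) n) (fun n => (lam : O → ℂ) (e n)) ≠ 0 := fun κ hκ => by
    have h := ip_subgroupOf F.O_le (E κ) (E lam)
    rw [mu_spec ((isCh_E κ).mono F.O_le) (isCh_E lam), rs_E] at h
    rw [show (fun n => (lam : O → ℂ) (e n)) = fun n : O.subgroupOf N => rs N (E lam) n from funext fun n => by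
      show (lam : O → ℂ) (e n) = E lam ((n : N) : G)
      exact (E_coe lam (e n)).symm, h]
    exact_mod_cast hκ
  obtain ⟨l, hl, hθ'⟩ := CharApp.exists_linear_twist_of_abelian_quotient (O.subgroupOf N)
    (fun x y => mem_subgroupOf.2 (F.comm x x.2 y y.2)) (IsIrrCharacter.comp_equiv lam.2 e) θ.2 θ'.2
    (hcl θ h0) (hcl θ' h0')
  have hl' : ∀ x : N, (x : G) ∈ O → l x = 1 := fun x hx => hl ⟨x, mem_subgroupOf.2 hx⟩
  have hval : ∀ x : N, (θ' : N → ℂ) x = (θ : N → ℂ) x * l x := fun x => congrFun hθ' x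
  have hsq2 : l * l = 1 := by
    refine twist_trivial F hsq hθ honly (l * l) (fun x hx => by rw [MonoidHom.mul_apply, hl' x hx, mul_one])
      fun x => ?_
    have hm : t * (x : G) * t⁻¹ ∈ N := F.N_conj x.2 (F.cent_le F.t_cent)
    have h1 : (θ' : N → ℂ) ⟨_, hm⟩ = (θ' : N → ℂ) x := by
      rw [← E_coe θ', ht' x x.2, E_coe]
    have h2 : (θ : N → ℂ) ⟨_, hm⟩ = (θ : N → ℂ) x := by
      rw [← E_coe θ, hθ t F.t_mem_T1 x x.2, E_coe]
    have h3 : l ⟨_, hm⟩ * l x = 1 := by rw [← map_mul]; exact hl' _ (F.inv x x.2)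
    rw [hval, hval, h2] at h1
    show (θ : N → ℂ) x * (l x * l x) = (θ : N → ℂ) x
    rw [← mul_assoc, ← h1, mul_assoc, h3, mul_one]
  have hl1 : l = 1 := by
    refine MonoidHom.ext fun x => ?_
    have h2 : l x * l x = 1 := DFunLike.congr_fun hsq2 x
    obtain ⟨j, hj⟩ := F.N_odd
    have h4 : l x ^ Nat.card N = 1 := by rw [← map_pow, pow_card_eq_one', map_one]
    rwa [hj, pow_succ, pow_mul, pow_two, h2, one_pow, one_mul] at h4
  exact Subtype.ext (funext fun x => by rw [hval, hl1, MonoidHom.one_apply, mul_one])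

/-- The overgroup of a normalised subgroup by `t`. -/
theorem cyc_t (F : Frame O N B T1 t z s q) (K : Subgroup G) (hK : t ∈ normalizer (K : Set G)) (htK : t ∉ K) :
    Cyc K (tM K t) t 2 := by
  refine ⟨le_sup_left, sup_le le_normalizer (zpowers_le.2 hK), le_sup_right (a := K) (mem_zpowers t),
    fun g hg => ?_, fun i => ?_⟩
  · unfold tM at hg
    rw [← SetLike.mem_coe, coe_mul_of_right_le_normalizer_left K (zpowers t) (zpowers_le.2 hK)] at hg
    obtain ⟨x, hx, y, hy, rfl⟩ := hg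
    obtain ⟨k, rfl⟩ := mem_powers_iff_mem_zpowers.2 hy
    exact ⟨k, by simpa using hx⟩
  · rw [t_pow F, ← even_iff_two_dvd]
    split_ifs with h
    · exact ⟨fun _ => h, fun _ => one_mem _⟩
    · exact ⟨fun h' => absurd h' htK, fun h' => absurd h' h⟩

/-- An extension is bounded at `t` by the constituents of the core fixed by `t`. -/
theorem norm_at_t_le (F : Frame O N B T1 t z s q) {θ : IrrCharacter N} {η : IrrCharacter (tM N t)}
    (hη : ∀ k ∈ N, E η k = E θ k) [DecidablePred fun μ : IrrCharacter O => t ∈ stab F μ] :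
    ‖E η t‖ ≤ ((∑ μ ∈ Finset.univ.filter (fun μ : IrrCharacter O => t ∈ stab F μ),
      mu O (E θ) (E μ) * deg μ : ℕ) : ℝ) := by
  classical
  have hC := cyc_t F O (F.O_norm t) (fun h => F.t_notMem (F.O_le h))
  have hle : tM O t ≤ tM N t := sup_le_sup_right F.O_le _
  have hch : IsCh (tM O t) (E η) := (isCh_E η).mono hle
  obtain ⟨c, hc, hcn⟩ := IsCharacter.decompose hch
  have hmu : ∀ κ : IrrCharacter (tM O t), mu (tM O t) (E η) (E κ) = c κ := fun κ => by
    have h := mu_spec hch (isCh_E κ)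
    rw [ip, rs_E, hcn] at h
    exact_mod_cast h.symm
  set S := Finset.univ.filter (fun μ : IrrCharacter O => t ∈ stab F μ)
  have hκ : ∀ κ : IrrCharacter (tM O t), ‖E κ t‖ ≤ ((∑ μ ∈ S, mu O (E κ) (E μ) * deg μ : ℕ) : ℝ) := by
    intro κ
    by_cases h1 : hC.twI 1 κ = κ
    · have h := hC.E_twI 1 κ hC.mem
      rw [h1, Cyc.tw, show hC.ch 1 t = -1 by
        rw [show hC.ch 1 t = zeta 2 by simpa using hC.ch_pow 1 1]
        exact IsPrimitiveRoot.eq_neg_one_of_two_right (zeta_prim two_ne_zero)] at h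
      rw [show E κ t = 0 by linear_combination h / 2, norm_zero]
      positivity
    · have h0 : hC.twI 0 κ = κ := irr_ext fun g hg => by rw [hC.E_twI 0 κ hg, Cyc.tw, hC.ch_zero, mul_one]
      have hs : mu O (E κ) (E κ) = 1 := by
        rw [hC.mu_eq_sum (isCh_E κ) (isCh_E κ), Finset.sum_range_succ, Finset.sum_range_one, hC.mu_tw, hC.mu_tw,
          if_pos h0, if_neg h1]
      have hirr : IsIrrCharacter O (rs O (E κ)) := by
        rw [isIrrCharacter_iff_norm_one ((isCh_E κ).mono hC.le)]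
        show ip O (E κ) (E κ) = 1
        rw [mu_spec ((isCh_E κ).mono hC.le) ((isCh_E κ).mono hC.le), hs, Nat.cast_one]
      let μ0 : IrrCharacter O := ⟨_, hirr⟩
      have hμ0 : ∀ x ∈ O, E μ0 x = E κ x := fun x hx => by rw [E_of_mem _ hx]; rfl
      have hmem : μ0 ∈ S := Finset.mem_filter.2 ⟨Finset.mem_univ _, (cjI_eq_iff _ _).2 fun x hx => by
        rw [hμ0 _ (F.O_conj hx t), hμ0 x hx, E_conj κ hC.mem (hC.le hx)]⟩
      have hm1 : mu O (E κ) (E μ0) = 1 := by
        rw [mu, ip_congr (f' := E μ0) (g' := E μ0) (fun x hx => (hμ0 x hx).symm) fun _ _ => rfl, ip_E]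
        simp
      have hd : deg μ0 = deg κ := by
        have h := hμ0 1 (one_mem O)
        rw [E_one, E_one] at h
        exact_mod_cast h
      obtain ⟨m, ρ, hρirr, hρ⟩ := κ.2
      have hnorm : ‖E κ t‖ ≤ (deg κ : ℝ) := by
        have h1 : E κ 1 = ((Module.finrank ℂ (Fin m → ℂ) : ℕ) : ℂ) := by
          rw [E_of_mem _ (one_mem _), ← hρ, ← Representation.char_one ρ]; rfl
        rw [E_one] at h1
        rw [E_of_mem _ hC.mem, ← hρ, show deg κ = Module.finrank ℂ (Fin m → ℂ) by exact_mod_cast h1]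
        exact norm_character_le ρ _
      refine hnorm.trans (Nat.cast_le.2 ?_)
      rw [← hd]
      refine le_trans ?_ (Finset.single_le_sum (fun μ _ => Nat.zero_le _) hmem)
      rw [hm1, one_mul]
  have hval : E η t = ∑ κ, (c κ : ℂ) * E κ t := by
    have h1 := congrFun hc ⟨t, hC.mem⟩
    simp only [Finset.sum_apply, Pi.smul_apply, smul_eq_mul, rs] at h1
    rw [h1]
    exact Finset.sum_congr rfl fun κ _ => by rw [E_of_mem _ hC.mem]
  calc ‖E η t‖ ≤ ∑ κ, (c κ : ℝ) * ((∑ μ ∈ S, mu O (E κ) (E μ) * deg μ : ℕ) : ℝ) := by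
        rw [hval]
        refine (norm_sum_le _ _).trans (Finset.sum_le_sum fun κ _ => ?_)
        rw [norm_mul, Complex.norm_natCast]
        exact mul_le_mul_of_nonneg_left (hκ κ) (Nat.cast_nonneg _)
    _ = ((∑ μ ∈ S, mu O (E θ) (E μ) * deg μ : ℕ) : ℝ) := by
        have e : ∀ μ, mu O (E θ) (E μ) = ∑ κ, c κ * mu O (E κ) (E μ) := fun μ => by
          rw [← Finset.sum_congr rfl fun κ _ => by rw [← hmu κ], ← mu_trans hC.le hch μ, mu, mu,
            ip_congr (f' := E θ) (g' := E μ) (fun x hx => hη x (F.O_le hx)) fun _ _ => rfl]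
        simp only [e, Finset.sum_mul]
        push_cast
        simp only [Finset.mul_sum]
        rw [Finset.sum_comm]
        exact Finset.sum_congr rfl fun μ _ => Finset.sum_congr rfl fun κ _ => by ring

/-- The seen degree is the size at `t`. -/
theorem Sees.norm_at_t (F : Frame O N B T1 t z s q) {θ : IrrCharacter N} {f : IrrCharacter (tA O t)}
    (h : Sees O t θ f) : ∃ η : IrrCharacter (tM N t), (∀ k ∈ N, E η k = E θ k) ∧ ‖E η t‖ = (deg f : ℝ) := by
  obtain ⟨η, hη, hf⟩ := h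
  obtain ⟨hn, hval⟩ := eq_smul_of_coef F hη f hf
  refine ⟨η, hη, ?_⟩
  have h1 := hval 1 (one_mem _)
  rw [one_mul, E_one] at h1
  rw [h1, norm_mul, hn, one_mul, Complex.norm_natCast]

theorem exists_core_constituent (F : Frame O N B T1 t z s q) (θ : IrrCharacter N) :
    ∃ μ : IrrCharacter O, mu O (E θ) (E μ) ≠ 0 := by
  obtain ⟨μ, -, hμ⟩ := Finset.exists_ne_zero_of_sum_ne_zero
    (s := Finset.univ) (f := fun μ : IrrCharacter O => mu O (E θ) (E μ) * deg μ)
    (by rw [← deg_eq_sum F.O_le θ]; exact (deg_pos θ).ne')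
  exact ⟨μ, left_ne_zero_of_mul hμ⟩

theorem wt_le_deg (F : Frame O N B T1 t z s q) (L : Finset (IrrCharacter (tA O t))) (θ : IrrCharacter N) :
    wt L θ ≤ deg θ := by
  classical
  by_cases hv : Vis L θ
  swap
  · rw [wt_eq_zero hv]; exact Nat.zero_le _
  obtain ⟨f, hfL, hf⟩ := hv
  obtain ⟨η, hη, hn⟩ := hf.norm_at_t F
  have h := norm_at_t_le F hη
  rw [hn, Nat.cast_le] at h
  rw [wt_eq F hfL hf, deg_eq_sum F.O_le θ]
  exact h.trans (Finset.sum_le_sum_of_subset (Finset.filter_subset _ _))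

/-- Where the root group moves the core character the seen degree is small. -/
theorem wt_big (F : Frame O N B T1 t z s q) (L : Finset (IrrCharacter (tA O t))) {θ : IrrCharacter N}
    {lam : IrrCharacter O} (h0 : mu O (E θ) (E lam) ≠ 0) (hbig : ∀ x ∈ N, x ∈ stab F lam → x ∈ O) :
    q * wt L θ ≤ deg θ := by
  classical
  by_cases hv : Vis L θ
  swap
  · rw [wt_eq_zero hv, mul_zero]; exact Nat.zero_le _
  obtain ⟨f, hfL, hf⟩ := hv
  obtain ⟨η, hη, hn⟩ := hf.norm_at_t F
  have h := norm_at_t_le F hη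
  rw [hn, Nat.cast_le] at h
  rw [wt_eq F hfL hf]
  refine (Nat.mul_le_mul_left q h).trans ?_
  set S := Finset.univ.filter (fun μ : IrrCharacter O => t ∈ stab F μ ∧ mu O (E θ) (E μ) ≠ 0) with hS
  have hmu : ∀ x ∈ N, mu O (E θ) (E (cjI (F.O_norm x) lam)) = mu O (E θ) (E lam) := fun x hx =>
    mu_conj _ (fun w hw => by simpa using E_conj θ (inv_mem hx) (F.O_le hw)) lam
  have hstab : ∀ x ∈ N, ∀ y ∈ N, y ∈ stab F (cjI (F.O_norm x) lam) → y ∈ O := by
    intro x hx y hy hys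
    rw [mem_stab, ← cjI_mul F, cjI_eq_cjI F] at hys
    have h1 := hbig _ (mul_mem (inv_mem (mul_mem hy hx)) hx) hys
    have e : y = (x * ((y * x)⁻¹ * x) * x⁻¹)⁻¹ := by group
    rw [e]
    exact inv_mem (F.O_conj h1 x)
  have hone : S.card ≤ 1 := by
    refine Finset.card_le_one.2 fun a ha b hb => ?_
    obtain ⟨-, hat, ha0⟩ := Finset.mem_filter.1 ha
    obtain ⟨-, hbt, hb0⟩ := Finset.mem_filter.1 hb
    obtain ⟨x0, hx0, rfl⟩ := conj_in_N F θ h0 ha0
    obtain ⟨x, hx, rfl⟩ := conj_in_N F θ ha0 hb0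
    have hxt : t * x * t⁻¹ ∈ N := F.N_conj hx (F.cent_le F.t_cent)
    set μ := cjI (F.O_norm x0) lam
    -- both `x` and `x⁻¹` move `μ` to the same character
    have h1 : cjI (F.O_norm (t * x * t⁻¹)) μ = cjI (F.O_norm x) μ := by
      rw [cjI_mul F, show cjI (F.O_norm t⁻¹) μ = μ from inv_mem hat, cjI_mul F]
      exact hbt
    have h2 : x⁻¹ * (t * x * t⁻¹) ∈ stab F μ := (cjI_eq_cjI F μ).1 h1.symm
    have h3 := hstab x0 hx0 _ (mul_mem (inv_mem hx) hxt) h2
    have h4 : x⁻¹ * x⁻¹ ∈ O := by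
      have h5 := inv_mem (mul_mem (F.inv x hx) (F.O_conj (inv_mem h3) x⁻¹))
      rwa [show (t * x * t⁻¹ * x * (x⁻¹ * (x⁻¹ * (t * x * t⁻¹))⁻¹ * x⁻¹⁻¹))⁻¹ = x⁻¹ * x⁻¹ by group] at h5
    have hxO : x ∈ O := by
      obtain ⟨j, hj⟩ := F.N_odd
      have hp : x⁻¹ ^ (2 * j + 1) = 1 := by
        rw [← hj]
        exact congrArg Subtype.val (pow_card_eq_one' (x := (⟨x⁻¹, inv_mem hx⟩ : N)))
      have h6 : (x⁻¹ * x⁻¹) ^ (j + 1) = x⁻¹ := by
        rw [← pow_two, ← pow_mul, show 2 * (j + 1) = 2 * j + 1 + 1 by ring, pow_succ, hp, one_mul]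
      exact inv_mem_iff.1 (h6 ▸ pow_mem h4 _)
    exact (O_le_stab F μ hxO).symm
  have hq := card_conjugates F lam hbig F.card_N
  have hval : ∀ μ ∈ Finset.univ.image (fun x : N => cjI (F.O_norm (x : G)) lam),
      mu O (E θ) (E μ) * deg μ = mu O (E θ) (E lam) * deg lam := fun μ hμ => by
    obtain ⟨x, -, rfl⟩ := Finset.mem_image.1 hμ
    rw [hmu x x.2, deg_cjI]
  have hsum : ∑ μ ∈ Finset.univ.filter (fun μ : IrrCharacter O => t ∈ stab F μ), mu O (E θ) (E μ) * deg μ ≤
      mu O (E θ) (E lam) * deg lam := by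
    rw [← Finset.sum_filter_ne_zero]
    refine (Finset.sum_le_card_nsmul _ _ (mu O (E θ) (E lam) * deg lam) fun μ hμ => ?_).trans ?_
    · obtain ⟨x, hx, rfl⟩ := conj_in_N F θ h0 (left_ne_zero_of_mul (Finset.mem_filter.1 hμ).2)
      exact (hval _ (Finset.mem_image.2 ⟨⟨x, hx⟩, Finset.mem_univ _, rfl⟩)).le
    · rw [smul_eq_mul]
      refine (Nat.mul_le_mul_right _ (le_trans (Finset.card_le_card fun μ hμ => ?_) hone)).trans_eq (one_mul _)
      obtain ⟨hμ1, hμ2⟩ := Finset.mem_filter.1 hμ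
      exact Finset.mem_filter.2 ⟨Finset.mem_univ _, (Finset.mem_filter.1 hμ1).2, left_ne_zero_of_mul hμ2⟩
  rw [deg_eq_sum F.O_le θ]
  refine le_trans (Nat.mul_le_mul_left q hsum) (le_trans ?_ (Finset.sum_le_sum_of_subset (Finset.subset_univ
    (Finset.univ.image fun x : N => cjI (F.O_norm (x : G)) lam))))
  rw [Finset.sum_congr rfl hval, Finset.sum_const, smul_eq_mul]
  exact Nat.mul_le_mul_right _ hq

end Cfsg.Agent.SDKeystone.Budget
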