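import Cfsg.Agent.Lib.SDKeystone.Budget.PlusFrame
import Cfsg.Agent.Lib.OW.Cyclic
import Cfsg.Agent.Lib.SDKeystone.Budget.Facts

/-!
# The characters of the root preimage seen at `t`

* `coset_sum` : sums over `N t` are sums over `A t`, `A = O ∩ C(t)`
* `coef` : the coefficient of an irreducible character of `A` in `a ↦ η (a t)`; zero or of norm at least one
* `Sees`, `Vis`, `wt`, `vis` : a character of `N` extended to one seeing an `f ∈ L` at `t`, the degree of `f`,
  and the weighted multiplicity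
* `sum_coef_le` : the weighted coefficients are bounded by the visible multiplicity
* `Vis.fixed` : visible characters are fixed by `T1`
-/

set_option autoImplicit false
set_option linter.unusedSectionVars false

namespace Cfsg.Agent.SDKeystone.Budget

open Subgroup Cfsg Cfsg.Agent.Char Cfsg.Agent.OW
open scoped ComplexConjugate

universe u

attribute [local instance 2000] Fintype.ofFinite

variable {G : Type u} [Group G] [Finite G] {O N B T1 : Subgroup G} {t z s : G} {q : ℕ}

/-- The fixed points of `t` on the core. -/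
def tA (O : Subgroup G) (t : G) : Subgroup G := O ⊓ centralizer ({t} : Set G)

/-- The overgroup with `t`. -/
def tM (N : Subgroup G) (t : G) : Subgroup G := N ⊔ zpowers t

theorem commute_of_cent {x : G} (hx : x ∈ centralizer ({t} : Set G)) : Commute x t :=
  mem_centralizer_singleton_iff.1 hx

theorem t_pow (F : Frame O N B T1 t z s q) (i : ℕ) : t ^ i = if Even i then 1 else t := by
  rcases Nat.even_or_odd i with h | h
  · rw [if_pos h]
    obtain ⟨j, rfl⟩ := h
    rw [← two_mul, pow_mul, pow_two, F.t_sq, one_pow]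
  · rw [if_neg (Nat.not_even_iff_odd.2 h)]
    obtain ⟨j, rfl⟩ := h
    rw [pow_succ, pow_mul, pow_two, F.t_sq, one_pow, one_mul]

theorem cycN (F : Frame O N B T1 t z s q) : Cyc N (tM N t) t 2 := by
  have ht : t ∈ normalizer (N : Set G) := F.cent_norm F.t_cent
  refine ⟨le_sup_left, sup_le le_normalizer (zpowers_le.2 ht), le_sup_right (a := N) (mem_zpowers t),
    fun g hg => ?_, fun i => ?_⟩
  · have key : ∀ g : G, g ∈ tM N t → g ∈ N ∨ g * t⁻¹ ∈ N := by
      intro g hg
      unfold tM at hg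
      rw [← SetLike.mem_coe, coe_mul_of_right_le_normalizer_left N (zpowers t) (zpowers_le.2 ht)] at hg
      obtain ⟨x, hx, y, hy, rfl⟩ := hg
      obtain ⟨k, rfl⟩ := mem_powers_iff_mem_zpowers.2 hy
      show x * t ^ k ∈ N ∨ x * t ^ k * t⁻¹ ∈ N
      rw [t_pow F]
      split_ifs
      · exact Or.inl (by simpa using hx)
      · exact Or.inr (by simpa using hx)
    rcases key g hg with h | h
    · exact ⟨0, by simpa using h⟩
    · exact ⟨1, by simpa using h⟩
  · rw [t_pow F, ← even_iff_two_dvd]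
    split_ifs with h
    · exact ⟨fun _ => h, fun _ => N.one_mem⟩
    · exact ⟨fun h' => absurd h' F.t_notMem, fun h' => absurd h' h⟩

theorem mem_tA {x : G} : x ∈ tA O t ↔ x ∈ O ∧ x ∈ centralizer ({t} : Set G) := Iff.rfl

theorem conj_mem_A (F : Frame O N B T1 t z s q) {c a : G} (hc : c ∈ centralizer ({t} : Set G)) (ha : a ∈ tA O t) :
    c * a * c⁻¹ ∈ tA O t :=
  mem_tA.2 ⟨F.O_conj (mem_tA.1 ha).1 c, mul_mem (mul_mem hc (mem_tA.1 ha).2) (inv_mem hc)⟩

theorem A_le (F : Frame O N B T1 t z s q) : tA O t ≤ N := inf_le_left.trans F.O_le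

theorem cycA (F : Frame O N B T1 t z s q) : Cyc (tA O t) (tM (tA O t) t) t 2 := by
  have hc : centralizer ({t} : Set G) ≤ normalizer ((tA O t : Subgroup G) : Set G) := fun c hc => by
    refine mem_normalizer_iff.2 fun x => ⟨fun hx => conj_mem_A F hc hx, fun hx => ?_⟩
    simpa [mul_assoc] using conj_mem_A F (inv_mem hc) hx
  have ht := hc F.t_cent
  refine ⟨le_sup_left, sup_le le_normalizer (zpowers_le.2 ht), le_sup_right (a := tA O t) (mem_zpowers t),
    fun g hg => ?_, fun i => ?_⟩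
  · unfold tM at hg
    rw [← SetLike.mem_coe, coe_mul_of_right_le_normalizer_left (tA O t) (zpowers t) (zpowers_le.2 ht)] at hg
    obtain ⟨x, hx, y, hy, rfl⟩ := hg
    obtain ⟨k, rfl⟩ := mem_powers_iff_mem_zpowers.2 hy
    exact ⟨k, by simpa using hx⟩
  · rw [t_pow F, ← even_iff_two_dvd]
    split_ifs with h
    · exact ⟨fun _ => h, fun _ => one_mem _⟩
    · exact ⟨fun h' => absurd (A_le F h') F.t_notMem, fun h' => absurd h' h⟩

/-- Conjugates of `a t` inside `A t` come from `A`. -/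
theorem mem_A_of_conj (F : Frame O N B T1 t z s q) {x a a' : G} (hx : x ∈ N) (ha : a ∈ tA O t) (ha' : a' ∈ tA O t)
    (h : x * (a * t) * x⁻¹ = a' * t) : x ∈ tA O t := by
  have hodd : Odd (Nat.card N) := F.N_odd
  have hp : ∀ y ∈ tA O t, (y * t) ^ Nat.card N = t := fun y hy => by
    rw [(commute_of_cent hy.2).mul_pow, t_pow F, if_neg (Nat.not_even_iff_odd.2 hodd),
      show y ^ Nat.card N = 1 from
        congrArg Subtype.val (pow_card_eq_one' (x := (⟨y, A_le F hy⟩ : N))), one_mul]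
  have h1 := congrArg (fun w => w ^ Nat.card N) h
  rw [← MulAut.conj_apply, ← map_pow, MulAut.conj_apply, hp a ha, hp a' ha'] at h1
  have hxt : x ∈ centralizer ({t} : Set G) :=
    mem_centralizer_singleton_iff.2 (mul_inv_eq_iff_eq_mul.1 h1)
  exact ⟨F.cent_N x hx hxt, hxt⟩

/-- A class function on the coset `N t` is summed on `A t`. -/
theorem coset_sum (F : Frame O N B T1 t z s q) (h : G → ℂ)
    (hinv : ∀ x ∈ N, ∀ y ∈ tM N t, h (x * y * x⁻¹) = h y) :
    (Nat.card (tA O t) : ℂ) * ∑ k : N, h (k * t) = (Nat.card N : ℂ) * ∑ a : tA O t, h (a * t) := by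
  classical
  have ht : t ∈ normalizer (N : Set G) := F.cent_norm F.t_cent
  have hmem : ∀ p : N × tA O t, (p.1 : G) * ((p.2 : G) * t) * (p.1 : G)⁻¹ * t⁻¹ ∈ N := fun p => by
    have e : (p.1 : G) * ((p.2 : G) * t) * (p.1 : G)⁻¹ * t⁻¹ =
        (p.1 : G) * (p.2 : G) * (t * (p.1 : G)⁻¹ * t⁻¹) := by group
    rw [e]
    exact mul_mem (mul_mem p.1.2 (A_le F p.2.2)) ((mem_normalizer_iff.1 ht _).1 (inv_mem p.1.2))
  let Φ : N × tA O t → N := fun p => ⟨_, hmem p⟩
  have hΦ : ∀ p, (Φ p : G) * t = (p.1 : G) * ((p.2 : G) * t) * (p.1 : G)⁻¹ := fun p =>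
    inv_mul_cancel_right _ _
  have hfib : ∀ k : N, (Finset.univ.filter fun p => Φ p = k).card ≤ Nat.card (tA O t) := by
    intro k
    rcases (Finset.univ.filter fun p => Φ p = k).eq_empty_or_nonempty with h0 | ⟨p0, hp0⟩
    · simp [h0]
    rw [Finset.mem_filter] at hp0
    have hA : ∀ p : N × tA O t, Φ p = k → (p0.1 : G)⁻¹ * p.1 ∈ tA O t := by
      intro p hp
      refine mem_A_of_conj F (mul_mem (inv_mem p0.1.2) p.1.2) p.2.2 p0.2.2 ?_
      have e := hΦ p
      rw [hp, ← hp0.2, hΦ p0] at e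
      calc (p0.1 : G)⁻¹ * p.1 * ((p.2 : G) * t) * ((p0.1 : G)⁻¹ * p.1)⁻¹
          = (p0.1 : G)⁻¹ * ((p.1 : G) * ((p.2 : G) * t) * (p.1 : G)⁻¹) * p0.1 := by group
        _ = (p0.2 : G) * t := by rw [← e]; group
    rw [Nat.card_eq_fintype_card, ← Finset.card_univ (α := tA O t)]
    refine Finset.card_le_card_of_injOn
      (fun p => if h : Φ p = k then ⟨_, hA p h⟩ else (1 : tA O t)) (fun _ _ => Finset.mem_univ _) ?_
    intro p hp p' hp' e
    simp only [Finset.coe_filter, Finset.mem_univ, true_and, Set.mem_setOf_eq] at hp hp'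
    simp only at e
    rw [dif_pos hp, dif_pos hp'] at e
    have e1 : p.1 = p'.1 := Subtype.ext (mul_left_cancel (congrArg Subtype.val e))
    refine Prod.ext e1 (Subtype.ext ?_)
    have e2 := (hΦ p).symm.trans (by rw [hp, ← hp', hΦ p'] : (Φ p : G) * t = _)
    rw [e1] at e2
    exact mul_right_cancel (mul_left_cancel (mul_right_cancel e2))
  have htot : ∑ k : N, (Finset.univ.filter fun p => Φ p = k).card = ∑ _k : N, Nat.card (tA O t) := by
    rw [← Finset.card_eq_sum_card_fiberwise fun p _ => Finset.mem_univ (Φ p), Finset.card_univ,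
      ← Nat.card_eq_fintype_card, Nat.card_prod, Finset.sum_const, Finset.card_univ, smul_eq_mul, ← Nat.card_eq_fintype_card]
  have hfib' : ∀ k : N, (Finset.univ.filter fun p => Φ p = k).card = Nat.card (tA O t) := fun k =>
    (Finset.sum_eq_sum_iff_of_le fun k _ => hfib k).1 htot k (Finset.mem_univ k)
  calc (Nat.card (tA O t) : ℂ) * ∑ k : N, h (k * t)
      = ∑ k : N, ∑ p ∈ Finset.univ.filter (fun p => Φ p = k), h ((Φ p : G) * t) := by
        rw [Finset.mul_sum]
        refine Finset.sum_congr rfl fun k _ => ?_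
        rw [Finset.sum_congr rfl (g := fun _ => h ((k : G) * t)) fun p hp => by rw [(Finset.mem_filter.1 hp).2],
          Finset.sum_const, hfib', nsmul_eq_mul]
    _ = ∑ p : N × tA O t, h ((Φ p : G) * t) :=
        Finset.sum_fiberwise Finset.univ Φ fun p => h ((Φ p : G) * t)
    _ = ∑ p : N × tA O t, h ((p.2 : G) * t) := Finset.sum_congr rfl fun p _ => by
        rw [hΦ, hinv _ p.1.2 _ (mul_mem (le_sup_left (b := zpowers t) (A_le F p.2.2))
          (le_sup_right (a := N) (mem_zpowers t)))]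
    _ = (Nat.card N : ℂ) * ∑ a : tA O t, h (a * t) := by
        rw [show (Finset.univ : Finset (N × tA O t)) = Finset.univ ×ˢ Finset.univ from (Finset.eq_univ_of_forall
          fun p => Finset.mem_product.2 ⟨Finset.mem_univ _, Finset.mem_univ _⟩).symm, Finset.sum_product]
        simp only [Finset.sum_const, Finset.card_univ, nsmul_eq_mul, Nat.card_eq_fintype_card]

/-- The values of two characters of `N ⟨t⟩` on `A t`. -/
theorem ip_shift (F : Frame O N B T1 t z s q) (η η' : IrrCharacter (tM N t)) :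
    ip (tA O t) (fun a => E η (a * t)) (fun a => E η' (a * t)) =
      (Nat.card N : ℂ)⁻¹ * csum N t (E η) (E η') := by
  have h := coset_sum F (fun g => E η g * conj (E η' g)) fun x hx y hy => by
    rw [E_conj η (le_sup_left (b := zpowers t) hx) hy, E_conj η' (le_sup_left (b := zpowers t) hx) hy]
  have hA : (Nat.card (tA O t) : ℂ) ≠ 0 := Nat.cast_ne_zero.2 Nat.card_pos.ne'
  have hN : (Nat.card N : ℂ) ≠ 0 := Nat.cast_ne_zero.2 Nat.card_pos.ne'
  have hc : ip (tA O t) (fun a => E η (a * t)) (fun a => E η' (a * t)) =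
      (Nat.card (tA O t) : ℂ)⁻¹ * ∑ a : tA O t, E η (a * t) * conj (E η' (a * t)) := rfl
  rw [hc, csum]
  field_simp
  linear_combination -h

/-- The coefficient of `f` at `t`. -/
noncomputable def coef (O : Subgroup G) (t : G) (ψ : G → ℂ) (f : IrrCharacter (tA O t)) : ℂ :=
  ip (tA O t) (fun a => ψ (a * t)) (E f)

theorem linear_mul {H : Subgroup G} {f : IrrCharacter H} (hf : deg f = 1) {a b : G} (ha : a ∈ H) (hb : b ∈ H) :
    E f (a * b) = E f a * E f b := by
  have h1 : (f : H → ℂ) 1 = 1 := by rw [← E_coe f 1, OneMemClass.coe_one, E_one, hf, Nat.cast_one]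
  obtain ⟨l, hl⟩ := exists_hom_of_degree_one (IsIrrCharacter.isCharacter f.2) h1
  rw [E_of_mem _ ha, E_of_mem _ hb, E_of_mem _ (mul_mem ha hb), ← hl, ← map_mul]
  rfl

/-- A coefficient is zero or of norm at least one. -/
theorem coef_zero_or (F : Frame O N B T1 t z s q) (η : IrrCharacter (tM N t)) (f : IrrCharacter (tA O t)) :
    coef O t (E η) f = 0 ∨ 1 ≤ ‖coef O t (E η) f‖ := by
  classical
  have hC := cycA F
  have htM : t ∈ tM (tA O t) t := hC.mem
  have hfix : Fix (tM (tA O t) t) (tA O t) (E f) := by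
    refine Fix.sup (le_normalizer) (fun x hx => hC.norm (le_sup_right (a := tA O t) hx)) (fix_of_le f le_rfl) ?_
    intro r hr h hh
    obtain ⟨k, rfl⟩ := mem_powers_iff_mem_zpowers.2 hr
    have hk : Commute (t ^ k) h := ((commute_of_cent hh.2).pow_right k).symm
    rw [hk.eq, mul_inv_cancel_right]
  obtain ⟨g, hg⟩ := OW.exists_ext hC.le hC.norm htM hC.gen f hfix
  have htc : ∀ x : tM (tA O t) t, x * ⟨t, htM⟩ = ⟨t, htM⟩ * x := fun x => by
    refine Subtype.ext ?_
    obtain ⟨i, hi⟩ := hC.gen x x.2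
    have h1 : Commute ((x : G) * (t ^ i)⁻¹) t := commute_of_cent (mem_tA.1 hi).2
    have h2 := h1.mul_left (Commute.refl t |>.pow_left i)
    rwa [inv_mul_cancel_right] at h2
  obtain ⟨ε, hε, hgt⟩ : ∃ ε : ℂ, ‖ε‖ = 1 ∧ ∀ a ∈ tA O t, E g (a * t) = ε * E f a := by
    rcases apply_central_inv g.2 (z := (⟨t, htM⟩ : tM (tA O t) t)) (Subtype.ext F.t_sq) htc with h | h
    · refine ⟨1, norm_one, fun a ha => ?_⟩
      rw [one_mul, ← hg a ha, (commute_of_cent (mem_tA.1 ha).2).eq, E_of_mem _ (mul_mem htM (hC.le ha)),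
        E_of_mem _ (hC.le ha)]
      exact h ⟨a, hC.le ha⟩
    · refine ⟨-1, by simp, fun a ha => ?_⟩
      rw [neg_one_mul, ← hg a ha, (commute_of_cent (mem_tA.1 ha).2).eq, E_of_mem _ (mul_mem htM (hC.le ha)),
        E_of_mem _ (hC.le ha)]
      exact h ⟨a, hC.le ha⟩
  have hle : tM (tA O t) t ≤ tM N t := sup_le_sup_right (A_le F) _
  have h1 : csum (tA O t) t (E η) (E g) = (Nat.card (tA O t) : ℂ) * (coef O t (E η) f * conj ε) := by
    rw [coef, csum, ← mul_assoc, show (Nat.card (tA O t) : ℂ) * ip (tA O t) (fun a => E η (a * t)) (E f) =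
      ∑ a : tA O t, E η (a * t) * conj (E f a) by
        rw [ip, card_mul_classInner]; rfl, Finset.sum_mul]
    refine Finset.sum_congr rfl fun a _ => ?_
    rw [hgt a a.2, map_mul]
    ring
  rw [hC.csum_eq htM, Finset.sum_range_succ, Finset.sum_range_one] at h1
  have hη : IsCh (tM (tA O t) t) (E η) := (isCh_E η).mono hle
  rw [mu_spec (hC.isCh_tw 0 hη) (isCh_E g), mu_spec (hC.isCh_tw 1 hη) (isCh_E g)] at h1
  have hch : ∀ j, hC.ch j t = zeta 2 ^ j := fun j => by simpa using hC.ch_pow j 1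
  rw [hch, hch, pow_zero, pow_one, show zeta 2 = -1 from IsPrimitiveRoot.eq_neg_one_of_two_right (zeta_prim two_ne_zero),
    map_one, map_neg, map_one, one_mul, neg_one_mul] at h1
  have h2 := congrArg (fun w : ℂ => ‖w‖) (mul_left_cancel₀ (Nat.cast_ne_zero.2 Nat.card_pos.ne') h1)
  simp only [norm_mul, Complex.norm_conj, hε, mul_one] at h2
  set m0 := mu (tM (tA O t) t) (hC.tw 0 (E η)) (E g)
  set m1 := mu (tM (tA O t) t) (hC.tw 1 (E η)) (E g)
  rcases eq_or_ne m0 m1 with e | e
  · left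
    rw [e, add_neg_cancel, norm_zero] at h2
    exact norm_eq_zero.1 h2.symm
  · right
    rw [← h2, show (m0 : ℂ) + -(m1 : ℂ) = (((m0 : ℤ) - m1 : ℤ) : ℂ) by push_cast; ring, Complex.norm_intCast]
    have h3 : (1 : ℤ) ≤ |(m0 : ℤ) - m1| := Int.one_le_abs (by omega)
    rw [← Int.cast_abs]
    exact_mod_cast h3

theorem eq_smul_of_coef (F : Frame O N B T1 t z s q) {θ : IrrCharacter N} {η : IrrCharacter (tM N t)}
    (hη : ∀ k ∈ N, E η k = E θ k) (f : IrrCharacter (tA O t))
    (h : coef O t (E η) f ≠ 0) :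
    ‖coef O t (E η) f‖ = 1 ∧ ∀ a ∈ tA O t, E η (a * t) = coef O t (E η) f * E f a := by
  have hr : ip (tA O t) (fun a => E η (a * t)) (fun a => E η (a * t)) = 1 := by
    rw [ip_shift F, (cycN F).csum_ext_self hη (cycN F).mem, inv_mul_cancel₀ (Nat.cast_ne_zero.2 Nat.card_pos.ne')]
  set c := coef O t (E η) f with hc
  set r : ↥(tA O t) → ℂ := rs (tA O t) (fun a => E η (a * t)) with hr'
  set e : ↥(tA O t) → ℂ := rs (tA O t) (E f)
  have hee : classInner e e = 1 := by
    show classInner (rs (tA O t) (E f)) (rs (tA O t) (E f)) = 1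
    rw [rs_E, classInner_irr_self f.2]
  have hre : classInner r e = c := rfl
  have her : classInner e r = conj c := by rw [← classInner_conj_symm, hre]
  have hrr : classInner r r = 1 := hr
  have hd : classInner (r - c • e) (r - c • e) = 1 - c * conj c := by
    rw [classInner_sub_left, classInner_sub_right, classInner_sub_right, classInner_smul_left, classInner_smul_left,
      classInner_smul_right, classInner_smul_right, hee, hre, her, hrr]
    ring
  have hge : 0 ≤ (classInner (r - c • e) (r - c • e)).re := classInner_self_re_nonneg _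
  rw [hd, Complex.mul_conj'] at hge
  norm_cast at hge
  have h1 : 1 ≤ ‖c‖ := (coef_zero_or F η f).resolve_left h
  have hn : ‖c‖ = 1 := by nlinarith
  refine ⟨hn, fun a ha => ?_⟩
  rw [Complex.mul_conj', hn, Complex.ofReal_one, one_pow, sub_self, classInner_self_eq_zero] at hd
  exact sub_eq_zero.1 (congrFun hd ⟨a, ha⟩)

/-- A character of `N` extended to one seeing `f` at `t`. -/
def Sees (O : Subgroup G) (t : G) (θ : IrrCharacter N) (f : IrrCharacter (tA O t)) : Prop :=
  ∃ η : IrrCharacter (tM N t), (∀ k ∈ N, E η k = E θ k) ∧ coef O t (E η) f ≠ 0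

/-- A visible character of `N`. -/
def Vis (L : Finset (IrrCharacter (tA O t))) (θ : IrrCharacter N) : Prop := ∃ f ∈ L, Sees O t θ f

open scoped Classical in
/-- The degree seen at `t`. -/
noncomputable def wt (L : Finset (IrrCharacter (tA O t))) (θ : IrrCharacter N) : ℕ :=
  ∑ f ∈ L.filter (fun f => Sees O t θ f), deg f

/-- The weighted multiplicity of the visible characters. -/
noncomputable def vis (N : Subgroup G) (L : Finset (IrrCharacter (tA O t))) (ψ : G → ℂ) : ℕ :=
  ∑ θ : IrrCharacter N, mu N ψ (E θ) * wt L θ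

theorem wt_eq_zero {L : Finset (IrrCharacter (tA O t))} {θ : IrrCharacter N} (h : ¬ Vis L θ) : wt L θ = 0 := by
  classical
  rw [wt, Finset.filter_false_of_mem fun f hf hs => h ⟨f, hf, hs⟩, Finset.sum_empty]

theorem Sees.eq (F : Frame O N B T1 t z s q) {θ : IrrCharacter N} {f f' : IrrCharacter (tA O t)}
    (h : Sees O t θ f) (h' : Sees O t θ f') : f' = f := by
  classical
  obtain ⟨η, hη, hf⟩ := h
  obtain ⟨η', hη', hf'⟩ := h'
  have hC := cycN F
  obtain ⟨-, hval⟩ := eq_smul_of_coef F hη f hf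
  obtain ⟨j, hj⟩ := hC.exists_twist hη (η := η') (by
    rw [mu, ip_congr (f' := E θ) (g' := E θ) hη' (fun _ _ => rfl), ip_E]; simp)
  by_contra hne
  refine hf' ?_
  have hval' : ∀ a ∈ tA O t, E η' (a * t) * hC.ch j t = coef O t (E η) f * E f a := by
    intro a ha
    have hm : a * t ∈ tM N t := mul_mem (hC.le (A_le F ha)) hC.mem
    have h1 := hC.E_twI j η' hm
    rw [hj, Cyc.tw, hval a ha, hC.ch_mul j (hC.le (A_le F ha)) hC.mem, hC.ch_of_mem j (A_le F ha), one_mul] at h1
    exact h1.symm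
  have h2 : hC.ch j t * coef O t (E η') f' = coef O t (E η) f * ip (tA O t) (E f) (E f') := by
    unfold coef ip
    rw [← classInner_smul_left, ← classInner_smul_left]
    congr 1
    funext a
    exact (mul_comm _ _).trans (hval' a a.2)
  rw [ip_E, if_neg (Ne.symm hne), mul_zero] at h2
  refine (mul_eq_zero.1 h2).resolve_left fun h0 => ?_
  have := hC.ch_norm j t
  rw [h0, zero_mul] at this
  exact zero_ne_one this

theorem wt_eq (F : Frame O N B T1 t z s q) {L : Finset (IrrCharacter (tA O t))} {θ : IrrCharacter N}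
    {f : IrrCharacter (tA O t)} (hf : f ∈ L) (h : Sees O t θ f) : wt L θ = deg f := by
  classical
  rw [wt, Finset.sum_eq_single_of_mem f (Finset.mem_filter.2 ⟨hf, h⟩)]
  intro f' hf' hne
  exact absurd (h.eq F (Finset.mem_filter.1 hf').2) hne

/-- A character of `N ⟨t⟩` vanishes off `N` or restricts irreducibly. -/
theorem ext_or_zero (F : Frame O N B T1 t z s q) (η : IrrCharacter (tM N t)) :
    (∀ a ∈ tA O t, E η (a * t) = 0) ∨ ∃ θ : IrrCharacter N, ∀ k ∈ N, E η k = E θ k := by
  classical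
  have hC := cycN F
  by_cases h1 : hC.twI 1 η = η
  · refine Or.inl fun a ha => ?_
    have hm : a * t ∈ tM N t := mul_mem (hC.le (A_le F ha)) hC.mem
    have h := hC.E_twI 1 η hm
    rw [h1, Cyc.tw, hC.ch_mul 1 (hC.le (A_le F ha)) hC.mem, hC.ch_of_mem 1 (A_le F ha), one_mul,
      show hC.ch 1 t = -1 by
        rw [show hC.ch 1 t = zeta 2 by simpa using hC.ch_pow 1 1]
        exact IsPrimitiveRoot.eq_neg_one_of_two_right (zeta_prim two_ne_zero)] at h
    linear_combination (h : E η (a * t) = _) / 2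
  · have h0 : hC.twI 0 η = η := irr_ext fun g hg => by rw [hC.E_twI 0 η hg, Cyc.tw, hC.ch_zero, mul_one]
    have hs : mu N (E η) (E η) = 1 := by
      rw [hC.mu_eq_sum (isCh_E η) (isCh_E η), Finset.sum_range_succ, Finset.sum_range_one, hC.mu_tw, hC.mu_tw,
        if_pos h0, if_neg h1]
    have hirr : IsIrrCharacter N (rs N (E η)) := by
      rw [isIrrCharacter_iff_norm_one ((isCh_E η).mono hC.le)]
      show ip N (E η) (E η) = 1
      rw [mu_spec ((isCh_E η).mono hC.le) ((isCh_E η).mono hC.le), hs, Nat.cast_one]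
    exact Or.inr ⟨⟨_, hirr⟩, fun k hk => by rw [E_of_mem _ hk]; rfl⟩

theorem sum_coef_irr_le (F : Frame O N B T1 t z s q) (L : Finset (IrrCharacter (tA O t)))
    (η : IrrCharacter (tM N t)) : ∑ f ∈ L, ‖coef O t (E η) f‖ * (deg f : ℝ) ≤ (vis N L (E η) : ℝ) := by
  classical
  by_cases h : ∃ f ∈ L, coef O t (E η) f ≠ 0
  swap
  · push Not at h
    rw [Finset.sum_eq_zero fun f hf => by rw [h f hf, norm_zero, zero_mul]]
    positivity
  obtain ⟨f, hfL, hf⟩ := h
  rcases ext_or_zero F η with h0 | ⟨θ, hθ⟩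
  · refine absurd ?_ hf
    rw [coef, ip_congr (f' := fun _ => 0) (g' := E f) h0 fun _ _ => rfl]
    simp [ip, rs, classInner]
  obtain ⟨hn, -⟩ := eq_smul_of_coef F hθ f hf
  have hother : ∀ f' ∈ L, f' ≠ f → coef O t (E η) f' = 0 := fun f' _ hne => by
    by_contra h'
    exact hne (Sees.eq F ⟨η, hθ, hf⟩ ⟨η, hθ, h'⟩)
  rw [Finset.sum_eq_single_of_mem f hfL fun f' h1 h2 => by rw [hother f' h1 h2, norm_zero, zero_mul], hn, one_mul,
    vis]
  have hm : mu N (E η) (E θ) = 1 := by
    rw [mu, ip_congr (f' := E θ) (g' := E θ) hθ fun _ _ => rfl, ip_E]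
    simp
  have hle : deg f ≤ ∑ θ' : IrrCharacter N, mu N (E η) (E θ') * wt L θ' := by
    refine le_trans ?_ (Finset.single_le_sum (fun θ' _ => Nat.zero_le _) (Finset.mem_univ θ))
    rw [hm, one_mul, wt_eq F hfL ⟨η, hθ, hf⟩]
  exact_mod_cast hle

/-- The coefficients at `t` are paid by visible characters. -/
theorem sum_coef_le (F : Frame O N B T1 t z s q) (L : Finset (IrrCharacter (tA O t)))
    {ψ : G → ℂ} (hψ : IsCh (tM N t) ψ) : ∑ f ∈ L, ‖coef O t ψ f‖ * (deg f : ℝ) ≤ (vis N L ψ : ℝ) := by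
  classical
  have hC := cycN F
  obtain ⟨c, hc, hcn⟩ := IsCharacter.decompose hψ
  have hmu : ∀ η : IrrCharacter (tM N t), mu (tM N t) ψ (E η) = c η := fun η => by
    have h := mu_spec hψ (isCh_E η)
    rw [ip, rs_E, hcn] at h
    exact_mod_cast h.symm
  have hsum : ∀ f, coef O t ψ f = ∑ η, (c η : ℂ) * coef O t (E η) f := by
    intro f
    unfold coef ip
    rw [← Finset.sum_congr rfl fun η _ => classInner_smul_left (c η : ℂ) _ _, ← classInner_sum_left]
    congr 1
    funext a
    have hm : (a : G) * t ∈ tM N t := mul_mem (hC.le (A_le F a.2)) hC.mem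
    have h := congrFun hc ⟨_, hm⟩
    simp only [Finset.sum_apply, Pi.smul_apply, smul_eq_mul, ← fun η : IrrCharacter (tM N t) => E_coe η ⟨_, hm⟩] at h
    show ψ (a * t) = _
    rw [Finset.sum_apply]
    exact h
  calc ∑ f ∈ L, ‖coef O t ψ f‖ * (deg f : ℝ)
      ≤ ∑ f ∈ L, ∑ η, (c η : ℝ) * (‖coef O t (E η) f‖ * (deg f : ℝ)) := Finset.sum_le_sum fun f _ => by
        rw [hsum]
        refine (mul_le_mul_of_nonneg_right (norm_sum_le _ _) (Nat.cast_nonneg _)).trans (le_of_eq ?_)
        rw [Finset.sum_mul]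
        exact Finset.sum_congr rfl fun η _ => by rw [norm_mul, Complex.norm_natCast, mul_assoc]
    _ = ∑ η, (c η : ℝ) * ∑ f ∈ L, ‖coef O t (E η) f‖ * (deg f : ℝ) := by
        rw [Finset.sum_comm]
        exact Finset.sum_congr rfl fun η _ => (Finset.mul_sum _ _ _).symm
    _ ≤ ∑ η, (c η : ℝ) * (vis N L (E η) : ℝ) :=
        Finset.sum_le_sum fun η _ => mul_le_mul_of_nonneg_left (sum_coef_irr_le F L η) (Nat.cast_nonneg _)
    _ = (vis N L ψ : ℝ) := by
        unfold vis
        push_cast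
        simp only [fun θ : IrrCharacter N => mu_trans hC.le hψ θ, hmu, Finset.mul_sum]
        push_cast
        simp only [Finset.sum_mul]
        rw [Finset.sum_comm]
        exact Finset.sum_congr rfl fun θ _ => Finset.sum_congr rfl fun η _ => by ring

/-- Visible characters are fixed by `T1`. -/
theorem Vis.fixed (F : Frame O N B T1 t z s q) {L : Finset (IrrCharacter (tA O t))}
    (hinv : ∀ f ∈ L, Fix T1 (tA O t) (E f)) {θ : IrrCharacter N} (hv : Vis L θ) :
    Fix T1 N (E θ) := by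
  classical
  obtain ⟨f, hfL, η, hη, hf⟩ := hv
  obtain ⟨hn, hval⟩ := eq_smul_of_coef F hη f hf
  intro c hc1
  have hc := F.T1_le hc1
  have hcN : c ∈ normalizer (N : Set G) := F.cent_norm hc
  refine (cjI_eq_iff hcN θ).1 ?_
  have hC := cycN F
  have hconj : ∀ d ∈ centralizer ({t} : Set G), ∀ x ∈ tM N t, d * x * d⁻¹ ∈ tM N t := by
    intro d hd x hx
    obtain ⟨i, hi⟩ := hC.gen x hx
    have e : d * x * d⁻¹ = d * (x * (t ^ i)⁻¹) * d⁻¹ * t ^ i := by
      have h := ((commute_of_cent hd).pow_right i).eq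
      calc d * x * d⁻¹ = d * (x * (t ^ i)⁻¹) * d⁻¹ * (d * t ^ i * d⁻¹) := by group
        _ = d * (x * (t ^ i)⁻¹) * d⁻¹ * t ^ i := by rw [h, mul_inv_cancel_right]
    rw [e]
    exact mul_mem (hC.le ((mem_normalizer_iff.1 (F.cent_norm hd) _).1 hi)) (pow_mem hC.mem i)
  have hcM : c ∈ normalizer ((tM N t : Subgroup G) : Set G) := mem_normalizer_iff.2 fun x =>
    ⟨hconj c hc x, fun hx => by simpa [mul_assoc] using hconj c⁻¹ (inv_mem hc) _ hx⟩
  have hη' : ∀ k ∈ N, E (cjI hcM η) k = E (cjI hcN θ) k := fun k hk => by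
    rw [E_cjI, E_cjI]
    exact hη _ (by simpa using (mem_normalizer_iff.1 (inv_mem hcN) k).1 hk)
  by_contra hne
  have h0 := ip_shift F (cjI hcM η) η
  rw [hC.csum_ext_ne hη' hη hne hC.mem, mul_zero] at h0
  have h1 : ip (tA O t) (fun a => E η (a * t)) (fun a => E η (a * t)) = 1 := by
    rw [ip_shift F, hC.csum_ext_self hη hC.mem, inv_mul_cancel₀ (Nat.cast_ne_zero.2 Nat.card_pos.ne')]
  rw [ip_congr (f' := fun a => E η (a * t)) (g' := fun a => E η (a * t)) (fun a ha => ?_) fun _ _ => rfl, h1] at h0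
  · exact one_ne_zero h0
  have ha' : c⁻¹ * a * c ∈ tA O t :=
    by simpa using conj_mem_A F (inv_mem hc) ha
  rw [E_cjI, show c⁻¹ * (a * t) * c = c⁻¹ * a * c * t by
    rw [mul_assoc c⁻¹ a c, mul_assoc c⁻¹, mul_assoc c⁻¹, mul_assoc a, mul_assoc a, (commute_of_cent hc).eq],
    hval _ ha', hval a ha, ← hinv f hfL c hc1 _ ha']
  congr 2
  group

end Cfsg.Agent.SDKeystone.Budget
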