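import Cfsg.Agent.Lib.SDKeystone.Budget.PlusGeom
import Cfsg.Agent.Lib.SDKeystone.Budget.PlusVisible

/-!
# The characters seen at `t` on the core

* `seen_through` : a class function constant on the cosets of a normal subgroup sees only characters trivial on it
* `conj_pow_inner` : a power of an element of an abelian normal piece acts as an inner automorphism
* `Setting.sideKer` : the elements of `O ∩ C(t)` sent into the core by `g` after a swap
* `Setting.side_fix` : a character trivial there is fixed by `torusPow`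
* `Setting.side_value` : the value of `b` at `s a s⁻¹ t` is constant on the cosets of `sideKer`
-/

set_option autoImplicit false
set_option linter.unusedSectionVars false
set_option linter.style.haveILetI false

open scoped ComplexConjugate commutatorElement

namespace Cfsg.Agent.SDKeystone.Budget

open Subgroup Cfsg Cfsg.Agent.Char Cfsg.Agent.OW Cfsg.Agent.InvolChar

universe u v w

attribute [local instance 2000] Fintype.ofFinite

section Aux

/-- A class function constant on the cosets of `K` sees only characters with `K` in the kernel. -/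
theorem seen_through {A : Type*} [Group A] [Finite A] (K : Subgroup A) [K.Normal] {h : A → ℂ}
    (hcl : IsClassFunction A h) (hK : ∀ a, ∀ k ∈ K, h (a * k) = h a) (f : IrrCharacter A)
    (hf : classInner h (f : A → ℂ) ≠ 0) : ∀ k ∈ K, (f : A → ℂ) k = (f : A → ℂ) 1 := by
  classical
  set π := QuotientGroup.mk' K with hπ
  have hout : ∀ a : A, h (π a).out = h a := fun a => by
    obtain ⟨k, hk⟩ := QuotientGroup.mk_out_eq_mul K a
    rw [show (π a).out = a * (k : A) from hk, hK a k k.2]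
  have hclQ : IsClassFunction (A ⧸ K) (fun r : A ⧸ K => h r.out) := fun r s => by
    obtain ⟨a, rfl⟩ := QuotientGroup.mk'_surjective K r
    obtain ⟨c, rfl⟩ := QuotientGroup.mk'_surjective K s
    show h (π c * π a * (π c)⁻¹).out = h (π a).out
    rw [← map_inv, ← map_mul, ← map_mul, hout, hout]
    exact hcl a c
  have hF : h = ∑ μ : IrrCharacter (A ⧸ K),
      classInner (fun r : A ⧸ K => h r.out) (μ : A ⧸ K → ℂ) • (fun a => (μ : A ⧸ K → ℂ) (π a)) := by
    funext a
    have e := congrFun (classFunction_eq_sum hclQ) (π a)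
    simp only [Finset.sum_apply, Pi.smul_apply] at e ⊢
    rw [← e, hout]
  rw [hF, classInner_sum_left] at hf
  obtain ⟨μ, -, hμ⟩ := Finset.exists_ne_zero_of_sum_ne_zero hf
  rw [classInner_smul_left] at hμ
  have he : (fun a => (μ : A ⧸ K → ℂ) (π a)) = (f : A → ℂ) := by
    by_contra hne
    exact right_ne_zero_of_mul hμ (classInner_irr_of_ne
      (IsIrrCharacter.comp_surjective μ.2 π (QuotientGroup.mk'_surjective K)) f.2 hne)
  intro k hk
  rw [← congrFun he k, ← congrFun he 1]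
  show (μ : A ⧸ K → ℂ) (π k) = (μ : A ⧸ K → ℂ) (π 1)
  rw [show π k = 1 from (QuotientGroup.eq_one_iff k).2 hk, map_one]

/-- `τ` in a normal subgroup `T` centralising the abelian `T ∩ Y`, normalising `Y`:
`τ ^ [Y : T ∩ Y]` is inner on `Y`. -/
theorem conj_pow_inner {P : Type*} [Group P] (T Y : Subgroup P) [T.Normal] [Finite Y] {τ : P} (hτT : τ ∈ T)
    (hτY : ∀ y ∈ Y, τ * y * τ⁻¹ ∈ Y) (hcomm : ∀ a ∈ T ⊓ Y, ∀ c ∈ T ⊓ Y, Commute a c)
    (hτc : ∀ a ∈ T ⊓ Y, Commute τ a) :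
    ∃ u ∈ Y, ∀ y ∈ Y, τ ^ T.relIndex Y * y * (τ ^ T.relIndex Y)⁻¹ = u * y * u⁻¹ := by
  classical
  set W := T ⊓ Y with hW
  letI : CommGroup W :=
    { (inferInstance : Group W) with mul_comm := fun a c => Subtype.ext (hcomm a a.2 c c.2).eq }
  have hd : ∀ y ∈ Y, τ * y * τ⁻¹ * y⁻¹ ∈ W := fun y hy => mem_inf.2 ⟨by
    rw [show τ * y * τ⁻¹ * y⁻¹ = τ * (y * τ⁻¹ * y⁻¹) by group]
    exact mul_mem hτT (Normal.conj_mem inferInstance _ (inv_mem hτT) y), mul_mem (hτY y hy) (inv_mem hy)⟩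
  let d : Y → W := fun y => ⟨_, hd y y.2⟩
  have hconjW : ∀ y ∈ Y, ∀ a ∈ W, y * a * y⁻¹ ∈ W := fun y hy a ha =>
    mem_inf.2 ⟨Normal.conj_mem inferInstance a (mem_inf.1 ha).1 y,
      mul_mem (mul_mem hy (mem_inf.1 ha).2) (inv_mem hy)⟩
  let σ : Y → (W →* W) := fun y =>
    { toFun := fun a => ⟨_, hconjW y y.2 a a.2⟩
      map_one' := Subtype.ext (by simp)
      map_mul' := fun a c => Subtype.ext (by push_cast; group) }
  have hmul : ∀ y y' : Y, d (y * y') = d y * σ y (d y') := fun y y' => Subtype.ext (by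
    show τ * ((y : P) * y') * τ⁻¹ * ((y : P) * y')⁻¹ =
      τ * y * τ⁻¹ * (y : P)⁻¹ * (y * (τ * y' * τ⁻¹ * (y' : P)⁻¹) * (y : P)⁻¹)
    group)
  have hone : ∀ w : Y, (w : P) ∈ T → d w = 1 := fun w hw => Subtype.ext (by
    show τ * (w : P) * τ⁻¹ * (w : P)⁻¹ = 1
    rw [(hτc w (mem_inf.2 ⟨hw, w.2⟩)).eq, mul_inv_cancel_right, mul_inv_cancel])
  have hcoset : ∀ y y' : Y, (QuotientGroup.mk y : Y ⧸ T.subgroupOf Y) = QuotientGroup.mk y' → d y = d y' := by
    intro y y' h
    have h1 : ((y⁻¹ * y' : Y) : P) ∈ T := mem_subgroupOf.1 (QuotientGroup.eq.1 h)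
    rw [show y' = y * (y⁻¹ * y') by rw [mul_inv_cancel_left], hmul, hone _ h1, map_one, mul_one]
  set u : W := ∏ r : Y ⧸ T.subgroupOf Y, d r.out with hu
  have hk : T.relIndex Y = Fintype.card (Y ⧸ T.subgroupOf Y) := by
    rw [Subgroup.relIndex, Subgroup.index_eq_card, Nat.card_eq_fintype_card]
  refine ⟨u, (mem_inf.1 u.2).2, fun y hy => ?_⟩
  have key : u = d ⟨y, hy⟩ ^ T.relIndex Y * σ ⟨y, hy⟩ u := by
    conv_lhs => rw [hu, ← Equiv.prod_comp (Equiv.mulLeft (QuotientGroup.mk (⟨y, hy⟩ : Y) : Y ⧸ T.subgroupOf Y))]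
    rw [hu, map_prod, hk, ← Finset.card_univ, ← Finset.prod_const, ← Finset.prod_mul_distrib]
    refine Finset.prod_congr rfl fun r _ => ?_
    rw [← hmul]
    refine hcoset _ _ ?_
    rw [QuotientGroup.out_eq', Equiv.coe_mulLeft, QuotientGroup.mk_mul, QuotientGroup.out_eq']
  have hpow : ∀ j : ℕ, τ ^ j * y * (τ ^ j)⁻¹ = ((d ⟨y, hy⟩ ^ j : W) : P) * y := by
    intro j
    induction j with
    | zero => simp
    | succ j ih =>
      rw [show τ ^ (j + 1) * y * (τ ^ (j + 1))⁻¹ = τ * (τ ^ j * y * (τ ^ j)⁻¹) * τ⁻¹ by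
        rw [pow_succ']; group, ih, ← mul_assoc τ,
        (hτc _ (d ⟨y, hy⟩ ^ j).2).eq, pow_succ, Subgroup.coe_mul]
      show _ = ((d ⟨y, hy⟩ ^ j : W) : P) * (τ * y * τ⁻¹ * y⁻¹) * y
      group
  rw [hpow]
  have key' := congrArg Subtype.val key
  change (u : P) = ((d ⟨y, hy⟩ ^ T.relIndex Y : W) : P) * (y * u * y⁻¹) at key'
  rw [eq_mul_inv_of_mul_eq key'.symm]
  group

end Aux

namespace Setting

variable {G : Type u} [Group G] [Fintype G] {H : Type v} [Group H] [Finite H] {X : Type w} [MulAction H X]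
  {z t g : G} {C : Subgroup G} [Fintype C] {φ : C →* H} {Z : Subgroup H}
  {n q o : ℕ} {δ : ℤ} {b : IrrCharacter G}
variable (D : Setting X z t g C φ Z n q o δ b)
include D

theorem b_conj (x y : G) : (b : G → ℂ) (y * x * y⁻¹) = (b : G → ℂ) x :=
  IsIrrCharacter.isClassFunction b.2 x y

theorem g_comm_z {y : G} (hy : Commute t y) : Commute z (g * y * g⁻¹) := by
  have h := hy.map (MulAut.conj g)
  simp only [MulAut.conj_apply, D.g_t] at h
  exact h

theorem g_comm_t (y : C) : Commute t (g * (y : G) * g⁻¹) := by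
  have h := (D.le_cent _ y.2).map (MulAut.conj g)
  simp only [MulAut.conj_apply, D.g_z] at h
  exact h

theorem g_zy {y : G} (hy : Commute t y) : g * (y * t) * g⁻¹ = z * (g * y * g⁻¹) := by
  rw [← hy.eq, ← D.g_t]
  group

theorem swap_cT {s : C} (hs : IsSwap z t s) (y : D.cT) : s * (y : C) * s⁻¹ ∈ D.cT := by
  rw [D.mem_cT]
  have h0 : Commute ((s : G) * t * (s : G)⁻¹) ((s : G) * ((y : C) : G) * (s : G)⁻¹) :=
    (D.mem_cT.1 y.2).map (MulAut.conj (s : G))
  rcases hs with hs | hs <;> rw [hs] at h0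
  · exact h0
  have h2 : Commute z ((s : G) * ((y : C) : G) * (s : G)⁻¹) :=
    D.le_cent _ (C.mul_mem (C.mul_mem s.2 (y : C).2) (C.inv_mem s.2))
  have h3 := h0.mul_left h2.inv_left
  rw [mul_inv_cancel_right] at h3
  exact h3

/-- Conjugation by `g` after the swap, into the centraliser of `z`. -/
def sideHom {s : C} (hs : IsSwap z t s) : D.cT →* centralizer ({z} : Set G) where
  toFun y := ⟨g * ((s * (y : C) * s⁻¹ : C) : G) * g⁻¹,
    mem_centralizer_singleton_iff.2 (D.g_comm_z (D.mem_cT.1 (D.swap_cT hs y))).eq.symm⟩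
  map_one' := Subtype.ext (by simp)
  map_mul' := fun a c => Subtype.ext (by push_cast; group)

/-- The fixed points of `t` on the core inside `C ∩ C(t)`. -/
def tAi : tA φ.ker D.tC →* D.cT := Subgroup.inclusion (inf_le_right : tA φ.ker D.tC ≤ D.cT)

/-- The elements of `O ∩ C(t)` sent into the core. -/
def sideKer {s : C} (hs : IsSwap z t s) : Subgroup (tA φ.ker D.tC) :=
  ((φ.ker.map C.subtype).subgroupOf (centralizer ({z} : Set G))).comap ((D.sideHom hs).comp D.tAi)

theorem mem_sideKer {s : C} {hs : IsSwap z t s} {a : tA φ.ker D.tC} :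
    a ∈ D.sideKer hs ↔ InvT φ g (s * (a : C) * s⁻¹) := Iff.rfl

theorem coreZ_normal : ((φ.ker.map C.subtype).subgroupOf (centralizer ({z} : Set G))).Normal :=
  ⟨fun k hk y => D.conj_ker y y.2 k hk⟩

theorem cZ_normal : (C.subgroupOf (centralizer ({z} : Set G))).Normal :=
  ⟨fun k hk y => D.conj_C y y.2 k hk⟩

theorem sideKer_normal {s : C} (hs : IsSwap z t s) : (D.sideKer hs).Normal :=
  D.coreZ_normal.comap _

/-- Two elements sent into `C` commute modulo the core. -/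
theorem side_comm {s : C} (hs : IsSwap z t s) {y y' : D.cT}
    (hy : (D.sideHom hs y : G) ∈ C) (hy' : (D.sideHom hs y' : G) ∈ C) :
    ⁅D.sideHom hs y, D.sideHom hs y'⁆ ∈ (φ.ker.map C.subtype).subgroupOf (centralizer ({z} : Set G)) := by
  have htor : ∀ (x : D.cT) (hx : (D.sideHom hs x : G) ∈ C), φ ⟨_, hx⟩ ∈ centralizer ({φ D.tC} : Set H) :=
    fun x hx => mem_centralizer_singleton_iff.2
      ((show Commute (⟨_, hx⟩ : C) D.tC from Subtype.ext (D.g_comm_t _).eq.symm).map φ).eq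
  refine mem_subgroupOf.2 ⟨⁅(⟨_, hy⟩ : C), ⟨_, hy'⟩⁆, MonoidHom.mem_ker.2 ?_, rfl⟩
  rw [map_commutatorElement, commutatorElement_eq_one_iff_commute]
  exact D.line.torus_comm _ (htor y hy) _ (htor y' hy')

variable {O N B T1 : Subgroup C} {tt zz ss : C} {q' : ℕ}

/-- A character of `O ∩ C(t)` trivial on what the side sends into the core is fixed by `torusPow`. -/
theorem side_fix (F : Frame φ.ker N B T1 D.tC zz ss q') {s : C} (hs : IsSwap z t s)
    (f : IrrCharacter (tA φ.ker D.tC)) (hf : ∀ k ∈ D.sideKer hs, (f : tA φ.ker D.tC → ℂ) k = (f : tA φ.ker D.tC → ℂ) 1) :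
    Fix D.torusPow (tA φ.ker D.tC) (E f) := by
  classical
  haveI := D.sideKer_normal hs
  haveI := D.coreZ_normal
  haveI := D.cZ_normal
  set Zc := centralizer ({z} : Set G) with hZc
  set C' := C.subgroupOf Zc with hC'
  set π := QuotientGroup.mk' ((φ.ker.map C.subtype).subgroupOf Zc) with hπ
  set χ := π.comp ((D.sideHom hs).comp D.tAi) with hχ
  have hker : ∀ a : (tA φ.ker D.tC), χ a = 1 → a ∈ D.sideKer hs := fun a ha =>
    (QuotientGroup.eq_one_iff (D.sideHom hs (D.tAi a))).1 ha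
  have heq : ∀ a a' : (tA φ.ker D.tC), χ a = χ a' → (f : (tA φ.ker D.tC) → ℂ) a = (f : (tA φ.ker D.tC) → ℂ) a' := fun a a' h => by
    rw [← (trivial_on_iff f.2 (D.sideKer hs)).1 hf a' (a * a'⁻¹) (hker _ (by rw [map_mul, map_inv, h, mul_inv_cancel])),
      inv_mul_cancel_right]
  have hm : ∀ c ∈ D.cT, ∀ a ∈ (tA φ.ker D.tC), E f (c ^ (C'.index ^ 2) * a * (c ^ (C'.index ^ 2))⁻¹) = E f a := by
    intro c hc a ha
    have hA' : ∀ (j : ℕ) (x : (tA φ.ker D.tC)), c ^ j * (x : C) * (c ^ j)⁻¹ ∈ (tA φ.ker D.tC) := fun j x =>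
      conj_mem_A F (pow_mem hc j) x.2
    have hχconj : ∀ (j : ℕ) (x : (tA φ.ker D.tC)),
        χ ⟨_, hA' j x⟩ = π (D.sideHom hs ⟨c, hc⟩) ^ j * χ x * (π (D.sideHom hs ⟨c, hc⟩) ^ j)⁻¹ := by
      intro j x
      show π (D.sideHom hs (D.tAi ⟨_, hA' j x⟩)) = _
      rw [show D.tAi ⟨_, hA' j x⟩ = (⟨c, hc⟩ : D.cT) ^ j * D.tAi x * ((⟨c, hc⟩ : D.cT) ^ j)⁻¹ from Subtype.ext
        (by push_cast; rfl)]
      simp only [map_mul, map_inv, map_pow]
      rfl
    set T := C'.map π with hT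
    haveI : T.Normal := Normal.map inferInstance π (QuotientGroup.mk'_surjective _)
    set τ := π (D.sideHom hs ⟨c, hc⟩) ^ C'.index with hτ
    have hMC : (φ.ker.map C.subtype).subgroupOf Zc ≤ C' := fun x hx => by
      obtain ⟨w, -, hw⟩ := mem_map.1 (mem_subgroupOf.1 hx)
      exact mem_subgroupOf.2 (hw ▸ w.2)
    have hmemC : ∀ y : D.cT, π (D.sideHom hs y) ∈ T → (D.sideHom hs y : G) ∈ C := fun y hy => by
      obtain ⟨x, hx, e⟩ := mem_map.1 hy
      have h1 := hMC (QuotientGroup.eq.1 e)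
      have h2 := mul_mem hx h1
      rw [mul_inv_cancel_left] at h2
      exact mem_subgroupOf.1 h2
    have hτpow : τ = π (D.sideHom hs (⟨c, hc⟩ ^ C'.index)) := by rw [hτ, ← map_pow, ← map_pow]
    have hτT : τ ∈ T := by
      rw [hτ, ← map_pow]
      exact mem_map_of_mem π (pow_index_mem C' _)
    have hcom : ∀ y y' : D.cT, π (D.sideHom hs y) ∈ T → π (D.sideHom hs y') ∈ T →
        Commute (π (D.sideHom hs y)) (π (D.sideHom hs y')) := fun y y' hy hy' => by
      refine commutatorElement_eq_one_iff_commute.1 ?_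
      rw [← map_commutatorElement]
      exact (QuotientGroup.eq_one_iff _).2 (D.side_comm hs (hmemC y hy) (hmemC y' hy'))
    obtain ⟨u, hu, hinner⟩ := conj_pow_inner T χ.range hτT
      (fun y hy => by
        obtain ⟨x, rfl⟩ := hy
        exact ⟨_, hχconj _ x⟩)
      (fun y hy y' hy' => by
        obtain ⟨x, rfl⟩ := (mem_inf.1 hy).2
        obtain ⟨x', rfl⟩ := (mem_inf.1 hy').2
        exact hcom _ _ (mem_inf.1 hy).1 (mem_inf.1 hy').1)
      (fun y hy => by
        obtain ⟨x, rfl⟩ := (mem_inf.1 hy).2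
        rw [hτpow]
        exact hcom _ _ (hτpow ▸ hτT) (mem_inf.1 hy).1)
    obtain ⟨j, hj⟩ : T.relIndex χ.range ∣ C'.index := by
      refine (relIndex_dvd_index_of_normal T χ.range).trans (dvd_of_eq ?_)
      exact index_map_eq _ (QuotientGroup.mk'_surjective _) (by rw [QuotientGroup.ker_mk']; exact hMC)
    have hit : ∀ (i : ℕ), ∀ y ∈ χ.range,
        τ ^ (T.relIndex χ.range * i) * y * (τ ^ (T.relIndex χ.range * i))⁻¹ = u ^ i * y * (u ^ i)⁻¹ := by
      intro i
      induction i with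
      | zero => simp
      | succ i ih =>
        intro y hy
        rw [show τ ^ (T.relIndex χ.range * (i + 1)) * y * (τ ^ (T.relIndex χ.range * (i + 1)))⁻¹ =
          τ ^ T.relIndex χ.range * (τ ^ (T.relIndex χ.range * i) * y * (τ ^ (T.relIndex χ.range * i))⁻¹) *
            (τ ^ T.relIndex χ.range)⁻¹ by rw [mul_add, mul_one, add_comm, pow_add]; group,
          ih y hy, hinner _ (mul_mem (mul_mem (pow_mem hu i) hy) (inv_mem (pow_mem hu i))), pow_succ']
        group
    obtain ⟨a0, ha0⟩ := pow_mem hu j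
    set m2 := C'.index ^ 2 with hm2
    rw [E_of_mem f (hA' m2 ⟨a, ha⟩), E_of_mem f ha,
      heq ⟨_, hA' m2 ⟨a, ha⟩⟩ (a0 * ⟨a, ha⟩ * a0⁻¹) ?_]
    · exact IsIrrCharacter.isClassFunction f.2 _ _
    · rw [hχconj, map_mul, map_mul, map_inv, ha0, ← hit j _ ⟨_, rfl⟩, ← hj, hτ, hm2, pow_two, pow_mul]
  intro c hc1
  refine closure_induction ?_ ?_ ?_ ?_ hc1 (p := fun c _ => c ∈ D.cT ∧ ∀ a ∈ (tA φ.ker D.tC), E f (c * a * c⁻¹) = E f a) |>.2
  · rintro x (⟨c', hc', rfl⟩ | rfl)
    · exact ⟨pow_mem hc' _, hm c' hc'⟩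
    · refine ⟨D.mem_cT.2 (Commute.refl t), fun a ha => ?_⟩
      rw [← (commute_of_cent (mem_tA.1 ha).2).eq, mul_inv_cancel_right]
  · exact ⟨one_mem _, fun a _ => by rw [one_mul, inv_one, mul_one]⟩
  · rintro x y - - ⟨hx, hx'⟩ ⟨hy, hy'⟩
    refine ⟨mul_mem hx hy, fun a ha => ?_⟩
    rw [show x * y * a * (x * y)⁻¹ = x * (y * a * y⁻¹) * x⁻¹ by group, hx' _ (conj_mem_A F hy ha), hy' a ha]
  · rintro x - ⟨hx, hx'⟩
    refine ⟨inv_mem hx, fun a ha => ?_⟩
    have h := hx' _ (conj_mem_A F (inv_mem hx) ha)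
    rw [inv_inv, show x * (x⁻¹ * a * x) * x⁻¹ = a by group] at h
    rw [inv_inv, h]

/-- The value at `t` after the swap. -/
noncomputable def sideVal (b : IrrCharacter G) (s : C) (a : tA φ.ker D.tC) : ℂ :=
  (b : G → ℂ) (((s * (a : C) * s⁻¹ : C) : G) * t)

theorem sideVal_one (hδ : δ = 1) (s : C) : D.sideVal b s 1 = -(q : ℂ) := by
  have h0 : D.sideVal b s 1 = (b : G → ℂ) t := by simp [sideVal]
  rw [h0, ← D.g_z, D.b_conj, ← mul_one z]
  refine (D.b_sect 1 (by simp)).trans ?_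
  have hfx : (Nat.card (MulAction.fixedBy X (1 : H)) : ℂ) = (q : ℂ) + 1 := by
    rw [show MulAction.fixedBy X (1 : H) = Set.univ from Set.eq_univ_of_forall fun x => one_smul H x,
      Nat.card_coe_set_eq, Set.ncard_univ, D.line.card_X, Nat.cast_add, Nat.cast_one]
  rw [map_one]
  simp only [stein, WLine.fix, hδ, Int.cast_one, Int.cast_natCast, hfx]
  ring

theorem sideVal_class {s : C} (hs : IsSwap z t s) : IsClassFunction (tA φ.ker D.tC) (D.sideVal b s) := by
  intro a c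
  have hct : Commute t (((s * (c : C) * s⁻¹ : C)) : G) := D.mem_cT.1 (D.swap_cT hs (D.tAi c))
  show (b : G → ℂ) _ = (b : G → ℂ) _
  rw [← D.b_conj (((s * (a : C) * s⁻¹ : C) : G) * t) ((s * (c : C) * s⁻¹ : C) : G)]
  refine congrArg _ ?_
  rw [← mul_assoc, mul_assoc _ t, hct.inv_right.eq]
  push_cast
  group

/-- The value at `t` after the swap is constant on the cosets of `sideKer`. -/
theorem side_value {s : C} (hs : IsSwap z t s) (a : tA φ.ker D.tC) {k : tA φ.ker D.tC}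
    (hk : k ∈ D.sideKer hs) : D.sideVal b s (a * k) = D.sideVal b s a := by
  have hval : ∀ a : tA φ.ker D.tC,
      D.sideVal b s a = (b : G → ℂ) (z * (D.sideHom hs (D.tAi a) : G)) := fun a => by
    show (b : G → ℂ) _ = _
    rw [← D.b_conj (((s * (a : C) * s⁻¹ : C) : G) * t) g]
    exact congrArg _ (D.g_zy (D.mem_cT.1 (D.swap_cT hs (D.tAi a))))
  rw [hval, hval, map_mul, map_mul, Subgroup.coe_mul]
  refine D.b_const _ (D.sideHom hs (D.tAi a)).2 (fun h => D.ker_odd ?_) _ hk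
  rw [Subgroup.orderOf_coe] at h
  exact h.trans ((orderOf_map_dvd ((D.sideHom hs).comp D.tAi) a).trans
    ((Subgroup.orderOf_coe a ▸ Subgroup.orderOf_dvd_natCard φ.ker (mem_tA.1 a.2).1)))

end Setting

end Cfsg.Agent.SDKeystone.Budget
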