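import Cfsg.Agent.EqLemmas
import Cfsg.Agent.Lib.SDKeystone.Budget.ProducerSD
import Cfsg.Agent.Lib.SDBudget.EndFormula
import Cfsg.Agent.Lib.SDBudget.EndFrame
import Cfsg.Agent.Lib.GWDihedral.LocalMixed
import Cfsg.Agent.S1240

/-!
# The producer half of the semidihedral case

* `RegularSD` : regularity at the prime of `q`, the hypothesis left to the regularity budget;
* `exists_producer` : from a simple group: the data, the formula of Brauer, the setting, the diagonal element;
* `fieldPart_eq_fieldOf`, `odd_range_fieldOf`, `cZero_eq_of_three` : the links with the end game.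
-/

set_option autoImplicit false
set_option linter.unusedSectionVars false
set_option linter.style.haveILetI false

namespace Cfsg.Agent.SDKeystone.Budget

open Subgroup Cfsg Cfsg.Agent.Char Cfsg.Agent.InvolChar Cfsg.Agent.SylowCyclicSuzuki
open Cfsg.Agent.DihedralDefect (mid)
open Cfsg.Agent.PSL2 (SL2 PSL2)
open Cfsg.Agent.QGroup (Amb)
open Cfsg.Agent.QGroup.PtLine (Ax)

universe u

/-- Regularity at the prime of `q`. -/
def RegularSD (G : Type u) [Group G] : Prop :=
  ∀ (z : G) (U : Subgroup G), orderOf z = 2 → IsKleinFour U → z ∈ U →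
    ∀ (F : Type) [Field F] [Fintype F]
      (N : Subgroup (↥(centralizer ({z} : Set G)) ⧸ Cfsg.oddCore ↥(centralizer ({z} : Set G)))),
      N.Normal → Nonempty (↥N ≃* SL2 F) → Odd (Nat.card F) → ∀ p : ℕ, p.Prime → p ∣ Nat.card F →
        3 * padicValNat p (Nat.card (centralizer ({z} : Set G))) ≤
          padicValNat p (Nat.card G) + 2 * padicValNat p (Nat.card (centralizer (U : Set G)))

section

variable {H : Type u} [Group H] [Finite H] {F : Type} [Field F] [Fintype F] {N : Subgroup H} [hNn : N.Normal]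
  (e : N ≃* SL2 F)

/-- The two field parts agree. -/
theorem fieldPart_eq_fieldOf (hodd : Odd (Nat.card F)) : SDBudget.fieldPart e hodd = fieldOf e := by
  refine MonoidHom.ext fun h => ?_
  obtain ⟨g, hg⟩ := SDBudget.fieldAt_spec e hodd h
  exact (fieldVal_eq e hg).symm

/-- The field parts of a group with semidihedral Sylow 2-subgroups form a group of odd order. -/
theorem odd_range_fieldOf {S : Sylow 2 H} {z t : H} (hA : Amb S z) (hodd : Odd (Nat.card F))
    (hq : Cfsg.IsQuasiDihedral (S : Subgroup H)) (ht : t ∈ (S : Subgroup H)) (ht2 : orderOf t = 2)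
    (htz : t ≠ z) : ¬ 2 ∣ Nat.card (fieldOf e).range := by
  haveI := Fact.mk Nat.prime_two
  rw [← Subgroup.index_ker]
  exact fun h2 => S.not_dvd_index
    (h2.trans (Subgroup.index_dvd_of_le (sylow_le_diag e hA hodd hq ht ht2 htz S)))

end

variable {G : Type u} [Group G] [Fintype G]

/-- Over three elements `C₀` is the whole centraliser. -/
theorem cZero_eq_of_three {C : Subgroup G} {F : Type} [Field F] [Fintype F]
    {N : Subgroup (↥C ⧸ Cfsg.oddCore ↥C)} [N.Normal] (e : N ≃* SL2 F) (h3 : Nat.card F = 3) :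
    cZero e = C := by
  refine le_antisymm (cZero_le e) fun x hx => (mem_cZero e).2 ⟨hx, ?_⟩
  haveI := Fact.mk Nat.prime_three
  have h : Nat.card (F ≃+* F) = 1 :=
    (AutPSL.fieldAut_facts 3 1 le_rfl (by rw [← Nat.card_eq_fintype_card, h3]; norm_num)).2
  haveI := (Nat.card_eq_one_iff_unique.1 h).1
  exact MonoidHom.mem_ker.2 (Subsingleton.elim _ _)

/-- **The producer half of the semidihedral case.** -/
theorem exists_producer [IsSimpleGroup G] (S : Sylow 2 G) (hS : Cfsg.IsQuasiDihedral (S : Subgroup G))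
    (hR : RegularSD G) :
    ∃ (a r : ℕ) (σ s : G), SD S a r σ s ∧
      ∃ (F : Type) (_ : Field F) (_ : Fintype F)
        (N : Subgroup (↥(centralizer ({mid a σ} : Set G)) ⧸ Cfsg.oddCore ↥(centralizer ({mid a σ} : Set G))))
        (_ : N.Normal) (e : N ≃* SL2 F) (hodd : Odd (Nat.card F)),
        letI := axAction (restrEquiv e)
        (Nat.card F = 3 ∨ 5 ≤ Nat.card F) ∧ SDBudget.Formula (mid a σ) (Nat.card F) ∧
          ∃ (hz : mid a σ ∈ cZero e) (g : G) (o : ℕ) (b : IrrCharacter G),
            Setting (Ax F) (mid a σ) s g (cZero e) (phiZero e)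
              (zpowers (phiZero e ⟨mid a σ, hz⟩)) 1 (Nat.card F) o (if Nat.card F % 4 = 3 then 1 else -1) b ∧
            (Nat.card F % 4 = 3 → Nat.card F - 1 = 2 ^ 1 * o) ∧
            (Nat.card F % 4 ≠ 3 → Nat.card F + 1 = 2 ^ 1 * o) ∧
            ∃ (hs : s ∈ centralizer ({mid a σ} : Set G))
              (Q : Sylow 2 (↥(centralizer ({mid a σ} : Set G)) ⧸ Cfsg.oddCore ↥(centralizer ({mid a σ} : Set G)))),
              Amb Q (QuotientGroup.mk' _ ⟨mid a σ, mem_centralizer_singleton_iff.2 rfl⟩) ∧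
              SDBudget.DiagElem e hodd Q 1 (QuotientGroup.mk' _ ⟨s, hs⟩) ∧
              ¬ 2 ∣ Nat.card (fieldOf e).range := by
  classical
  haveI := Fact.mk Nat.prime_two
  obtain ⟨a, r, σ, s, h⟩ := SD.exists_of_isQuasiDihedral S hS
  refine ⟨a, r, σ, s, h, ?_⟩
  set z := mid a σ with hzdef
  set C := centralizer ({z} : Set G) with hCdef
  have hC : ∀ g, g ∈ C ↔ Commute (mid a σ) g := fun g => by
    rw [mem_centralizer_singleton_iff]; exact eq_comm
  have hz2 : orderOf z = 2 := orderOf_eq_prime (by rw [pow_two, h.tame.mid_sq]) h.tame.mid_ne_one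
  have hle := h.le_of_cent hC
  -- the normal `SL₂`
  obtain ⟨F, iF, iFt, hodd', ⟨e⟩⟩ := S1240.result S (Or.inl hS) (index_ne_two hS) (one_class hS) z hz2
  have hodd : Odd (Nat.card F) := by rwa [Nat.card_eq_fintype_card]
  refine ⟨F, iF, iFt, _root_.commutator (↥C ⧸ Cfsg.oddCore ↥C), inferInstance, e, hodd, ?_⟩
  letI := axAction (restrEquiv e)
  -- the four-group
  have hnc : ¬ IsMulCommutative G := fun hc => by
    haveI := hc
    have h1 := h.refl_conj_iI h.s_mem h.s_notMem
    rw [mul_comm' s (iI a σ), mul_inv_cancel_right, eq_inv_iff_mul_eq_one, h.iI_sq] at h1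
    exact h.tame.mid_ne_one h1
  set U : Subgroup G := closure ({z, s} : Set G) with hUdef
  have hU : IsKleinFour U :=
    GWDihedral.isKleinFour_fourV_of_commute hz2 (orderOf_s h) (Ne.symm (s_ne h)) ((hC s).1 (hle h.s_mem))
  have hzU : z ∈ U := subset_closure (Set.mem_insert _ _)
  have hUS : U ≤ (S : Subgroup G) :=
    (closure_le _).2 (Set.insert_subset h.tame.mid_mem (Set.singleton_subset_iff.2 h.s_mem))
  have hzc : ∀ x ∈ (S : Subgroup G), x * z = z * x := fun x hx => ((hC x).1 (hle hx)).eq.symm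
  have hreg := hR z U hz2 hU hzU F _ inferInstance ⟨e⟩ hodd
  have hform : SDBudget.Formula z (Nat.card F) :=
    SDBudget.formula_semidihedral hnc S hz2 h.tame.mid_mem hzc hodd e hS U hUS hU hzU hreg
  -- the character
  obtain ⟨p, hp⟩ := CharP.exists F
  obtain ⟨f, hpp, hF⟩ := FiniteField.card F p
  haveI := Fact.mk hpp
  have hq : Nat.card F = p ^ (f : ℕ) := by rw [Nat.card_eq_fintype_card, hF]
  have hp2 : p ≠ 2 := fun h2 => by
    rw [hq, h2] at hodd
    exact Nat.not_even_iff_odd.2 hodd (even_two.pow_of_ne_zero f.ne_zero)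
  obtain ⟨L, hval⟩ := QGroup.line_ax h hS hodd hC _ e
  letI : MulAction ↥C (Ax F) :=
    MulAction.compHom _ ((QGroup.rho e).comp (QuotientGroup.mk' (Cfsg.oddCore ↥C)))
  have hcube := cube_of_regular h hC L hp2 f.pos hq hval hUS hU
    (hreg p hpp (by rw [hq]; exact dvd_pow_self p f.ne_zero))
  obtain ⟨hz, g, o, b, D⟩ :=
    exists_setting e h hC hodd (commutator_eq_top_of_simple hnc) hcube
  refine ⟨?_, hform, hz, g, o, b, D, fun h4 => ?_, fun h4 => ?_, hle h.s_mem, ?_⟩
  · have := Nat.odd_iff.1 hodd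
    have := Finite.one_lt_card (α := F)
    omega
  · have h1 := D.line.q_sub
    rw [if_pos h4] at h1
    omega
  · have h1 := D.line.q_sub
    rw [if_neg h4] at h1
    omega
  · obtain ⟨Q, hA, hqQ, hsQ, hs2, hsz, -⟩ :=
      image_facts h hC (hle h.tame.mid_mem) (hle h.s_mem) (hle (h.tame.pow_mem _))
    exact ⟨Q, hA, SDBudget.exists_diagElem_qd e hodd hA hqQ hsQ hs2 hsz,
      odd_range_fieldOf e hA hodd hqQ hsQ hs2 hsz⟩

alias exists_setting_of_simple := exists_producer

end Cfsg.Agent.SDKeystone.Budget
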