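import Cfsg.Agent.Lib.SDKeystone.Budget.Main

/-!
# The degree budget: the core of `C(z)` at `t` and at a swap

* `exists_fixed` : a coset fixed by `t` of a subgroup of the core meets `C(t)`;
* `exists_cT_lift` : the torus lifts to `C ∩ C(t)`;
* `first_order`, `quadratic` : `g b g⁻¹` acts quadratically on `A = O ∩ C(t)`, into the part seen trivially;
* `invSub`, `pow_o_invT` : the elements seen trivially at `t`, of index dividing `o`;
* `scalar_normal` : an `IsScalar` constituent in normalised form;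
* `sup_commutator_le` : commutators modulo a normal part.
-/

set_option autoImplicit false
set_option linter.unusedSectionVars false
set_option linter.style.haveILetI false

open scoped ComplexConjugate commutatorElement

namespace Cfsg.Agent.SDKeystone.Budget

open Subgroup Cfsg Cfsg.Agent.Char Cfsg.Agent.InvolChar

universe u v w

/-- Commutators modulo a part normalised by the ambient subgroup. -/
theorem sup_commutator_le {Γ : Type*} [Group Γ] {K A J : Subgroup Γ} (hK : K ≤ A ⊔ J) (hA : A ≤ K)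
    (hJ : J ≤ K) (hn : ∀ k ∈ K, ∀ j ∈ J, k * j * k⁻¹ ∈ J) : ⁅K, K⁆ ≤ ⁅A, A⁆ ⊔ J := by
  haveI : (J.subgroupOf K).Normal := ⟨fun j hj k => hn k k.2 j hj⟩
  set π := QuotientGroup.mk' (J.subgroupOf K) with hπ
  have htop : (A.subgroupOf K).map π = ⊤ := by
    have h1 : A.subgroupOf K ⊔ J.subgroupOf K = ⊤ := by
      rw [← subgroupOf_sup hA hJ, subgroupOf_eq_top]
      exact hK
    have h2 := congrArg (fun S : Subgroup K => S.map π) h1
    simp only [Subgroup.map_sup] at h2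
    rw [show (J.subgroupOf K).map π = ⊥ from (Subgroup.map_eq_bot_iff _).2 (QuotientGroup.ker_mk' _).ge, sup_bot_eq,
      map_top_of_surjective π (QuotientGroup.mk'_surjective _)] at h2
    exact h2
  rw [commutator_le]
  intro a ha b hb
  have h3 : π ⁅(⟨a, ha⟩ : K), ⟨b, hb⟩⁆ ∈ ⁅(A.subgroupOf K).map π, (A.subgroupOf K).map π⁆ := by
    rw [htop, map_commutatorElement]
    exact commutator_mem_commutator (mem_top _) (mem_top _)
  rw [← map_commutator] at h3
  obtain ⟨w, hw, hwe⟩ := h3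
  have h4 : w⁻¹ * ⁅(⟨a, ha⟩ : K), ⟨b, hb⟩⁆ ∈ J.subgroupOf K := QuotientGroup.eq.1 hwe
  have h5 : (w : Γ) ∈ ⁅A, A⁆ := by
    have := mem_map_of_mem K.subtype hw
    rw [map_commutator, subgroupOf_map_subtype] at this
    exact commutator_mono inf_le_left inf_le_left this
  rw [show ⁅a, b⁆ = (w : Γ) * ((w : Γ)⁻¹ * ⁅a, b⁆) by group]
  refine mul_mem (mem_sup_left h5) (mem_sup_right ?_)
  simpa [mem_subgroupOf, commutatorElement_def] using h4

/-- The elements seen trivially by the swap. -/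
def invSub {G : Type u} [Group G] {H : Type v} [Group H] {C : Subgroup G} (φ : C →* H) (g : G) : Subgroup C :=
  ((φ.ker.map C.subtype).comap (MulAut.conj g).toMonoidHom).comap C.subtype

theorem mem_invSub {G : Type u} [Group G] {H : Type v} [Group H] {C : Subgroup G} {φ : C →* H} {g : G} {x : C} :
    x ∈ invSub φ g ↔ InvT φ g x := Iff.rfl

variable {G : Type u} [Group G] [Fintype G] {H : Type v} [Group H] [Finite H] {X : Type w} [MulAction H X]
  {z t g : G} {C : Subgroup G} [Fintype C] {φ : C →* H} {Z : Subgroup H}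
  {n q o : ℕ} {δ : ℤ} {b : IrrCharacter G}

namespace Setting

variable (D : Setting X z t g C φ Z n q o δ b)
include D

theorem tC_mul_self : D.tC * D.tC = 1 :=
  Subtype.ext (by show t * t = 1; rw [← pow_two, ← D.t2, pow_orderOf_eq_one])

theorem tC_inv : D.tC⁻¹ = D.tC := inv_eq_of_mul_eq_one_right D.tC_mul_self

theorem zC_notMem_ker : φ D.zC ≠ 1 := fun h => D.odd_order h (by
  have h1 : orderOf D.zC = 2 := (Subgroup.orderOf_coe D.zC).symm.trans D.z2
  rw [h1])

/-- A coset fixed by `t` meets `C(t)`. -/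
theorem exists_fixed {K : Subgroup C} (hK : K ≤ φ.ker) {x : C}
    (hx : x⁻¹ * (D.tC * x * D.tC⁻¹) ∈ K) : ∃ k ∈ K, x * k ∈ D.cT := by
  set k := x⁻¹ * (D.tC * x * D.tC⁻¹) with hk
  have htk : D.tC * k * D.tC⁻¹ = k⁻¹ := by
    rw [hk, D.tC_inv]
    simp only [mul_inv_rev, inv_inv, mul_assoc, D.tC_inv]
    rw [D.tC_mul_self, mul_one]
  obtain ⟨m, hm⟩ : Odd (orderOf k) := Nat.not_even_iff_odd.1 fun h => D.odd_order (hK hx) h.two_dvd
  refine ⟨k ^ (m + 1), K.pow_mem hx _, ?_⟩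
  have he : k ^ (2 * m + 1) = 1 := hm ▸ pow_orderOf_eq_one k
  have h1 : D.tC * (x * k ^ (m + 1)) * D.tC⁻¹ = x * k ^ (m + 1) := by
    calc D.tC * (x * k ^ (m + 1)) * D.tC⁻¹ = (D.tC * x * D.tC⁻¹) * (D.tC * k * D.tC⁻¹) ^ (m + 1) := by
          rw [conj_pow]; group
      _ = x * k * (k⁻¹) ^ (m + 1) := by
          rw [htk]; congr 1; rw [hk, mul_inv_cancel_left]
      _ = x * k ^ (m + 1) := by
          rw [mul_assoc]; congr 1
          rw [inv_pow, mul_inv_eq_iff_eq_mul, ← pow_add, show m + 1 + (m + 1) = 2 * m + 1 + 1 by ring,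
            pow_succ, he, one_mul]
  exact mem_centralizer_singleton_iff.2 (mul_inv_eq_iff_eq_mul.1 h1).symm

/-- The torus lifts to `C ∩ C(t)`. -/
theorem exists_cT_lift {c : C} (hc : φ c ∈ centralizer ({φ D.tC} : Set H)) : ∃ k ∈ φ.ker, c * k ∈ D.cT := by
  refine D.exists_fixed le_rfl ?_
  rw [MonoidHom.mem_ker, map_mul, map_inv, map_mul, map_mul, map_inv, ← mem_centralizer_singleton_iff.1 hc,
    mul_inv_cancel_right, inv_mul_cancel]

theorem coe_mem_cent {y : C} : (y : G) ∈ centralizer ({z} : Set G) :=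
  mem_centralizer_singleton_iff.2 (D.le_cent y y.2).eq.symm

/-- Conjugation by an element of `C(z)` keeps the derived group of the core. -/
theorem conj_derived {c : G} (hc : Commute z c) {k : G} (hk : k ∈ ⁅φ.ker, φ.ker⁆.map C.subtype) :
    c * k * c⁻¹ ∈ ⁅φ.ker, φ.ker⁆.map C.subtype := by
  rw [map_commutator] at hk ⊢
  have hle : (φ.ker.map C.subtype).map (MulAut.conj c).toMonoidHom ≤ φ.ker.map C.subtype := by
    rintro _ ⟨k, hk, rfl⟩
    exact D.conj_ker c (mem_centralizer_singleton_iff.2 hc.eq.symm) k hk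
  exact commutator_mono hle hle
    (map_commutator (φ.ker.map C.subtype) (φ.ker.map C.subtype) (MulAut.conj c).toMonoidHom ▸
      mem_map_of_mem (MulAut.conj c).toMonoidHom hk)

/-- The conjugate of an element of `C ∩ C(t)` back by the swap centralises `z` and `t`. -/
theorem back_comm {a : C} (ha : a ∈ D.cT) :
    Commute z (g⁻¹ * (a : G) * g) ∧ Commute t (g⁻¹ * (a : G) * g) := by
  constructor
  · have h := (D.mem_cT.1 ha).map (MulAut.conj g⁻¹)
    simp only [MulAut.conj_apply, inv_inv] at h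
    rw [← D.g_z] at h
    simpa [mul_assoc] using h
  · have h := (D.le_cent a a.2).map (MulAut.conj g⁻¹)
    simp only [MulAut.conj_apply, inv_inv] at h
    rw [← D.g_t] at h
    simpa [mul_assoc] using h

/-- The swap image of an element of `C` commutes with `t`. -/
theorem swap_comm_t (x : C) : Commute t (g * (x : G) * g⁻¹) := by
  have h := (D.le_cent x x.2).map (MulAut.conj g)
  simp only [MulAut.conj_apply, D.g_z] at h
  exact h

/-- The commutator with `g b g⁻¹` is seen trivially at `t`. -/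
theorem first_order {a b' a' : C} (ha : φ a = 1) (hat : a ∈ D.cT) (hb : φ b' = 1)
    (ha' : (a' : G) = g * (b' : G) * g⁻¹) :
    φ ⁅a, a'⁆ = 1 ∧ ⁅a, a'⁆ ∈ D.cT ∧ InvT φ g ⁅a, a'⁆ := by
  have ha't : a' ∈ D.cT := D.mem_cT.2 (ha' ▸ D.swap_comm_t b')
  refine ⟨by rw [map_commutatorElement, ha, commutatorElement_one_left], ?_, ?_⟩
  · rw [commutatorElement_def]; exact mul_mem (mul_mem (mul_mem hat ha't) (inv_mem hat)) (inv_mem ha't)
  obtain ⟨hkz, -⟩ := D.back_comm hat
  have hbK : (b' : G) ∈ φ.ker.map C.subtype := mem_map_of_mem _ hb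
  have h1 : ⁅g⁻¹ * (a : G) * g, (b' : G)⁆ ∈ φ.ker.map C.subtype := by
    rw [commutatorElement_def]
    exact mul_mem (D.conj_ker _ (mem_centralizer_singleton_iff.2 hkz.eq.symm) _ hbK) (inv_mem hbK)
  have hg2 : g * g ∈ centralizer ({z} : Set G) := by
    refine mem_centralizer_singleton_iff.2 ?_
    have e : g * g * z * (g * g)⁻¹ = z := by
      calc g * g * z * (g * g)⁻¹ = g * (g * z * g⁻¹) * g⁻¹ := by group
        _ = z := by rw [D.g_z, D.g_t]
    exact mul_inv_eq_iff_eq_mul.1 e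
  show g * ((⁅a, a'⁆ : C) : G) * g⁻¹ ∈ φ.ker.map C.subtype
  have e : g * ((⁅a, a'⁆ : C) : G) * g⁻¹ = (g * g) * ⁅g⁻¹ * (a : G) * g, (b' : G)⁆ * (g * g)⁻¹ := by
    simp only [commutatorElement_def, Subgroup.coe_mul, Subgroup.coe_inv, ha']
    group
  rw [e]
  exact D.conj_ker _ hg2 _ h1

/-- `g b g⁻¹` acts quadratically when `b` commutes with its conjugates. -/
theorem quadratic {a b' a' : C} (hat : a ∈ D.cT) (ha' : (a' : G) = g * (b' : G) * g⁻¹)
    (hb : ∀ k : G, Commute z k → Commute t k → Commute (k * (b' : G) * k⁻¹) (b' : G)) :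
    Commute ⁅a, a'⁆ a' := by
  obtain ⟨hkz, hkt⟩ := D.back_comm hat
  have h1 : Commute ⁅g⁻¹ * (a : G) * g, (b' : G)⁆ (b' : G) := by
    rw [commutatorElement_def]
    exact (hb _ hkz hkt).mul_left (Commute.refl (b' : G)).inv_left
  have h2 := h1.map (MulAut.conj g)
  simp only [MulAut.conj_apply] at h2
  refine Subtype.ext (Eq.trans ?_ (h2.eq.trans ?_))
  · simp only [commutatorElement_def, Subgroup.coe_mul, Subgroup.coe_inv, ha']
    group
  · simp only [commutatorElement_def, Subgroup.coe_mul, Subgroup.coe_inv, ha']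
    group

/-- The swap image of a core element of `C(t)` is in the torus. -/
theorem swap_mem_torus {x a' : C} (ha' : (a' : G) = g * (x : G) * g⁻¹) :
    a' ∈ D.cT ∧ φ a' ∈ centralizer ({φ D.tC} : Set H) := by
  have h : a' ∈ D.cT := D.mem_cT.2 (ha' ▸ D.swap_comm_t x)
  exact ⟨h, mem_centralizer_singleton_iff.2
    ((show Commute a' D.tC from mem_centralizer_singleton_iff.1 h).map φ).eq⟩

/-- The image of a core element by the swap has odd order. -/
theorem swap_odd {x a' : C} (hx : φ x = 1) (ha' : (a' : G) = g * (x : G) * g⁻¹) :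
    ¬ 2 ∣ orderOf (φ a') := fun h => D.odd_order hx (by
  have h1 : orderOf a' = orderOf x := by
    rw [← Subgroup.orderOf_coe a', ← Subgroup.orderOf_coe x, ha']
    exact orderOf_injective (MulAut.conj g).toMonoidHom (MulAut.conj g).injective (x : G)
  exact h1 ▸ h.trans (orderOf_map_dvd φ a'))

theorem pow_o_invT {x : C} (hx : φ x = 1) (hxC : g * (x : G) * g⁻¹ ∈ C) : InvT φ g (x ^ o) := by
  set a' : C := ⟨g * (x : G) * g⁻¹, hxC⟩ with ha'
  have hT := (D.swap_mem_torus (x := x) (a' := a') rfl).2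
  have h1 : orderOf (φ a') ∣ 2 ^ n * (2 ^ n * o) := D.line.torus_card ▸ Subgroup.orderOf_dvd_natCard _ hT
  have h2 : orderOf (φ a') ∣ o := by
    rw [← mul_assoc, ← pow_add] at h1
    exact ((((Nat.prime_two.coprime_iff_not_dvd).2 (D.swap_odd hx rfl)).symm).pow_right _).dvd_of_dvd_mul_left h1
  refine ⟨a' ^ o, MonoidHom.mem_ker.2 ?_, ?_⟩
  · rw [map_pow, ← orderOf_dvd_iff_pow_eq_one]; exact h2
  · simp [ha', conj_pow]

/-- Seen non-trivially at `t` means a torus image outside `Z`. -/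
theorem swap_notMem_Z {x a' : C} (hx : φ x = 1) (ha' : (a' : G) = g * (x : G) * g⁻¹) (hn : ¬ InvT φ g x) :
    φ a' ∉ Z ∧ φ a' * φ a' ∉ Z := by
  have hodd := D.swap_odd hx ha'
  have h1 : ∀ k : ℕ, ¬ (2 : ℕ) ∣ k → φ a' ^ k ∈ Z → φ a' ^ k = 1 := fun k _ hk => orderOf_eq_one_iff.1
    (Nat.eq_one_of_dvd_coprimes (((Nat.prime_two.coprime_iff_not_dvd).2 hodd).symm.pow_right n)
      (orderOf_pow_dvd k) (D.line.card_Z ▸ Subgroup.orderOf_dvd_natCard _ hk))
  have hne : φ a' ≠ 1 := fun e => hn ⟨a', e, ha'⟩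
  refine ⟨fun h => hne (by simpa using h1 1 (by norm_num) (by simpa using h)), fun h => hne ?_⟩
  obtain ⟨m, hm⟩ : Odd (orderOf (φ a')) := Nat.not_even_iff_odd.1 fun h' => hodd h'.two_dvd
  have h2 : φ a' ∈ Z := by
    have h3 := Z.pow_mem h (m + 1)
    rwa [← pow_two, ← pow_mul, show 2 * (m + 1) = (2 * m + 1) + 1 by ring, pow_succ, ← hm,
      pow_orderOf_eq_one, one_mul] at h3
  simpa using h1 1 (by norm_num) (by simpa using h2)

theorem root_conj {V : Subgroup H} {p : X} (hV : RootAt H X (φ D.tC) q V p) {τ : H}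
    (hτ : τ ∈ centralizer ({φ D.tC} : Set H)) {v : H} (hv : v ∈ V) : τ * v * τ⁻¹ ∈ V :=
  (mem_normalizer_iff.1 (hV.norm hτ) v).1 hv

/-- Normalised form of a scalar constituent. -/
theorem scalar_normal {ψ : C → ℂ} (hψ : D.IsScalar ψ) :
    ∃ (J : Subgroup C) (V : Subgroup H) (p : X), RootAt H X (φ D.tC) q V p ∧ J ≤ φ.ker ∧
      (∀ x : C, φ x = 1 → ∀ j ∈ J, x * j * x⁻¹ ∈ J) ∧ (∀ c : C, φ c ∈ V → ∀ j ∈ J, c * j * c⁻¹ ∈ J) ∧
      (∀ c ∈ D.cT, ∀ j ∈ J, c * j * c⁻¹ ∈ J) ∧ (∀ x : C, φ x = 1 → ⁅x, D.tC⁆ ∈ J) ∧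
      (∀ x : C, φ x = 1 → x ∈ D.cT → InvT φ g x → x ∈ J) ∧
      ∀ x : C, φ x = 1 → (∀ c : C, c * x * c⁻¹ ∈ J) → ψ x = ψ 1 := by
  obtain ⟨J, V, p, s, hV, hs, hJle, hJO, hJV, hJt, hJA, hker⟩ := hψ
  have hZz : ∀ v : H, Commute (φ D.zC) v := fun v => D.line.central_Z _ D.z_bar v
  -- conjugation by `s` on `t`
  obtain ⟨ζ, hζZ, hst, hsT, hζC⟩ : ∃ ζ : C, φ ζ ∈ Z ∧ s * D.tC * s⁻¹ = D.tC * ζ ∧
      (∀ y, y ∈ D.cT → s * y * s⁻¹ ∈ D.cT) ∧ ∀ y : C, Commute ζ y := by
    have hcz : ∀ y : C, Commute D.zC y := fun y => Subtype.ext (D.le_cent y y.2).eq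
    rcases hs with h | h
    · refine ⟨1, by rw [map_one]; exact one_mem _, by rw [mul_one]; exact Subtype.ext h, fun y hy => ?_,
        fun y => Commute.one_left y⟩
      rw [D.mem_cT] at hy ⊢
      have := hy.map (MulAut.conj (s : G))
      simp only [MulAut.conj_apply, h] at this
      exact this
    · refine ⟨D.zC, D.z_bar, Subtype.ext h, fun y hy => ?_, hcz⟩
      rw [D.mem_cT] at hy ⊢
      have h1 := hy.map (MulAut.conj (s : G))
      simp only [MulAut.conj_apply, h] at h1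
      have h2 := h1.mul_left (D.le_cent _ (s * y * s⁻¹ : C).2).inv_left
      rw [mul_inv_cancel_right] at h2
      exact h2
  have hsback : ∀ y, y ∈ D.cT → s⁻¹ * y * s ∈ D.cT := by
    intro y hy
    have e : s⁻¹ * (D.tC * ζ) * s = D.tC := by rw [← hst]; group
    have h0 : Commute (D.tC * ζ) y :=
      (show Commute D.tC y from (mem_centralizer_singleton_iff.1 hy).symm).mul_left (hζC y)
    have h1 := h0.map (MulAut.conj s⁻¹)
    simp only [MulAut.conj_apply, inv_inv] at h1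
    rw [e] at h1
    exact mem_centralizer_singleton_iff.2 h1.eq.symm
  -- the root group moves with `s`
  set σ := φ s with hσ
  have hσt : σ * φ D.tC * σ⁻¹ = φ D.tC * φ ζ := by rw [hσ, ← map_inv, ← map_mul, ← map_mul, hst, map_mul]
  have hzc : ∀ v, Commute (φ ζ) v := fun v => D.line.central_Z _ hζZ v
  have hcent : ∀ τ : H, τ ∈ centralizer ({φ D.tC} : Set H) ↔ σ⁻¹ * τ * σ ∈ centralizer ({φ D.tC} : Set H) := by
    intro τ
    rw [mem_centralizer_singleton_iff, mem_centralizer_singleton_iff]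
    have e : φ D.tC = σ⁻¹ * (φ D.tC * φ ζ) * σ := by rw [← hσt]; group
    constructor <;> intro h
    · have h0 : Commute τ (φ D.tC * φ ζ) := (show Commute τ (φ D.tC) from h).mul_right (hzc τ).symm
      have := (h0.map (MulAut.conj σ⁻¹)).eq
      simp only [MulAut.conj_apply, inv_inv] at this
      rwa [← e] at this
    · have := ((show Commute _ _ from h).map (MulAut.conj σ))
      simp only [MulAut.conj_apply, hσt] at this
      rw [show σ * (σ⁻¹ * τ * σ) * σ⁻¹ = τ by group] at this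
      have h2 := this.mul_right (hzc τ).inv_left.symm
      rw [mul_inv_cancel_right] at h2
      exact h2.eq
  set V' := V.map (MulAut.conj σ).toMonoidHom with hV'
  have hmem : ∀ v, v ∈ V' ↔ σ⁻¹ * v * σ ∈ V := by
    intro v
    rw [hV', mem_map_equiv]
    simp [MulAut.conj_symm_apply, mul_assoc]
  have htback : ∀ x, σ⁻¹ * (φ D.tC) * σ = φ D.tC * x → x = (φ ζ)⁻¹ := by
    intro x hx
    have e : σ⁻¹ * (φ D.tC * φ ζ) * σ = φ D.tC := by rw [← hσt]; group
    rw [show σ⁻¹ * (φ D.tC * φ ζ) * σ = (σ⁻¹ * φ D.tC * σ) * φ ζ by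
      rw [mul_assoc, mul_assoc, (hzc σ).eq]; group, hx, mul_assoc] at e
    exact eq_inv_of_mul_eq_one_left (mul_eq_left.1 e)
  have hzfix : ∀ x : X, φ ζ • x = x := (D.line.mem_Z _).1 hζZ
  have hV₁ : RootAt H X (φ D.tC) q V' (σ • p) := by
    refine ⟨?_, fun v hv => ?_, ?_, fun a ha c hc => ?_, fun v hv => ?_, fun τ hτ => ?_, fun y y' hy hy' => ?_,
      fun a ha c hc ha1 hc1 => ?_, fun M hM hle => ?_, fun M hM hle ζ' hζ' hfix => ?_,
      fun B hl hr halt hinv a ha c hc => ?_⟩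
    · have e : φ D.tC * σ = σ * (φ D.tC * (φ ζ)⁻¹) := by
        have h1 : σ * φ D.tC = φ D.tC * φ ζ * σ := by rw [← hσt]; group
        rw [← mul_assoc, h1, mul_assoc (φ D.tC * φ ζ), (hzc σ).inv_left.symm.eq, ← mul_assoc,
          mul_assoc (φ D.tC), mul_inv_cancel, mul_one]
      rw [← mul_smul, e, mul_smul, mul_smul, inv_smul_eq_iff.2 (hzfix p).symm, hV.t_fix]
    · have h1 := hV.fix _ ((hmem v).1 hv)
      rw [← smul_smul, ← smul_smul, inv_smul_eq_iff] at h1
      exact h1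
    · rw [hV', card_map_of_injective (MulAut.conj σ).injective, hV.card]
    · have h1 := (hV.comm _ ((hmem a).1 ha) _ ((hmem c).1 hc)).map (MulAut.conj σ)
      simpa [mul_assoc] using h1
    · have h1 := congrArg (MulAut.conj σ) (hV.inv _ ((hmem v).1 hv))
      simp only [MulAut.conj_apply] at h1
      have e : φ D.tC * φ ζ * v * (φ D.tC * φ ζ)⁻¹ = v⁻¹ := by
        rw [← hσt]
        refine Eq.trans ?_ (h1.trans (by group))
        group
      rwa [mul_assoc (φ D.tC), (hzc v).eq, mul_inv_rev, mul_assoc, mul_assoc, mul_inv_cancel_left,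
        ← mul_assoc] at e
    · refine mem_normalizer_fintype fun v hv => (hmem _).2 ?_
      have h1 := D.root_conj hV ((hcent τ).1 hτ) ((hmem v).1 hv)
      convert h1 using 1
      group
    · obtain ⟨v, hv, e⟩ := hV.regular (σ⁻¹ • y) (σ⁻¹ • y') (fun e => hy (inv_smul_eq_iff.1 e))
        (fun e => hy' (inv_smul_eq_iff.1 e))
      refine ⟨σ * v * σ⁻¹, mem_map_of_mem _ hv, ?_⟩
      rw [mul_smul, mul_smul, e, smul_inv_smul]
    · obtain ⟨τ, hτ, e⟩ := hV.trans _ ((hmem a).1 ha) _ ((hmem c).1 hc)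
        (fun e => ha1 (by simpa [mul_assoc] using congrArg (MulAut.conj σ) e))
        (fun e => hc1 (by simpa [mul_assoc] using congrArg (MulAut.conj σ) e))
      refine ⟨σ * τ * σ⁻¹, (hcent _).2 (by simpa [mul_assoc] using hτ), ?_⟩
      have := congrArg (MulAut.conj σ) e
      simpa [mul_assoc] using this
    · refine hV.gen M hM fun v hv => ?_
      have h1 := hM.conj_mem _ (hle (mem_map_of_mem _ hv)) σ⁻¹
      simpa [mul_assoc] using h1
    · refine hV.z_mem M hM (fun v hv => ?_) ζ' hζ' hfix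
      have h1 := hM.conj_mem _ (hle (mem_map_of_mem _ hv)) σ⁻¹
      simpa [mul_assoc] using h1
    · have hh := hV.alt_zero (fun x y => B (σ * x * σ⁻¹) (σ * y * σ⁻¹))
        (fun a ha c hc d hd => by
          have := hl _ (mem_map_of_mem _ ha) _ (mem_map_of_mem _ hc) _ (mem_map_of_mem _ hd)
          simpa [mul_assoc] using this)
        (fun a ha c hc d hd => by
          have := hr _ (mem_map_of_mem _ ha) _ (mem_map_of_mem _ hc) _ (mem_map_of_mem _ hd)
          simpa [mul_assoc] using this)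
        (fun a ha => halt _ (mem_map_of_mem _ ha))
        (fun τ hτ a ha c hc => by
          have := hinv _ ((hcent (σ * τ * σ⁻¹)).2 (by simpa [mul_assoc] using hτ)) _ (mem_map_of_mem _ ha) _
            (mem_map_of_mem _ hc)
          simpa [mul_assoc] using this) _ ((hmem a).1 ha) _ ((hmem c).1 hc)
      simpa [mul_assoc] using hh
  -- the kernel, made stable under `C ∩ C(t)`
  let J' : Subgroup C := φ.ker ⊓ ⨅ τ : D.cT, J.comap (MulAut.conj (s⁻¹ * (τ : C))).toMonoidHom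
  have mJ : ∀ x, x ∈ J' ↔ φ x = 1 ∧ ∀ τ ∈ D.cT, (s⁻¹ * τ) * x * (s⁻¹ * τ)⁻¹ ∈ J := by
    intro x
    simp only [J', mem_inf, mem_iInf, mem_comap, MonoidHom.mem_ker, MulEquiv.coe_toMonoidHom, MulAut.conj_apply,
      Subtype.forall]
  have hkc : ∀ (c : C) {x : C}, φ x = 1 → φ (c * x * c⁻¹) = 1 := fun c x hx => by
    rw [map_mul, map_mul, map_inv, hx, mul_one, mul_inv_cancel]
  refine ⟨J', V', σ • p, hV₁, inf_le_left, fun x hx j hj => ?_, fun c hc j hj => ?_, fun c hc j hj => ?_,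
    fun x hx => ?_, fun x hx hxT hxI => ?_, fun x hx hall => hker x hx fun c => ?_⟩
  · obtain ⟨hj1, hj2⟩ := (mJ j).1 hj
    refine (mJ _).2 ⟨hkc x hj1, fun τ hτ => ?_⟩
    have := hJO _ (hkc (s⁻¹ * τ) hx) _ (hj2 τ hτ)
    convert this using 1
    group
  · obtain ⟨hj1, hj2⟩ := (mJ j).1 hj
    refine (mJ _).2 ⟨hkc c hj1, fun τ hτ => ?_⟩
    have hτT : φ τ ∈ centralizer ({φ D.tC} : Set H) := mem_centralizer_singleton_iff.2
      ((show Commute τ D.tC from mem_centralizer_singleton_iff.1 hτ).map φ).eq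
    have hin : φ ((s⁻¹ * τ) * c * (s⁻¹ * τ)⁻¹) ∈ V := by
      have h1 := (hmem _).1 (D.root_conj hV₁ hτT hc)
      convert h1 using 1
      simp only [map_mul, map_inv, hσ]
      group
    have := hJV _ hin _ (hj2 τ hτ)
    convert this using 1
    group
  · obtain ⟨hj1, hj2⟩ := (mJ j).1 hj
    refine (mJ _).2 ⟨hkc c hj1, fun τ hτ => ?_⟩
    have := hj2 (τ * c) (mul_mem hτ hc)
    convert this using 1
    group
  · refine (mJ _).2 ⟨by rw [map_commutatorElement, hx, commutatorElement_one_left], fun τ hτ => ?_⟩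
    have e : (s⁻¹ * τ) * D.tC * (s⁻¹ * τ)⁻¹ = D.tC * ζ⁻¹ := by
      have h1 : τ * D.tC * τ⁻¹ = D.tC := mul_inv_eq_iff_eq_mul.2 (mem_centralizer_singleton_iff.1 hτ)
      rw [show (s⁻¹ * τ) * D.tC * (s⁻¹ * τ)⁻¹ = s⁻¹ * (τ * D.tC * τ⁻¹) * s by group, h1,
        eq_mul_inv_iff_mul_eq, show s⁻¹ * D.tC * s * ζ = s⁻¹ * (D.tC * ζ) * s by
          rw [mul_assoc, mul_assoc, ← (hζC s).eq]; group, ← hst]
      group
    rw [show (s⁻¹ * τ) * ⁅x, D.tC⁆ * (s⁻¹ * τ)⁻¹ =
      ⁅(s⁻¹ * τ) * x * (s⁻¹ * τ)⁻¹, (s⁻¹ * τ) * D.tC * (s⁻¹ * τ)⁻¹⁆ by simp only [commutatorElement_def]; group, e]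
    have hcen : ∀ y : C, ⁅y, D.tC * ζ⁻¹⁆ = ⁅y, D.tC⁆ := fun y => by
      simp only [commutatorElement_def]
      calc y * (D.tC * ζ⁻¹) * y⁻¹ * (D.tC * ζ⁻¹)⁻¹ = y * D.tC * (ζ⁻¹ * y⁻¹) * ζ * D.tC⁻¹ := by group
        _ = y * D.tC * (y⁻¹ * ζ⁻¹) * ζ * D.tC⁻¹ := by rw [((hζC y).inv_left.inv_right).eq]
        _ = y * D.tC * y⁻¹ * D.tC⁻¹ := by group
    rw [hcen]
    exact hJt _ (hkc (s⁻¹ * τ) hx)
  · refine (mJ _).2 ⟨hx, fun τ hτ => ?_⟩
    have hT : τ * x * τ⁻¹ ∈ D.cT := mul_mem (mul_mem hτ hxT) (inv_mem hτ)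
    rw [show (s⁻¹ * τ) * x * (s⁻¹ * τ)⁻¹ = s⁻¹ * (τ * x * τ⁻¹) * s by group]
    refine hJA _ (by simpa using hkc s⁻¹ (hkc τ hx)) (hsback _ hT) ?_
    rw [show s * (s⁻¹ * (τ * x * τ⁻¹) * s) * s⁻¹ = τ * x * τ⁻¹ by group]
    exact D.invT_conj hτ hxI
  · have := ((mJ _).1 (hall (s * c))).2 1 (one_mem _)
    convert this using 1
    group

end Setting

end Cfsg.Agent.SDKeystone.Budget
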