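import Cfsg.Agent.Lib.SDKeystone.Budget.Setting

/-!
# Two functional equations for the rigidity step

* `funeq_const` : `∏ i, F i (u * σ i w) = 1` for all `u w` makes every `F i` constant up to a power of `|V|`;
* `funeq_six` : the case of a second difference along `τ` of `u ↦ f (w u) * f (w u⁻¹)`;
* `perm_const` : in a translation invariant group of functions on the points of a line, satisfying the
  second difference equation on the part fixed by `t`, every function is constant up to the power `q + 1`.
-/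

set_option autoImplicit false
set_option linter.style.haveILetI false

namespace Cfsg.Agent.SDKeystone.Budget

open Function

section funeq

variable {V B ι : Type*} [CommGroup V] [Finite V] [CommGroup B] [DecidableEq ι] (σ : ι → V →* V)

theorem funeq_const (s : Finset ι)
    (hs : ∀ i ∈ s, ∀ j ∈ s, i ≠ j → ∀ w, σ i w = σ j w → w = 1) (F : ι → V → B)
    (h : ∀ u w, ∏ i ∈ s, F i (u * σ i w) = 1) :
    ∀ i ∈ s, ∀ u, F i u ^ (Nat.card V ^ s.card) = F i 1 ^ (Nat.card V ^ s.card) := by
  induction s using Finset.induction_on generalizing F with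
  | empty => simp
  | @insert j s hj ih =>
    set M := Nat.card V ^ s.card with hM
    set q := Nat.card V with hq
    have hpow : q ^ (insert j s).card = M * q := by rw [Finset.card_insert_of_notMem hj, pow_succ]
    have hmain : ∀ i ∈ s, ∀ u, F i u ^ (M * q) = F i 1 ^ (M * q) := by
      intro i hi
      have hρ : Surjective fun w => σ i w / σ j w := by
        refine Finite.surjective_of_injective fun a b hab => ?_
        have hab' : σ i a / σ j a = σ i b / σ j b := hab
        rw [div_eq_div_iff_div_eq_div, ← map_div, ← map_div] at hab'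
        exact div_eq_one.1 (hs i (Finset.mem_insert_of_mem hi) j (Finset.mem_insert_self j s)
          (fun e => hj (e ▸ hi)) _ hab')
      have hstep : ∀ u k, (F i (u * k) / F i u) ^ M = (F i k / F i 1) ^ M := by
        intro u k
        obtain ⟨a, rfl⟩ := hρ k
        have := ih (fun i hi' j' hj' => hs i (Finset.mem_insert_of_mem hi') j' (Finset.mem_insert_of_mem hj'))
          (fun l x => F l (x * (σ l a / σ j a)) / F l x) (fun x w => ?_) i hi u
        · simpa using this
        rw [Finset.prod_div_distrib]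
        have h1 := h (x / σ j a) (w * a)
        have h2 := h x w
        rw [Finset.prod_insert hj] at h1 h2
        have e : ∀ l, x / σ j a * σ l (w * a) = x * σ l w * (σ l a / σ j a) := fun l => by
          rw [map_mul, div_mul_eq_mul_div, ← mul_assoc, mul_div_assoc]
        simp only [e] at h1
        rw [div_self', mul_one] at h1
        rw [eq_inv_of_mul_eq_one_right h1, eq_inv_of_mul_eq_one_right h2, div_self']
      intro u
      set ψ : V →* B := MonoidHom.mk' (fun x => (F i x / F i 1) ^ M) (fun x y => by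
        rw [← mul_pow, mul_comm (F i x / F i 1)]
        rw [← div_mul_div_cancel (F i (x * y)) (F i x) (F i 1), mul_pow, hstep x y, ← mul_pow,
          mul_comm]) with hψ
      have h1 : ψ u ^ q = 1 := by rw [← map_pow, hq, pow_card_eq_one', map_one]
      simp only [hψ, MonoidHom.mk'_apply, ← pow_mul, div_pow] at h1
      exact div_eq_one.1 h1
    intro i hi u
    rw [hpow]
    rcases Finset.mem_insert.1 hi with rfl | hi
    · have h1 : ∀ x, F i x = (∏ l ∈ s, F l x)⁻¹ := fun x => by
        have h0 := h x 1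
        simp only [map_one, mul_one, Finset.prod_insert hj] at h0
        exact eq_inv_of_mul_eq_one_left h0
      rw [h1, h1, inv_pow, inv_pow, ← Finset.prod_pow, ← Finset.prod_pow,
        Finset.prod_congr rfl fun l hl => hmain l hl u]
    · exact hmain i hi u

end funeq

variable {V B : Type*} [CommGroup V] [Finite V] [CommGroup B]

/-- A second difference along `τ` of the symmetrised translates. -/
theorem funeq_six (hV : Odd (Nat.card V)) (τ : V ≃* V)
    (h1 : ∀ w, τ w = w → w = 1) (h1' : ∀ w, τ w = w⁻¹ → w = 1)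
    (h2 : ∀ w, τ (τ w) = w → w = 1) (h2' : ∀ w, τ (τ w) = w⁻¹ → w = 1) (f : V → B)
    (h : ∀ u w, f (u * w) * f (u * w⁻¹) * (f (u * τ (τ w)) * f (u * (τ (τ w))⁻¹)) =
      (f (u * τ w) * f (u * (τ w)⁻¹)) ^ 2) (u : V) :
    f u ^ (Nat.card V ^ 6) = f 1 ^ (Nat.card V ^ 6) := by
  classical
  let pw : Fin 3 → V →* V :=
    fun k => if k = 0 then MonoidHom.id V else if k = 1 then τ.toMonoidHom else (τ.trans τ).toMonoidHom
  let σ : Fin 3 × Bool → V →* V := fun i => if i.2 then pw i.1 else (invMonoidHom).comp (pw i.1)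
  let c : Fin 3 → ℤ := fun k => if k = 1 then -2 else 1
  let F : Fin 3 × Bool → V → B := fun i x => f x ^ c i.1
  have hsq : ∀ w : V, w = w⁻¹ → w = 1 := fun w hw => by
    obtain ⟨k, hk⟩ := hV
    have e2 : w ^ 2 = 1 := by rw [pow_two]; nth_rw 2 [hw]; exact mul_inv_cancel w
    have e1 : w ^ Nat.card V = 1 := pow_card_eq_one'
    rwa [hk, pow_succ, pow_mul, e2, one_pow, one_mul] at e1
  have hinj : ∀ w, τ w = 1 → w = 1 := fun w hw => τ.map_eq_one_iff.1 hw
  have key : ∀ i ∈ (Finset.univ : Finset (Fin 3 × Bool)), ∀ x,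
      F i x ^ (Nat.card V ^ (Finset.univ : Finset (Fin 3 × Bool)).card) =
        F i 1 ^ (Nat.card V ^ (Finset.univ : Finset (Fin 3 × Bool)).card) := by
    refine funeq_const σ Finset.univ ?_ F ?_
    · rintro ⟨k, a⟩ - ⟨l, b⟩ - hne w hw
      fin_cases k <;> fin_cases l <;> cases a <;> cases b <;>
        simp [σ, pw] at hne hw <;>
        first
        | exact hsq w hw
        | exact hsq w hw.symm
        | exact hinj _ (hsq _ hw)
        | exact hinj _ (hsq _ hw.symm)
        | exact hinj _ (hinj _ (hsq _ hw))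
        | exact hinj _ (hinj _ (hsq _ hw.symm))
        | exact h1 _ hw
        | exact h1 _ hw.symm
        | exact h1' _ hw
        | exact h1' _ hw.symm
        | exact h2 _ hw
        | exact h2 _ hw.symm
        | exact h2' _ hw
        | exact h2' _ hw.symm
        | exact hinj _ (h1 _ hw)
        | exact hinj _ (h1 _ hw.symm)
        | exact hinj _ (h1' _ hw)
        | exact hinj _ (h1' _ hw.symm)
        | exact h1' _ (inv_eq_iff_eq_inv.1 hw.symm)
        | exact h1' _ (inv_eq_iff_eq_inv.1 hw)
        | exact h2' _ (inv_eq_iff_eq_inv.1 hw.symm)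
        | exact h2' _ (inv_eq_iff_eq_inv.1 hw)
        | exact hinj _ (h1' _ (inv_eq_iff_eq_inv.1 hw.symm))
        | exact hinj _ (h1' _ (inv_eq_iff_eq_inv.1 hw))
    · intro x w
      have h0 := h x w
      rw [← mul_inv_eq_one] at h0
      rw [Fintype.prod_prod_type]
      simp [Fin.prod_univ_three, F, σ, pw, c]
      rw [← h0]
      simp [mul_comm, mul_assoc, mul_left_comm, pow_two]
  simpa [F, c, Finset.card_univ] using key (0, true) (Finset.mem_univ _) u

section perm

variable {H X : Type*} [Group H] [MulAction H X] [Finite X]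

theorem perm_const (M : Subgroup (X → B)) (hM : ∀ k : H, ∀ f ∈ M, (fun x => f (k • x)) ∈ M)
    {t τ : H} (W : Subgroup H) [Finite W] (p' u : X) (htt : t * t = 1) (htr : ∀ x, ∃ k : H, k • p' = x)
    (hfix : ∀ v ∈ W, v • p' = p') (hreg : ∀ y y', y ≠ p' → y' ≠ p' → ∃ v ∈ W, v • y = y')
    (hcard : Nat.card X = Nat.card W + 1)
    (htu : t • u ≠ u) (hu1 : τ • u ≠ u) (hu1' : τ • u ≠ t • u) (hu2 : τ • τ • u ≠ u) (hu2' : τ • τ • u ≠ t • u)
    (hrel : ∀ h ∈ M, (∀ x, h (t • x) = h x) → ∀ x, h (τ • τ • x) * h x = h (τ • x) ^ 2)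
    (f : X → B) (hf : f ∈ M) (x y : X) : f x ^ (Nat.card W + 1) = f y ^ (Nat.card W + 1) := by
  classical
  haveI := Fintype.ofFinite X
  haveI := Fintype.ofFinite W
  suffices key : ∀ f ∈ M, f p' ^ (Nat.card W + 1) = ∏ a, f a by
    have h' : ∀ x, f x ^ (Nat.card W + 1) = ∏ a, f a := fun x => by
      obtain ⟨k, rfl⟩ := htr x
      rw [key _ (hM k f hf)]
      exact Fintype.prod_equiv (MulAction.toPerm k) _ _ fun _ => rfl
    rw [h' x, h' y]
  intro f hf
  set G : X → B := ∏ v : W, fun a => f ((v : H) • a) with hG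
  have hGM : G ∈ M := M.prod_mem fun v _ => hM _ f hf
  have hGp : G p' = f p' ^ Nat.card W := by
    rw [hG, Finset.prod_apply, Finset.prod_congr rfl (fun (v : W) _ => by rw [hfix _ v.2]),
      Finset.prod_const, Finset.card_univ, Nat.card_eq_fintype_card]
  set S := ∏ a ∈ Finset.univ.erase p', f a with hS
  have hGy : ∀ a, a ≠ p' → G a = S := by
    intro a ha
    rw [hG, Finset.prod_apply, hS]
    have hne : ∀ v : W, (v : H) • a ≠ p' := fun v e => ha
      (MulAction.injective (v : H) (e.trans (hfix v v.2).symm))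
    have hsurj : ∀ b, b ≠ p' → ∃ v : W, (v : H) • a = b := fun b hb => by
      obtain ⟨v, hv, e⟩ := hreg a b ha hb; exact ⟨⟨v, hv⟩, e⟩
    let e : W → {b // b ≠ p'} := fun v => ⟨(v : H) • a, hne v⟩
    have hbij : Bijective e := by
      refine (Fintype.bijective_iff_surjective_and_card _).2 ⟨fun b => ?_, ?_⟩
      · obtain ⟨v, hv⟩ := hsurj b b.2; exact ⟨v, Subtype.ext hv⟩
      · rw [Fintype.card_subtype_compl, Fintype.card_subtype_eq, ← Nat.card_eq_fintype_card,
          ← Nat.card_eq_fintype_card, hcard, Nat.add_sub_cancel]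
    rw [Fintype.prod_bijective e hbij _ (fun b => f b.1) fun _ => rfl]
    exact (Finset.prod_subtype _ (fun b => by simp) f).symm
  obtain ⟨k, hk⟩ := htr u
  set h : X → B := fun a => G (k⁻¹ • a) * G (k⁻¹ • t • a) with hh
  have hhM : h ∈ M := M.mul_mem (hM _ G hGM) (hM t _ (hM k⁻¹ G hGM))
  have hht : ∀ a, h (t • a) = h a := fun a => by
    have e : t • t • a = a := by rw [← mul_smul, htt, one_smul]
    simp only [hh, e]; exact mul_comm _ _
  have hval : ∀ a, a ≠ u → t • a ≠ u → h a = S * S := fun a h1 h2 => by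
    simp only [hh]
    rw [hGy, hGy]
    · exact fun e => h2 (by rw [← hk, ← e, smul_inv_smul])
    · exact fun e => h1 (by rw [← hk, ← e, smul_inv_smul])
  have ht2 : ∀ a, a ≠ t • u → t • a ≠ u := fun a ha e => ha (by rw [← e, ← mul_smul, htt, one_smul])
  have h0 := hrel h hhM hht u
  rw [hval _ hu2 (ht2 _ hu2'), hval _ hu1 (ht2 _ hu1')] at h0
  have hu0 : h u = G p' * S := by
    have e : k⁻¹ • u = p' := by rw [← hk, inv_smul_smul]
    simp only [hh, e]
    rw [hGy (k⁻¹ • t • u)]
    intro e'
    refine htu ?_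
    rw [← smul_inv_smul k (t • u), e', hk]
  rw [hu0, pow_two] at h0
  have h3 := mul_right_cancel ((mul_left_cancel h0))
  rw [hGp] at h3
  rw [pow_succ, h3, hS, mul_comm, Finset.mul_prod_erase _ f (Finset.mem_univ p')]

end perm

end Cfsg.Agent.SDKeystone.Budget
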