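import Cfsg.Agent.EqLemmas
import Cfsg.Agent.Lib.SDKeystone.Budget.Setting

/-!
# The degree budget: geometry of root groups at the two fixed points of the torus

`δ = 1`, `RootAt H X t q V p`.

* `RootAt.fix_unique`, `RootAt.torus_fix_point` : `p` is the only fixed point of `V`, the torus fixes it;
* `RootAt.exists_other`, `RootAt.stab_two` : the second fixed point `y`, with stabiliser of `(p, y)` the torus;
* `RootAt.opposite`, `RootAt.opposite_ne` : the conjugate by an element moving `t` to `t ζ`;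
* `RootAt.eq_top` : root groups at both points and the torus generate;
* `RootAt.fpf` : a torus element outside `Z` centralises no root element.
-/

set_option autoImplicit false
set_option linter.unusedSectionVars false
set_option linter.style.haveILetI false

namespace Cfsg.Agent.SDKeystone.Budget

open Subgroup MulAction

universe v w

variable {H : Type v} [Group H] [Finite H] {X : Type w} [MulAction H X] {t : H} {Z : Subgroup H}
  {n q o : ℕ}

theorem Line.finite_X {δ : ℤ} (hL : Line H X t Z n q o δ) : Finite X :=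
  Nat.finite_of_card_ne_zero (by rw [hL.card_X]; omega)

theorem Line.exists_ne {δ : ℤ} (hL : Line H X t Z n q o δ) (x x' : X) : ∃ y : X, y ≠ x ∧ y ≠ x' := by
  classical
  haveI := hL.finite_X
  haveI := Fintype.ofFinite X
  by_contra h
  push Not at h
  have hsub : (Finset.univ : Finset X) ⊆ {x, x'} := fun w _ => by
    rcases eq_or_ne w x with rfl | hw
    · exact Finset.mem_insert_self _ _
    · exact Finset.mem_insert_of_mem (Finset.mem_singleton.2 (h w hw))
  have h1 := Finset.card_le_card hsub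
  rw [Finset.card_univ, ← Nat.card_eq_fintype_card, hL.card_X] at h1
  have h2 := Finset.card_le_two (a := x) (b := x')
  have := hL.three_le
  omega

/-- An element of the torus outside `Z` fixes no third point. -/
theorem Line.fixed_two (hL : Line H X t Z n q o 1) {c : H} (hc : c ∈ centralizer ({t} : Set H)) (hcZ : c ∉ Z)
    {a b d : X} (ha : c • a = a) (hb : c • b = b) (hd : c • d = d) (hab : a ≠ b) : d = a ∨ d = b := by
  classical
  haveI := hL.finite_X
  haveI := Fintype.ofFinite X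
  by_contra h
  push Not at h
  have hsub : ({a, b, d} : Finset X) ⊆ (fixedBy X c).toFinset := by
    intro w hw
    simp only [Finset.mem_insert, Finset.mem_singleton] at hw
    rw [Set.mem_toFinset]
    rcases hw with rfl | rfl | rfl
    exacts [ha, hb, hd]
  have h4 := Finset.card_le_card hsub
  rw [Finset.card_eq_three.2 ⟨a, b, d, hab, h.1.symm, h.2.symm, rfl⟩, Set.toFinset_card,
    ← Nat.card_eq_fintype_card] at h4
  have h5 := hL.torus_fix c hc hcZ
  omega

namespace RootAt

variable (hL : Line H X t Z n q o 1) {V : Subgroup H} {p : X} (hV : RootAt H X t q V p)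
include hL hV

/-- The point of a root group is its only fixed point. -/
theorem fix_unique {x : X} (hx : ∀ v ∈ V, v • x = x) : x = p := by
  by_contra hxp
  obtain ⟨y, hyp, hyx⟩ := hL.exists_ne p x
  obtain ⟨v, hv, hv'⟩ := hV.regular x y hxp hyp
  exact hyx (hv'.symm.trans (hx v hv))

/-- The torus fixes the point of a root group. -/
theorem torus_fix_point {x : H} (hx : x ∈ centralizer ({t} : Set H)) : x • p = p := by
  refine fix_unique hL hV fun v hv => ?_
  have hv' : x⁻¹ * v * x ∈ V := by simpa using (mem_normalizer_iff.1 (hV.norm (inv_mem hx)) v).1 hv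
  calc v • x • p = x • (x⁻¹ * v * x) • p := by rw [← mul_smul, ← mul_smul]; congr 1; group
    _ = x • p := by rw [hV.fix _ hv']

/-- The second fixed point of the torus. -/
theorem exists_other : ∃ y : X, y ≠ p ∧ ∀ x ∈ centralizer ({t} : Set H), x • y = y := by
  classical
  have htT : t ∈ centralizer ({t} : Set H) := mem_centralizer_singleton_iff.2 rfl
  obtain ⟨y, hyp, hty⟩ : ∃ y, y ≠ p ∧ t • y = y := by
    have hc := hL.torus_fix t htT hL.t_notMem
    by_contra h
    push Not at h
    have hs : fixedBy X t = {p} := Set.eq_singleton_iff_unique_mem.2 ⟨hV.t_fix, fun w hw => by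
      by_contra hne'
      exact h w hne' hw⟩
    rw [hs] at hc
    simp at hc
  refine ⟨y, hyp, fun c hc => ?_⟩
  have h1 : t • c • y = c • y := by
    rw [← mul_smul, ← (mem_centralizer_singleton_iff.1 hc), mul_smul, hty]
  rcases hL.fixed_two htT hL.t_notMem hV.t_fix hty h1 hyp.symm with h | h
  · exact absurd (smul_left_cancel c (h.trans (torus_fix_point hL hV hc).symm)) hyp
  · exact h

/-- The two-point stabiliser is the torus. -/
theorem stab_two {y : X} (hyp : y ≠ p) (hy : ∀ x ∈ centralizer ({t} : Set H), x • y = y) :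
    stabilizer H p ⊓ stabilizer H y = centralizer ({t} : Set H) := by
  haveI := hL.finite_X
  haveI : IsPretransitive H X := ⟨fun a b => by
    obtain ⟨a', ha, -⟩ := hL.exists_ne a a
    obtain ⟨b', hb, -⟩ := hL.exists_ne b b
    obtain ⟨h, h1, -⟩ := hL.trans_two a a' b b' ha.symm hb.symm
    exact ⟨h, h1⟩⟩
  have hidx : (stabilizer H p).index = q + 1 := by rw [index_stabilizer_of_transitive, hL.card_X]
  have horb : MulAction.orbit (stabilizer H p) y = {x : X | x ≠ p} := by
    ext x
    simp only [Set.mem_ofPred_eq]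
    constructor
    · rintro ⟨⟨h, hh⟩, rfl⟩ e
      refine hyp (smul_left_cancel h ?_)
      show h • y = h • p
      rw [show h • p = p from hh]
      exact e
    · intro hx
      obtain ⟨v, hv, hv'⟩ := hV.regular y x hyp hx
      exact ⟨⟨v, hV.fix v hv⟩, hv'⟩
  set S2 := stabilizer H p ⊓ stabilizer H y with hS2
  have hle : centralizer ({t} : Set H) ≤ S2 := fun c hc => ⟨torus_fix_point hL hV hc, hy c hc⟩
  refine (Subgroup.eq_of_le_of_card_ge hle ?_).symm
  have h1 : (stabilizer (stabilizer H p) y).index = q := by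
    have h : ({x : X | x ≠ p} : Set X).ncard + ({p} : Set X).ncard = Nat.card X := by
      rw [show {x : X | x ≠ p} = ({p} : Set X)ᶜ from rfl, add_comm, Set.ncard_add_ncard_compl]
    rw [Set.ncard_singleton, hL.card_X] at h
    rw [index_stabilizer, horb]
    omega
  have h2 : Nat.card (stabilizer (stabilizer H p) y) = Nat.card S2 :=
    Nat.card_congr
      { toFun := fun x => ⟨(x : stabilizer H p), (x : stabilizer H p).2, x.2⟩
        invFun := fun x => ⟨⟨x, x.2.1⟩, x.2.2⟩
        left_inv := fun x => rfl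
        right_inv := fun x => rfl }
  have h3 := (stabilizer (stabilizer H p) y).card_mul_index
  have h4 := (stabilizer H p).card_mul_index
  rw [← h3, h1, h2, hidx, hL.card_H] at h4
  rw [hL.torus_card]
  have hqo : q - 1 = 2 ^ n * o := by
    have := hL.q_sub
    have h5 : (q : ℤ) = 1 + ((2 ^ n * o : ℕ) : ℤ) := by push_cast at this ⊢; linarith
    omega
  have h6 : q ^ 2 - 1 = (q + 1) * (q - 1) := by rw [← Nat.sq_sub_sq, one_pow]
  rw [h6, hqo] at h4
  have h7 : Nat.card S2 * (q * (q + 1)) = 2 ^ n * (2 ^ n * o) * (q * (q + 1)) := by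
    rw [← mul_assoc (Nat.card S2) q, h4]; ring
  have := hL.three_le
  exact le_of_eq (Nat.eq_of_mul_eq_mul_right (by positivity) h7)

/-- A torus element outside `Z` centralises no root element. -/
theorem fpf {x : H} (hx : x ∈ centralizer ({t} : Set H)) (hxZ : x ∉ Z) {v : H} (hv : v ∈ V)
    (hc : x * v * x⁻¹ = v) : v = 1 := by
  obtain ⟨y, hyp, hy⟩ := exists_other hL hV
  have h1 : x • v • y = v • y := by
    rw [← mul_smul, mul_inv_eq_iff_eq_mul.1 hc, mul_smul, hy x hx]
  have hvT : v ∈ centralizer ({t} : Set H) := by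
    rw [← stab_two hL hV hyp hy]
    refine ⟨hV.fix v hv, ?_⟩
    rcases hL.fixed_two hx hxZ (torus_fix_point hL hV hx) (hy x hx) h1 hyp.symm with h | h
    · exact absurd (smul_left_cancel v (h.trans (hV.fix v hv).symm)) hyp
    · exact h
  have h2 : v = v⁻¹ := by
    rw [← hV.inv v hv, ← mem_centralizer_singleton_iff.1 hvT, mul_inv_cancel_right]
  have h3 : v ^ 2 = 1 := by rw [pow_two, mul_eq_one_iff_eq_inv]; exact h2
  refine orderOf_eq_one_iff.1 (Nat.eq_one_of_dvd_coprimes (Nat.coprime_two_left.2 hL.q_odd)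
    (orderOf_dvd_of_pow_eq_one h3) ?_)
  rw [← hV.card]
  exact Subgroup.orderOf_dvd_natCard V hv

/-- The conjugate by an element moving `t` to `t ζ` is again a root group. -/
theorem opposite (h ζ : H) (hζ : ζ ∈ Z) (hh : h * t * h⁻¹ = t * ζ) :
    RootAt H X t q (V.map (MulAut.conj h).toMonoidHom) (h • p) := by
  have hcT : ∀ c : H, h * c * h⁻¹ ∈ centralizer ({t} : Set H) ↔ c ∈ centralizer ({t} : Set H) := by
    intro c
    have e : ∀ d : H, Commute d t ↔ Commute d (t * ζ) := fun d =>
      ⟨fun hd => hd.mul_right (hL.central_Z _ hζ d).symm, fun hd => by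
        simpa using hd.mul_right (hL.central_Z _ hζ d).symm.inv_right⟩
    rw [mem_centralizer_singleton_iff, mem_centralizer_singleton_iff]
    show Commute (h * c * h⁻¹) t ↔ Commute c t
    rw [e, ← hh]
    exact ⟨fun hd => by simpa [mul_assoc] using hd.map (MulAut.conj h⁻¹),
      fun hd => by simpa using hd.map (MulAut.conj h)⟩
  have hconj : ∀ w : H, t * w * t⁻¹ = (t * ζ) * w * (t * ζ)⁻¹ := fun w => by
    rw [mul_inv_rev, show t * ζ * w * (ζ⁻¹ * t⁻¹) = t * (ζ * w * ζ⁻¹) * t⁻¹ by group,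
      (hL.central_Z _ hζ w).eq, mul_inv_cancel_right]
  have hmem : ∀ {w : H}, w ∈ V.map (MulAut.conj h).toMonoidHom → ∃ v ∈ V, w = h * v * h⁻¹ :=
    fun ⟨v, hv, e⟩ => ⟨v, hv, e.symm⟩
  have hmk : ∀ {v : H}, v ∈ V → h * v * h⁻¹ ∈ V.map (MulAut.conj h).toMonoidHom :=
    fun {v} hv => ⟨v, hv, rfl⟩
  have hN : ∀ N : Subgroup H, N.Normal → V.map (MulAut.conj h).toMonoidHom ≤ N → V ≤ N :=
    fun N hN hle v hv => by
      have := hN.conj_mem _ (hle (hmk hv)) h⁻¹
      simpa [mul_assoc] using this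
  have hs : ∀ (a : H) (x : X), (h * a * h⁻¹) • h • x = h • a • x := fun a x => by
    rw [← mul_smul, ← mul_smul, inv_mul_cancel_right]
  constructor
  · calc t • h • p = (t * ζ) • h • p := by rw [mul_smul t ζ, (hL.mem_Z ζ).1 hζ]
      _ = h • p := by rw [← hh, hs, hV.t_fix]
  · rintro _ ⟨v, hv, rfl⟩
    show (h * v * h⁻¹) • h • p = h • p
    rw [hs, hV.fix v hv]
  · rw [← hV.card]
    exact (Nat.card_congr (V.equivMapOfInjective _ (MulAut.conj h).injective).toEquiv).symm
  · intro a ha b hb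
    obtain ⟨a, ha', rfl⟩ := hmem ha
    obtain ⟨b, hb', rfl⟩ := hmem hb
    simpa using (hV.comm a ha' b hb').map (MulAut.conj h)
  · intro w hw
    obtain ⟨v, hv, rfl⟩ := hmem hw
    rw [hconj, ← hh]
    calc h * t * h⁻¹ * (h * v * h⁻¹) * (h * t * h⁻¹)⁻¹ = h * (t * v * t⁻¹) * h⁻¹ := by group
      _ = (h * v * h⁻¹)⁻¹ := by rw [hV.inv v hv]; group
  · intro c hc
    have hc' : h⁻¹ * c * h ∈ centralizer ({t} : Set H) :=
      (hcT _).1 (by rw [show h * (h⁻¹ * c * h) * h⁻¹ = c by group]; exact hc)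
    refine mem_normalizer_iff.2 fun w => ⟨fun hw => ?_, fun hw => ?_⟩
    · obtain ⟨v, hv, rfl⟩ := hmem hw
      rw [show c * (h * v * h⁻¹) * c⁻¹ = h * (h⁻¹ * c * h * v * (h⁻¹ * c * h)⁻¹) * h⁻¹ by group]
      exact hmk ((mem_normalizer_iff.1 (hV.norm hc') v).1 hv)
    · obtain ⟨v, hv, e⟩ := hmem hw
      rw [show w = h * ((h⁻¹ * c * h)⁻¹ * v * ((h⁻¹ * c * h)⁻¹)⁻¹) * h⁻¹ by
        rw [show w = c⁻¹ * (c * w * c⁻¹) * c by group, e]; group]
      exact hmk ((mem_normalizer_iff.1 (hV.norm (inv_mem hc')) v).1 hv)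
  · intro y y' hy hy'
    obtain ⟨v, hv, e⟩ := hV.regular (h⁻¹ • y) (h⁻¹ • y') (fun e => hy (inv_smul_eq_iff.1 e))
      fun e => hy' (inv_smul_eq_iff.1 e)
    refine ⟨_, hmk hv, ?_⟩
    rw [show y = h • h⁻¹ • y from (smul_inv_smul h y).symm, hs, e, smul_inv_smul]
  · intro a ha b hb ha1 hb1
    obtain ⟨a, ha', rfl⟩ := hmem ha
    obtain ⟨b, hb', rfl⟩ := hmem hb
    obtain ⟨c, hc, e⟩ := hV.trans a ha' b hb' (fun e => ha1 (by rw [e]; group)) fun e => hb1 (by rw [e]; group)
    refine ⟨h * c * h⁻¹, (hcT c).2 hc, ?_⟩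
    rw [← e]; group
  · exact fun N hn hle => hV.gen N hn (hN N hn hle)
  · exact fun N hn hle => hV.z_mem N hn (hN N hn hle)
  · intro B h1 h2 h3 h4 a ha b hb
    obtain ⟨a, ha', rfl⟩ := hmem ha
    obtain ⟨b, hb', rfl⟩ := hmem hb
    refine hV.alt_zero (fun x y => B (h * x * h⁻¹) (h * y * h⁻¹)) ?_ ?_ ?_ ?_ a ha' b hb'
    · intro x hx y hy c hc
      simpa [mul_assoc] using h1 _ (hmk hx) _ (hmk hy) _ (hmk hc)
    · intro x hx y hy c hc
      simpa [mul_assoc] using h2 _ (hmk hx) _ (hmk hy) _ (hmk hc)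
    · exact fun x hx => h3 _ (hmk hx)
    · intro τ hτ x hx y hy
      simpa [mul_assoc] using h4 _ ((hcT τ).2 hτ) _ (hmk hx) _ (hmk hy)

/-- The opposite root group sits at another point. -/
theorem opposite_ne (h ζ : H) (hζ : ζ ∈ Z) (hζ1 : ζ ≠ 1) (hh : h * t * h⁻¹ = t * ζ) : h • p ≠ p := by
  intro hp
  obtain ⟨y, hyp, hy⟩ := exists_other hL hV
  have htT : t ∈ centralizer ({t} : Set H) := mem_centralizer_singleton_iff.2 rfl
  have h1 : t • h • y = h • y := by
    calc t • h • y = (t * ζ) • h • y := by rw [mul_smul t ζ, (hL.mem_Z ζ).1 hζ]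
      _ = h • y := by rw [← hh, mul_smul, inv_smul_smul, mul_smul, hy t htT]
  have hhT : h ∈ centralizer ({t} : Set H) := by
    rw [← stab_two hL hV hyp hy]
    refine ⟨hp, ?_⟩
    rcases hL.fixed_two htT hL.t_notMem hV.t_fix (hy t htT) h1 hyp.symm with e | e
    · exact absurd (smul_left_cancel h (e.trans hp.symm)) hyp
    · exact e
  rw [mem_centralizer_singleton_iff.1 hhT, mul_inv_cancel_right] at hh
  exact hζ1 (left_eq_mul.1 hh)

/-- Root groups at two points and the torus generate. -/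
theorem eq_top {V1 : Subgroup H} {p1 : X} (hV1 : RootAt H X t q V1 p1) (hp : p1 ≠ p) {S : Subgroup H}
    (h1 : V ≤ S) (h2 : V1 ≤ S) (h3 : centralizer ({t} : Set H) ≤ S) : S = ⊤ := by
  have hy : ∀ x ∈ centralizer ({t} : Set H), x • p1 = p1 := fun x hx => torus_fix_point hL hV1 hx
  have hstab : ∀ h : H, h • p = p → h ∈ S := by
    intro h hh
    obtain ⟨v, hv, hv'⟩ := hV.regular p1 (h • p1) hp fun e => hp (smul_left_cancel h (e.trans hh.symm))
    have hm : v⁻¹ * h ∈ centralizer ({t} : Set H) := by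
      rw [← stab_two hL hV hp hy]
      refine ⟨?_, ?_⟩
      · show (v⁻¹ * h) • p = p
        rw [mul_smul, hh, inv_smul_eq_iff, hV.fix v hv]
      · show (v⁻¹ * h) • p1 = p1
        rw [mul_smul, ← hv', inv_smul_smul]
    simpa using S.mul_mem (h1 hv) (h3 hm)
  have htr : ∀ x : X, ∃ s ∈ S, s • p = x := by
    intro x
    rcases eq_or_ne x p1 with rfl | hx
    · obtain ⟨w, hwp, hwp1⟩ := hL.exists_ne p x
      obtain ⟨a, ha, ha'⟩ := hV1.regular p w (Ne.symm hp) hwp1
      obtain ⟨v, hv, hv'⟩ := hV.regular w x hwp hp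
      exact ⟨v * a, S.mul_mem (h1 hv) (h2 ha), by rw [mul_smul, ha', hv']⟩
    · obtain ⟨a, ha, ha'⟩ := hV1.regular p x (Ne.symm hp) hx
      exact ⟨a, h2 ha, ha'⟩
  refine eq_top_iff.2 fun h _ => ?_
  obtain ⟨s, hs, hs'⟩ := htr (h • p)
  have := S.mul_mem hs (hstab (s⁻¹ * h) (by rw [mul_smul, ← hs', inv_smul_smul]))
  simpa using this

end RootAt

end Cfsg.Agent.SDKeystone.Budget
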