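import Cfsg.Agent.Lib.SDKeystone.Budget.Setting
import Cfsg.Agent.Lib.ClassCount.CharSum

/-!
# The degree budget: the sums over the constituents

* `apply_eq` : `b` on `C` by the constituents fixed and negated by `z`
* `two_mul_oddDeg` : the part negated by `z` has degree `(Q + 1) ^ 2 / 2`
* `evenPart_apply_t` : the part fixed by `z` has value `-Q` at `t`
* `dPlus_eq_dMinus` : the moved parts have equal degree
* `eq_one_of_evenPart`, `eq_one_of_oddPart` : a kernel element in the kernel of either part is trivial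
-/

set_option autoImplicit false
set_option linter.unusedSectionVars false
set_option linter.style.haveILetI false

open scoped ComplexConjugate

namespace Cfsg.Agent.SDKeystone.Budget

open Subgroup Cfsg Cfsg.Agent.Char Cfsg.Agent.InvolChar

universe u v w

variable {G : Type u} [Group G] [Fintype G] {H : Type v} [Group H] [Finite H] {X : Type w} [MulAction H X]
  {z t g : G} {C : Subgroup G} [Fintype C] {φ : C →* H} {Z : Subgroup H}
  {n q o : ℕ} {δ : ℤ} {b : IrrCharacter G}

open ClassCount in
/-- The degree as a complex number. -/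
theorem degree_cast (ψ : IrrCharacter C) : (ψ : C → ℂ) 1 = (charDegree (ψ : C → ℂ) : ℂ) :=
  apply_one_eq_charDegree ψ

/-- The sum of the constituents in `S`, with multiplicity. -/
noncomputable def part (b : IrrCharacter G) (S : Finset (IrrCharacter C)) (x : C) : ℂ :=
  ∑ ψ ∈ S, (mult b C ψ : ℂ) * (ψ : C → ℂ) x

namespace Setting

variable (D : Setting X z t g C φ Z n q o δ b)
include D

theorem odd_smul {ψ : IrrCharacter C} (hψ : ¬ D.IsEvenC (ψ : C → ℂ)) (x : C) :
    (ψ : C → ℂ) (D.zC * x) = -(ψ : C → ℂ) x := by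
  have hzz : D.zC * D.zC = 1 :=
    Subtype.ext (by show z * z = 1; rw [← pow_two, ← D.z2, pow_orderOf_eq_one])
  rcases apply_central_inv ψ.2 hzz (fun c => Subtype.ext (D.le_cent c c.2).eq.symm) with h | h
  · exact absurd h hψ
  · exact h x

theorem apply_eq (x : C) :
    (b : G → ℂ) (x : G) = part b D.evenPart x + part b D.oddPart x := by
  classical
  letI := Fintype.ofFinite (IrrCharacter C)
  have h := (IsCharacter.decompose (IsCharacter.restrict (IsIrrCharacter.isCharacter b.2) C)).choose_spec.1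
  have hx := congrFun h x
  simp only [Finset.sum_apply, Pi.smul_apply, smul_eq_mul] at hx
  refine hx.trans ?_
  change (∑ ψ, (mult b C ψ : ℂ) * (ψ : C → ℂ) x) = _
  unfold part evenPart oddPart
  rw [← Finset.sum_filter_add_sum_filter_not Finset.univ (fun ψ : IrrCharacter C => D.IsEvenC (ψ : C → ℂ))]
  congr 1 <;>
  · refine (Finset.sum_subset ?_ ?_).symm
    · intro ψ hψ
      simp only [Finset.mem_filter, Finset.mem_univ, true_and] at hψ ⊢
      exact hψ.1
    · intro ψ hψ hn
      simp only [Finset.mem_filter, Finset.mem_univ, true_and, not_and, not_not] at hψ hn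
      rw [hn hψ, Nat.cast_zero, zero_mul]

theorem apply_z_mul (x : C) :
    (b : G → ℂ) (z * (x : G)) = part b D.evenPart x - part b D.oddPart x := by
  classical
  refine (D.apply_eq (D.zC * x)).trans ?_
  rw [sub_eq_add_neg]
  unfold part
  rw [← Finset.sum_neg_distrib]
  congr 1
  · refine Finset.sum_congr rfl fun ψ hψ => ?_
    simp only [evenPart, Finset.mem_filter] at hψ
    rw [hψ.2.1 x]
  · refine Finset.sum_congr rfl fun ψ hψ => ?_
    simp only [oddPart, Finset.mem_filter] at hψ
    rw [D.odd_smul hψ.2.1, mul_neg]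

theorem stein_one : stein X δ (1 : H) = (δ : ℂ) * (q : ℂ) := by
  have h : WLine.fix X (1 : H) = ((q + 1 : ℕ) : ℤ) := by
    unfold WLine.fix
    rw [← D.line.card_X]
    congr 1
    exact Nat.card_congr (Equiv.subtypeUnivEquiv fun x => by simp)
  rw [stein, h]
  push_cast
  ring

theorem odd_order {x : C} (hx : φ x = 1) : ¬ 2 ∣ orderOf x := fun h =>
  D.ker_odd (h.trans (by
    have h' := _root_.orderOf_dvd_natCard (⟨x, MonoidHom.mem_ker.2 hx⟩ : φ.ker)
    rwa [Subgroup.orderOf_mk] at h'))

/-- On the kernel the difference of the parts is constant. -/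
theorem part_sub {x : C} (hx : φ x = 1) :
    part b D.evenPart x - part b D.oddPart x = -((δ : ℂ) * (q : ℂ)) := by
  rw [← D.apply_z_mul, D.b_sect x (D.odd_order hx), hx, D.stein_one]

theorem part_one (S : Finset (IrrCharacter C)) :
    part b S 1 = ((∑ ψ ∈ S, mult b C ψ * charDegree (ψ : C → ℂ) : ℕ) : ℂ) := by
  unfold part
  push_cast
  exact Finset.sum_congr rfl fun ψ _ => by rw [degree_cast]

/-- The degree of the part negated by `z`. -/
noncomputable def oddDeg : ℕ := ∑ ψ ∈ D.oddPart, mult b C ψ * charDegree (ψ : C → ℂ)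

theorem two_mul_oddDeg : 2 * (D.oddDeg : ℝ) = ((δ : ℝ) * q + 1) ^ 2 := by
  have h1 := (D.apply_eq 1).symm.trans D.b_one
  have h2 := D.part_sub (map_one φ)
  rw [D.part_one D.oddPart] at h1 h2
  have e : (2 * (D.oddDeg : ℂ)) = ((δ : ℂ) * q + 1) ^ 2 := by
    unfold oddDeg
    linear_combination h1 - h2
  have := congrArg Complex.re e
  norm_cast at this ⊢

theorem evenPart_apply_t : part b D.evenPart D.tC = -((δ : ℂ) * (q : ℂ)) := by
  have hcf := (IsIrrCharacter.isClassFunction b.2)
  have hz : (b : G → ℂ) z = -((δ : ℂ) * (q : ℂ)) := by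
    have := D.b_sect 1 (by simp)
    rwa [Subgroup.coe_one, mul_one, map_one, D.stein_one] at this
  have ht : (b : G → ℂ) t = -((δ : ℂ) * (q : ℂ)) := by
    rw [← hz, ← D.g_z]
    exact hcf z g
  obtain ⟨s, hs⟩ := D.tz_conj
  have htz : (b : G → ℂ) (z * t) = -((δ : ℂ) * (q : ℂ)) := by
    rw [(D.le_cent t D.t_mem).eq, ← hs, ← ht]
    exact hcf t _
  have h1 : part b D.evenPart D.tC + part b D.oddPart D.tC = -((δ : ℂ) * (q : ℂ)) :=
    (D.apply_eq D.tC).symm.trans ht
  have h2 : part b D.evenPart D.tC - part b D.oddPart D.tC = -((δ : ℂ) * (q : ℂ)) :=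
    (D.apply_z_mul D.tC).symm.trans htz
  linear_combination (h1 + h2) / 2

theorem norm_delta : ‖-((δ : ℂ) * (q : ℂ))‖ = q := by
  rcases D.line.sign with h | h <;> simp [h]

open scoped Classical in
/-- The moved constituents average to zero on the kernel, the others are constant. -/
theorem sum_ker (S : Finset (IrrCharacter C)) [Fintype φ.ker] :
    ∑ x : φ.ker, part b S (x : C) =
      (Fintype.card φ.ker : ℂ) * part b (S.filter fun ψ : IrrCharacter C => IsInflated φ (ψ : C → ℂ)) 1 := by
  unfold part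
  rw [Finset.sum_comm, Finset.sum_filter, Finset.mul_sum]
  refine Finset.sum_congr rfl fun ψ _ => ?_
  rw [← Finset.mul_sum]
  split_ifs with h
  · rw [Finset.sum_congr rfl fun (x : φ.ker) _ => h x (MonoidHom.mem_ker.1 x.2)]
    simp [Finset.card_univ]
    ring
  · have h0 : ∑ x : φ.ker, (ψ : C → ℂ) (x : C) = 0 := by
      refine (sum_normal_cases ψ.2 φ.ker).resolve_left fun hc => h fun x hx => ?_
      exact (trivial_on_iff ψ.2 φ.ker).2 hc x (MonoidHom.mem_ker.2 hx)
    rw [h0, mul_zero, mul_zero]

open scoped Classical in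
theorem dPlus_eq_dMinus : D.dPlus = D.dMinus := by
  letI := Fintype.ofFinite φ.ker
  set E0 := part b (D.evenPart.filter fun ψ : IrrCharacter C => IsInflated φ (ψ : C → ℂ)) 1 with hE0
  set O0 := part b (D.oddPart.filter fun ψ : IrrCharacter C => IsInflated φ (ψ : C → ℂ)) 1 with hO0
  have h0 : E0 - O0 = -((δ : ℂ) * (q : ℂ)) := by
    have h : ∑ x : φ.ker, (part b D.evenPart (x : C) - part b D.oddPart (x : C)) =
        (Fintype.card φ.ker : ℂ) * -((δ : ℂ) * (q : ℂ)) := by
      rw [Finset.sum_congr rfl fun (x : φ.ker) _ => D.part_sub (MonoidHom.mem_ker.1 x.2)]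
      simp [Finset.card_univ]
    rw [Finset.sum_sub_distrib, D.sum_ker, D.sum_ker, ← mul_sub] at h
    exact mul_left_cancel₀ (Nat.cast_ne_zero.2 Fintype.card_ne_zero) h
  have h1 := D.part_sub (map_one φ)
  have hsplit : ∀ S : Finset (IrrCharacter C), part b S 1 =
      part b (S.filter fun ψ : IrrCharacter C => IsInflated φ (ψ : C → ℂ)) 1 +
        part b (S.filter fun ψ : IrrCharacter C => ¬ IsInflated φ (ψ : C → ℂ)) 1 := fun S =>
    (Finset.sum_filter_add_sum_filter_not S _ _).symm
  have hp : part b D.evenMoved 1 = (D.dPlus : ℂ) := D.part_one _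
  have hm : part b (D.oddPart.filter fun ψ : IrrCharacter C => ¬ IsInflated φ (ψ : C → ℂ)) 1 = (D.dMinus : ℂ) :=
    D.part_one _
  rw [hsplit, hsplit D.oddPart, ← hE0, ← hO0, hm] at h1
  change E0 + part b D.evenMoved 1 - _ = _ at h1
  rw [hp] at h1
  have : (D.dPlus : ℂ) = D.dMinus := by linear_combination h1 - h0
  exact_mod_cast this

open scoped Classical in
theorem oddDeg_split : D.oddDeg = D.vMinus0 + D.dMinus :=
  (Finset.sum_filter_add_sum_filter_not D.oddPart (fun ψ : IrrCharacter C => IsInflated φ (ψ : C → ℂ)) _).symm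

theorem part_congr {S : Finset (IrrCharacter C)} {x : C}
    (h : ∀ ψ ∈ S, (ψ : C → ℂ) x = (ψ : C → ℂ) 1) : part b S x = part b S 1 :=
  Finset.sum_congr rfl fun ψ hψ => by rw [h ψ hψ]

/-- A kernel element in the kernel of the part negated by `z` is trivial. -/
theorem eq_one_of_oddPart {x : C} (hx : φ x = 1)
    (h : ∀ ψ ∈ D.oddPart, (ψ : C → ℂ) x = (ψ : C → ℂ) 1) : x = 1 := by
  refine D.b_ker x ?_
  have e := D.part_congr h
  have h1 := D.part_sub hx
  have h2 := D.part_sub (map_one φ)
  rw [← Subgroup.coe_one C, D.apply_eq, D.apply_eq 1]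
  linear_combination h1 - h2 + 2 * e

/-- A kernel element in the kernel of the moved part fixed by `z` is trivial. -/
theorem eq_one_of_evenMoved {x : C} (hx : φ x = 1)
    (h : ∀ ψ ∈ D.evenMoved, (ψ : C → ℂ) x = (ψ : C → ℂ) 1) : x = 1 := by
  classical
  refine D.b_ker x ?_
  have e : part b D.evenPart x = part b D.evenPart 1 := D.part_congr fun ψ hψ => by
    by_cases hi : IsInflated φ (ψ : C → ℂ)
    · exact hi x hx
    · exact h ψ (Finset.mem_filter.2 ⟨hψ, hi⟩)
  have h1 := D.part_sub hx
  have h2 := D.part_sub (map_one φ)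
  rw [← Subgroup.coe_one C, D.apply_eq, D.apply_eq 1]
  linear_combination 2 * e - h1 + h2

end Setting

end Cfsg.Agent.SDKeystone.Budget
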