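import Cfsg.Agent.Lib.CharApp.CoprimeFixed
import Cfsg.Agent.Lib.Char.Linear
import Mathlib.RingTheory.RootsOfUnity.PrimitiveRoots
import Mathlib.RingTheory.RootsOfUnity.Complex
import Mathlib.Data.ZMod.Basic

/-!
# Characters on a coset of a normal subgroup

* `card_centralizer_mul_sum`, `exists_conj_mul` : the elements of `x B`, `x` of order prime to `|B|`,
  are the conjugates under `B` of those of `x C_B(x)`;
* `coset_inner` : the inner product on a coset by the linear twists, with its consequences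
  `norm_coset`, `orth_coset`, `irr_or_vanish`;
* `exists_single` : an extension restricted to `x C_O(x)`, `x` a 2-element, is a scalar of norm one
  times an irreducible character of `C_O(x)`, the only constituent of odd multiplicity there.
-/

set_option autoImplicit false
set_option linter.unusedSectionVars false
set_option linter.style.haveILetI false

open scoped ComplexConjugate

namespace Cfsg.Agent.SDKeystone.Budget

open Subgroup Cfsg Cfsg.Agent.Char

section Count

variable {R : Type*} [Group R] [Finite R]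

/-- An element conjugating `x c` to `x c'` centralises `x`. -/
theorem conj_fix_of_conj {x : R} {N : ℕ} (hx : x ^ N = 1) (B : Subgroup R)
    (hcop : N.Coprime (Nat.card B)) {v c c' : R} (hc : c ∈ B ⊓ centralizer ({x} : Set R))
    (hc' : c' ∈ B ⊓ centralizer ({x} : Set R)) (h : v * (x * c) * v⁻¹ = x * c') : v * x * v⁻¹ = x := by
  obtain ⟨M, hM1, hM0⟩ := Nat.chineseRemainder hcop 1 0
  have hpow : ∀ a ∈ B ⊓ centralizer ({x} : Set R), (x * a) ^ M = x := by
    intro a ha
    have hcom : Commute x a := (mem_centralizer_singleton_iff.1 ha.2).symm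
    rw [hcom.mul_pow]
    have h1 : x ^ M = x ^ 1 := pow_eq_pow_iff_modEq.2 (hM1.of_dvd (orderOf_dvd_of_pow_eq_one hx))
    have h2 : a ^ M = a ^ 0 := pow_eq_pow_iff_modEq.2 (hM0.of_dvd (Subgroup.orderOf_dvd_natCard B ha.1))
    rw [h1, h2, pow_one, pow_zero, mul_one]
  have := congrArg (fun y => y ^ M) h
  simp only [conj_pow] at this
  rwa [hpow c hc, hpow c' hc'] at this

variable {x : R} {N : ℕ} {B : Subgroup R}

theorem conj_inv_mem (hB : ∀ b ∈ B, x * b * x⁻¹ ∈ B) : ∀ b ∈ B, x⁻¹ * b * x ∈ B := by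
  intro b hb
  have hk : ∀ k : ℕ, x ^ k * b * (x ^ k)⁻¹ ∈ B := by
    intro k
    induction k with
    | zero => simpa using hb
    | succ k ih =>
      have e : x ^ (k + 1) * b * (x ^ (k + 1))⁻¹ = x * (x ^ k * b * (x ^ k)⁻¹) * x⁻¹ := by
        rw [pow_succ']; group
      rw [e]; exact hB _ ih
  have hinv : x⁻¹ = x ^ (orderOf x - 1) := by
    rw [inv_eq_iff_mul_eq_one, ← pow_succ', Nat.sub_add_cancel (orderOf_pos x), pow_orderOf_eq_one]
  have := hk (orderOf x - 1)
  rwa [← hinv, inv_inv] at this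

/-- The map of `B × C_B(x)` to `B` by conjugation inside `x B`. -/
noncomputable def cosetMap (hB : ∀ b ∈ B, x * b * x⁻¹ ∈ B)
    (p : B × (B ⊓ centralizer ({x} : Set R) : Subgroup R)) : B :=
  ⟨x⁻¹ * ((p.1 : R) * (x * (p.2 : R)) * (p.1 : R)⁻¹), by
    have e : x⁻¹ * ((p.1 : R) * (x * (p.2 : R)) * (p.1 : R)⁻¹) =
        x⁻¹ * (p.1 : R) * x * (p.2 : R) * (p.1 : R)⁻¹ := by group
    rw [e]
    exact B.mul_mem (B.mul_mem (conj_inv_mem hB _ p.1.2) p.2.2.1) (B.inv_mem p.1.2)⟩

open scoped Classical in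
theorem cosetMap_fibre_le [Fintype B] [Fintype (B ⊓ centralizer ({x} : Set R) : Subgroup R)] (hx : x ^ N = 1)
    (hB : ∀ b ∈ B, x * b * x⁻¹ ∈ B) (hcop : N.Coprime (Nat.card B)) (b : B) :
    (Finset.univ.filter fun p => cosetMap hB p = b).card ≤
      Fintype.card (B ⊓ centralizer ({x} : Set R) : Subgroup R) := by
  rcases (Finset.univ.filter fun p => cosetMap hB p = b).eq_empty_or_nonempty with h | ⟨p₀, hp₀⟩
  · simp [h]
  have key : ∀ p, cosetMap hB p = b →
      (p.1 : R)⁻¹ * (p₀.1 : R) ∈ B ⊓ centralizer ({x} : Set R) ∧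
        (p.2 : R) = ((p.1 : R)⁻¹ * (p₀.1 : R)) * (p₀.2 : R) * ((p.1 : R)⁻¹ * (p₀.1 : R))⁻¹ := by
    intro p hp
    have e : (p.1 : R) * (x * (p.2 : R)) * (p.1 : R)⁻¹ = (p₀.1 : R) * (x * (p₀.2 : R)) * (p₀.1 : R)⁻¹ := by
      have := congrArg Subtype.val (hp.trans (Finset.mem_filter.1 hp₀).2.symm)
      simpa [cosetMap] using this
    set v := (p.1 : R)⁻¹ * (p₀.1 : R) with hv
    have h : v * (x * (p₀.2 : R)) * v⁻¹ = x * (p.2 : R) := by
      calc v * (x * (p₀.2 : R)) * v⁻¹ = (p.1 : R)⁻¹ * ((p₀.1 : R) * (x * (p₀.2 : R)) * (p₀.1 : R)⁻¹) * p.1 := by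
            rw [hv]; group
        _ = x * (p.2 : R) := by rw [← e]; group
    have hfix := conj_fix_of_conj hx B hcop p₀.2.2 p.2.2 h
    refine ⟨⟨B.mul_mem (B.inv_mem p.1.2) p₀.1.2, mem_centralizer_singleton_iff.2 (mul_inv_eq_iff_eq_mul.1 hfix)⟩, ?_⟩
    have h' : v * (x * (p₀.2 : R)) * v⁻¹ = x * (v * (p₀.2 : R) * v⁻¹) := by
      calc v * (x * (p₀.2 : R)) * v⁻¹ = v * x * v⁻¹ * (v * (p₀.2 : R) * v⁻¹) := by group
        _ = x * (v * (p₀.2 : R) * v⁻¹) := by rw [hfix]
    exact mul_left_cancel (h.symm.trans h')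
  let f : (B × (B ⊓ centralizer ({x} : Set R) : Subgroup R)) → (B ⊓ centralizer ({x} : Set R) : Subgroup R) :=
    fun p => if h : (p.1 : R)⁻¹ * (p₀.1 : R) ∈ B ⊓ centralizer ({x} : Set R) then ⟨_, h⟩ else 1
  refine (Finset.card_le_card_of_injOn f (fun p _ => Finset.mem_univ _) ?_).trans_eq Finset.card_univ
  intro p hp p' hp' he
  rw [Finset.mem_coe, Finset.mem_filter] at hp hp'
  obtain ⟨h1, h2⟩ := key p hp.2
  obtain ⟨h1', h2'⟩ := key p' hp'.2
  simp only [f, dif_pos h1, dif_pos h1', Subtype.mk.injEq] at he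
  refine Prod.ext (Subtype.ext ?_) (Subtype.ext ?_)
  · exact inv_injective (mul_right_cancel he)
  · rw [h2, h2', he]

open scoped Classical in
theorem cosetMap_fibre [Fintype B] [Fintype (B ⊓ centralizer ({x} : Set R) : Subgroup R)] (hx : x ^ N = 1)
    (hB : ∀ b ∈ B, x * b * x⁻¹ ∈ B) (hcop : N.Coprime (Nat.card B)) (b : B) :
    (Finset.univ.filter fun p => cosetMap hB p = b).card =
      Fintype.card (B ⊓ centralizer ({x} : Set R) : Subgroup R) := by
  have hle := fun b (_ : b ∈ (Finset.univ : Finset B)) => cosetMap_fibre_le hx hB hcop b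
  have htot : ∑ b : B, (Finset.univ.filter fun p => cosetMap hB p = b).card =
      ∑ _b : B, Fintype.card (B ⊓ centralizer ({x} : Set R) : Subgroup R) := by
    rw [← Finset.card_eq_sum_card_fiberwise (fun p _ => Finset.mem_univ (cosetMap hB p))]
    simp [Fintype.card_prod]
  exact (Finset.sum_eq_sum_iff_of_le hle).1 htot b (Finset.mem_univ _)

/-- Every element of `x B` is a conjugate under `B` of one of `x C_B(x)`. -/
theorem exists_conj_mul (hx : x ^ N = 1) (hB : ∀ b ∈ B, x * b * x⁻¹ ∈ B) (hcop : N.Coprime (Nat.card B))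
    {b : R} (hb : b ∈ B) :
    ∃ u ∈ B, ∃ c ∈ B ⊓ centralizer ({x} : Set R), u * (x * c) * u⁻¹ = x * b := by
  classical
  have := Fintype.ofFinite B
  have := Fintype.ofFinite (B ⊓ centralizer ({x} : Set R) : Subgroup R)
  have h := cosetMap_fibre hx hB hcop ⟨b, hb⟩
  obtain ⟨p, hp⟩ := Finset.card_pos.1 (h.symm ▸ Fintype.card_pos)
  have e : x⁻¹ * ((p.1 : R) * (x * (p.2 : R)) * (p.1 : R)⁻¹) = b :=
    congrArg Subtype.val (Finset.mem_filter.1 hp).2
  exact ⟨p.1, p.1.2, p.2, p.2.2, inv_mul_eq_iff_eq_mul.1 e⟩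

/-- The sum over `x B` of a function invariant under `B`. -/
theorem card_centralizer_mul_sum [Fintype B] [Fintype (B ⊓ centralizer ({x} : Set R) : Subgroup R)]
    (hx : x ^ N = 1) (hB : ∀ b ∈ B, x * b * x⁻¹ ∈ B) (hcop : N.Coprime (Nat.card B)) (F : R → ℂ)
    (hF : ∀ u ∈ B, ∀ y, F (u * y * u⁻¹) = F y) :
    (Nat.card (B ⊓ centralizer ({x} : Set R) : Subgroup R) : ℂ) * ∑ b : B, F (x * b) =
      (Nat.card B : ℂ) * ∑ c : (B ⊓ centralizer ({x} : Set R) : Subgroup R), F (x * c) := by
  classical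
  have h1 : ∑ p : B × (B ⊓ centralizer ({x} : Set R) : Subgroup R), F (x * (cosetMap hB p : R)) =
      (Nat.card (B ⊓ centralizer ({x} : Set R) : Subgroup R) : ℂ) * ∑ b : B, F (x * b) := by
    rw [← Finset.sum_fiberwise Finset.univ (cosetMap hB), Finset.mul_sum]
    refine Finset.sum_congr rfl fun b _ => ?_
    rw [Finset.sum_congr rfl (g := fun _ => F (x * b)) fun p hp => by rw [(Finset.mem_filter.1 hp).2],
      Finset.sum_const, cosetMap_fibre hx hB hcop, nsmul_eq_mul, Nat.card_eq_fintype_card]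
  rw [← h1, Fintype.sum_prod_type, Nat.card_eq_fintype_card, ← Finset.card_univ, ← nsmul_eq_mul,
    ← Finset.sum_const]
  refine Finset.sum_congr rfl fun u _ => Finset.sum_congr rfl fun c _ => ?_
  simp only [cosetMap, mul_inv_cancel_left]
  exact hF u u.2 _

end Count

section Twist

variable {R : Type*} [Group R] [Fintype R] (O : Subgroup R) [O.Normal]

open scoped Classical in
/-- The irreducible characters trivial on `O`. -/
noncomputable def linSet : Finset (IrrCharacter R) :=
  haveI := Fintype.ofFinite (IrrCharacter R)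
  Finset.univ.filter fun β : IrrCharacter R => CharApp.TrivOn O (β : R → ℂ)

theorem mem_linSet {β : IrrCharacter R} : β ∈ linSet O ↔ CharApp.TrivOn O (β : R → ℂ) := by
  simp [linSet]

variable (hab : ∀ a c : R, a * c * a⁻¹ * c⁻¹ ∈ O)
include hab

theorem exists_hom_linSet {β : IrrCharacter R} (hβ : β ∈ linSet O) :
    ∃ l : R →* ℂ, ⇑l = (β : R → ℂ) ∧ ∀ a ∈ O, l a = 1 := by
  have h1 := CharApp.degree_one_of_trivOn O hab β.2 ((mem_linSet O).1 hβ)
  obtain ⟨l, hl⟩ := exists_hom_of_degree_one (IsIrrCharacter.isCharacter β.2) h1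
  refine ⟨l, hl, fun a ha => ?_⟩
  rw [← h1, ← ((mem_linSet O).1 hβ) ⟨a, ha⟩, hl]

theorem sum_linSet (a : R) :
    ∑ β ∈ linSet O, (β : R → ℂ) a = indFun O (1 : O → ℂ) a := by
  classical
  letI := Fintype.ofFinite (IrrCharacter R)
  rw [CharApp.indFun_one_eq_sum O, Finset.sum_apply]
  refine Finset.sum_congr (by ext β; simp [mem_linSet]) fun β hβ => ?_
  rw [Pi.smul_apply, smul_eq_mul,
    CharApp.degree_one_of_trivOn O hab β.2 (Finset.mem_filter.1 hβ).2, one_mul]

/-- The inner product on a coset by the linear twists. -/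
theorem coset_inner [Fintype O] (η η' : R → ℂ) (x : R) :
    ∑ β ∈ linSet O, conj ((β : R → ℂ) x) * classInner (fun y => η y * (β : R → ℂ) y) η' =
      (Nat.card O : ℂ)⁻¹ * ∑ a : O, η (x * a) * conj (η' (x * a)) := by
  classical
  have hstep : ∀ β ∈ linSet O, ∀ y, conj ((β : R → ℂ) x) * (β : R → ℂ) y = (β : R → ℂ) (x⁻¹ * y) := by
    intro β hβ y
    obtain ⟨l, hl, -⟩ := exists_hom_linSet O hab hβ
    rw [← IsCharacter.apply_inv (IsIrrCharacter.isCharacter β.2), ← hl, map_mul]
  have h1 : ∀ β ∈ linSet O, conj ((β : R → ℂ) x) * classInner (fun y => η y * (β : R → ℂ) y) η' =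
      (Nat.card R : ℂ)⁻¹ * ∑ y, η y * conj (η' y) * (β : R → ℂ) (x⁻¹ * y) := by
    intro β hβ
    rw [classInner, mul_left_comm, Finset.mul_sum]
    exact congrArg _ (Finset.sum_congr rfl fun y _ => by rw [← hstep β hβ y]; ring)
  rw [Finset.sum_congr rfl h1, ← Finset.mul_sum, Finset.sum_comm,
    Finset.sum_congr rfl fun y _ => (Finset.mul_sum _ _ _).symm,
    Finset.sum_congr rfl fun y _ => by rw [sum_linSet O hab],
    ← Equiv.sum_comp (Equiv.mulLeft x)]
  have h2 : ∀ a, indFun O (1 : O → ℂ) a =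
      ((Nat.card R : ℂ) / (Nat.card O : ℂ)) * extendByZero O (1 : O → ℂ) a := by
    intro a
    by_cases ha : a ∈ O
    · rw [show a = ((⟨a, ha⟩ : O) : R) from rfl, CliffordChar.indFun_coe, extendByZero_mem _ _ ha,
        CliffordChar.orbitSum, Finset.sum_apply]
      simp only [CliffordChar.conjFun_apply, Pi.one_apply, Finset.sum_const, Finset.card_univ, nsmul_eq_mul,
        mul_one, Nat.card_eq_fintype_card]
      ring
    · rw [CliffordChar.indFun_not_mem O _ ha, extendByZero_not_mem _ _ ha, mul_zero]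
  simp only [Equiv.coe_mulLeft, inv_mul_cancel_left, h2]
  rw [Finset.sum_congr rfl fun a _ => show η (x * a) * conj (η' (x * a)) *
      ((Nat.card R : ℂ) / (Nat.card O : ℂ) * extendByZero O (1 : O → ℂ) a) =
      (Nat.card R : ℂ) / (Nat.card O : ℂ) *
        (extendByZero O (1 : O → ℂ) a * (η (x * a) * conj (η' (x * a)))) by ring,
    ← Finset.mul_sum, sum_extendByZero_mul O (1 : O → ℂ) fun a => η (x * a) * conj (η' (x * a))]
  simp only [Pi.one_apply, one_mul]
  have : (Nat.card R : ℂ) ≠ 0 := Nat.cast_ne_zero.2 Nat.card_pos.ne'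
  field_simp

theorem restrict_inner [Fintype O] (η η' : R → ℂ) :
    ∑ β ∈ linSet O, classInner (fun y => η y * (β : R → ℂ) y) η' =
      classInner (fun a : O => η a) (fun a : O => η' a) := by
  have h := coset_inner O hab η η' 1
  simp only [one_mul] at h
  rw [classInner, ← h]
  refine Finset.sum_congr rfl fun β hβ => ?_
  obtain ⟨l, hl, -⟩ := exists_hom_linSet O hab hβ
  rw [← hl, map_one, map_one, one_mul]

theorem twist_inner {η η' : R → ℂ} (hη : IsIrrCharacter R η) (hη' : IsIrrCharacter R η')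
    {β : IrrCharacter R} (hβ : β ∈ linSet O) :
    classInner (fun y => η y * (β : R → ℂ) y) η' = 0 ∨
      ((fun y => η y * (β : R → ℂ) y) = η' ∧ classInner (fun y => η y * (β : R → ℂ) y) η' = 1) := by
  classical
  obtain ⟨l, hl, -⟩ := exists_hom_linSet O hab hβ
  have h : IsIrrCharacter R (fun y => η y * (β : R → ℂ) y) := by
    rw [← hl]; exact IsIrrCharacter.mul_linear hη l
  rw [classInner_irr h hη']
  split_ifs with e <;> simp [e]

open scoped Classical in
theorem restrict_inner_card {η η' : R → ℂ} [Fintype O] (hη : IsIrrCharacter R η) (hη' : IsIrrCharacter R η') :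
    classInner (fun a : O => η a) (fun a : O => η' a) =
      (((linSet O).filter fun β : IrrCharacter R => (fun y => η y * (β : R → ℂ) y) = η').card : ℂ) := by
  rw [← restrict_inner O hab, Finset.card_filter, Nat.cast_sum]
  refine Finset.sum_congr rfl fun β hβ => ?_
  rcases twist_inner O hab hη hη' hβ with h | ⟨e, h⟩
  · rw [h, if_neg, Nat.cast_zero]
    intro e
    rw [e, classInner_irr_self hη'] at h
    exact one_ne_zero h
  · rw [h, if_pos e, Nat.cast_one]

/-- An extension has norm one on every coset. -/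
theorem norm_coset [Fintype O] {η : R → ℂ} (hη : IsIrrCharacter R η)
    (hres : IsIrrCharacter O (fun a : O => η a)) (x : R) :
    ∑ a : O, η (x * a) * conj (η (x * a)) = (Nat.card O : ℂ) := by
  classical
  have h0 : (Nat.card O : ℂ) ≠ 0 := Nat.cast_ne_zero.2 Nat.card_pos.ne'
  have hcard := restrict_inner_card O hab hη hη
  rw [classInner_irr_self hres] at hcard
  obtain ⟨β₀, hβ₀⟩ := Finset.card_eq_one.1 (by exact_mod_cast hcard.symm)
  have hm := Finset.mem_filter.1 (hβ₀.symm ▸ Finset.mem_singleton_self β₀ : β₀ ∈ _)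
  have hsum := coset_inner O hab η η x
  rw [Finset.sum_eq_single β₀] at hsum
  · have hone : ∀ y, (β₀ : R → ℂ) y = 1 := by
      have h1 : IsIrrCharacter R (1 : R → ℂ) := isIrrCharacter_one
      have hmem : (⟨1, h1⟩ : IrrCharacter R) ∈ linSet O := (mem_linSet O).2 fun _ => rfl
      have : (⟨1, h1⟩ : IrrCharacter R) ∈ ({β₀} : Finset (IrrCharacter R)) :=
        hβ₀ ▸ Finset.mem_filter.2 ⟨hmem, funext fun y => by simp⟩
      rw [Finset.mem_singleton] at this
      intro y
      rw [← this]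
      rfl
    simp only [hone, map_one, one_mul, mul_one] at hsum
    rw [classInner_irr_self hη] at hsum
    field_simp at hsum
    exact hsum.symm
  · intro β hβ hne
    rcases twist_inner O hab hη hη hβ with h | ⟨e, -⟩
    · rw [h, mul_zero]
    · exact absurd (Finset.mem_singleton.1 (hβ₀ ▸ Finset.mem_filter.2 ⟨hβ, e⟩)) hne
  · exact fun h => absurd hm.1 h

/-- Extensions of different characters are orthogonal on every coset. -/
theorem orth_coset [Fintype O] {η η' : R → ℂ} (hη : IsIrrCharacter R η) (hη' : IsIrrCharacter R η')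
    (hres : IsIrrCharacter O (fun a : O => η a)) (hres' : IsIrrCharacter O (fun a : O => η' a))
    (hne : (fun a : O => η a) ≠ fun a : O => η' a) (x : R) :
    ∑ a : O, η (x * a) * conj (η' (x * a)) = 0 := by
  classical
  have hcard := restrict_inner_card O hab hη hη'
  rw [classInner_irr_of_ne hres hres' hne] at hcard
  have hnil := Finset.card_eq_zero.1 (by exact_mod_cast hcard.symm)
  have hsum := coset_inner O hab η η' x
  rw [Finset.sum_eq_zero fun β hβ => ?_] at hsum
  · exact (mul_eq_zero.1 hsum.symm).resolve_left (inv_ne_zero (Nat.cast_ne_zero.2 Nat.card_pos.ne'))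
  · rcases twist_inner O hab hη hη' hβ with h | ⟨e, -⟩
    · rw [h, mul_zero]
    · exact absurd (Finset.mem_filter.2 ⟨hβ, e⟩) (hnil ▸ Finset.notMem_empty β)

/-- If `x` generates modulo `O`, a character is irreducible on `O` or vanishes on `x O`. -/
theorem irr_or_vanish [Fintype O] {η : R → ℂ} (hη : IsIrrCharacter R η) {x : R}
    (hgen : ∀ y : R, ∃ i : ℕ, (x ^ i)⁻¹ * y ∈ O) :
    IsIrrCharacter O (fun a : O => η a) ∨ ∀ a ∈ O, η (x * a) = 0 := by
  classical
  have hcard := restrict_inner_card O hab hη hη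
  by_cases h : ∃ β ∈ linSet O, (fun y => η y * (β : R → ℂ) y) = η ∧ (β : R → ℂ) ≠ 1
  · obtain ⟨β, hβ, e, hne⟩ := h
    obtain ⟨l, hl, hlO⟩ := exists_hom_linSet O hab hβ
    refine Or.inr fun a ha => ?_
    have hx : l x ≠ 1 := fun hx => hne (hl ▸ funext fun y => by
      obtain ⟨i, hi⟩ := hgen y
      rw [show y = x ^ i * ((x ^ i)⁻¹ * y) by group, map_mul, map_pow, hx, one_pow, hlO _ hi, one_mul]
      rfl)
    have hv : η (x * a) * l (x * a) = η (x * a) := by rw [hl]; exact congrFun e (x * a)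
    rw [map_mul, hlO a ha, mul_one] at hv
    by_contra h0
    exact hx (mul_left_cancel₀ h0 (hv.trans (mul_one _).symm))
  · refine Or.inl ((isIrrCharacter_iff_norm_one
      (IsCharacter.restrict (IsIrrCharacter.isCharacter hη) O)).2 ?_)
    refine hcard.trans ?_
    rw [Nat.cast_eq_one, Finset.card_eq_one]
    refine ⟨⟨1, isIrrCharacter_one⟩, Finset.ext fun β => ?_⟩
    rw [Finset.mem_filter, Finset.mem_singleton]
    refine ⟨fun hm => ?_, fun hm => ?_⟩
    · by_contra hne
      exact h ⟨β, hm.1, hm.2, fun h1 => hne (Subtype.ext h1)⟩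
    · subst hm
      exact ⟨(mem_linSet O).2 fun _ => rfl, funext fun y => mul_one _⟩

end Twist

section Single

/-- The powers of an element killed by `N`. -/
def powHom {M : Type*} [Monoid M] {N : ℕ} [NeZero N] (x : M) (hx : x ^ N = 1) :
    Multiplicative (ZMod N) →* M :=
  { toFun := fun a => x ^ (Multiplicative.toAdd a).val
    map_one' := by simp
    map_mul' := fun a c => by
      show x ^ (Multiplicative.toAdd (a * c)).val = _
      rw [← pow_add, toAdd_mul, ZMod.val_add, ← pow_eq_pow_mod _ hx] }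

theorem powHom_apply {M : Type*} [Monoid M] {N : ℕ} [NeZero N] (x : M) (hx : x ^ N = 1)
    (a : Multiplicative (ZMod N)) : powHom x hx a = x ^ (Multiplicative.toAdd a).val := rfl

theorem sum_zmod {N : ℕ} [NeZero N] (f : ℕ → ℂ) :
    ∑ a : Multiplicative (ZMod N), f (Multiplicative.toAdd a).val = ∑ j ∈ Finset.range N, f j := by
  refine Finset.sum_nbij' (fun a => (Multiplicative.toAdd a).val) (fun j => Multiplicative.ofAdd (j : ZMod N))
    (fun a _ => Finset.mem_range.2 (ZMod.val_lt _)) (fun j _ => Finset.mem_univ _) ?_ ?_ fun a _ => rfl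
  · intro a _
    simp
  · intro j hj
    simp [ZMod.val_natCast_of_lt (Finset.mem_range.1 hj)]

theorem card_odd_range (h : ℕ) : ((Finset.range (h + h)).filter Odd).card = h := by
  induction h with
  | zero => simp
  | succ h ih =>
    rw [show h + 1 + (h + 1) = h + h + 1 + 1 by ring, Finset.range_add_one, Finset.filter_insert,
      if_pos (Nat.odd_iff.2 (by omega)), Finset.range_add_one, Finset.filter_insert,
      if_neg (Nat.not_odd_iff.2 (by omega)), Finset.card_insert_of_notMem (by simp), ih]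

/-- Parseval on `N` points. -/
theorem sum_fourier {N : ℕ} [NeZero N] {ω : ℂ} (hω : IsPrimitiveRoot ω N) (u : ℕ → ℂ) :
    ∑ s ∈ Finset.range N, (∑ j ∈ Finset.range N, u j * (ω ^ (s * j))⁻¹) *
        conj (∑ j ∈ Finset.range N, u j * (ω ^ (s * j))⁻¹) =
      (N : ℂ) * ∑ j ∈ Finset.range N, u j * conj (u j) := by
  have hc : ∀ m : ℕ, conj ((ω ^ m)⁻¹) = ω ^ m := by
    intro m
    have hn : ‖ω ^ m‖ = 1 := by rw [norm_pow, Complex.norm_eq_one_of_pow_eq_one hω.pow_eq_one (NeZero.ne N), one_pow]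
    rw [Complex.inv_eq_conj hn, Complex.conj_conj]
  simp_rw [map_sum, Finset.sum_mul, Finset.mul_sum, map_mul, hc]
  rw [Finset.sum_comm]
  refine Finset.sum_congr rfl fun j hj => ?_
  rw [Finset.sum_comm]
  have hgeo : ∀ l, ∑ s ∈ Finset.range N, u j * (ω ^ (s * j))⁻¹ * (conj (u l) * ω ^ (s * l)) =
      u j * conj (u l) * ∑ s ∈ Finset.range N, ((ω ^ j)⁻¹ * ω ^ l) ^ s := by
    intro l
    rw [Finset.mul_sum]
    refine Finset.sum_congr rfl fun s _ => ?_
    rw [mul_pow, inv_pow, ← pow_mul, ← pow_mul, mul_comm s j, mul_comm s l]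
    ring
  have hωj : (ω ^ j) ≠ 0 := pow_ne_zero _ (hω.ne_zero (NeZero.ne N))
  rw [Finset.sum_congr rfl fun l _ => hgeo l, Finset.sum_eq_single j]
  · rw [inv_mul_cancel₀ hωj]
    simp
    ring
  · intro l hl hne
    have hζ : (ω ^ j)⁻¹ * ω ^ l ≠ 1 := fun h => hne (hω.pow_inj (Finset.mem_range.1 hl) (Finset.mem_range.1 hj)
      ((inv_mul_eq_one₀ hωj).1 h).symm)
    rw [geom_sum_eq hζ, mul_pow, inv_pow, ← pow_mul, ← pow_mul, mul_comm j, mul_comm l, pow_mul, pow_mul,
      hω.pow_eq_one, one_pow, one_pow, inv_one, one_mul, sub_self, zero_div, mul_zero]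
  · exact fun h => absurd hj h

variable {R : Type*} [Group R] [Fintype R] (O : Subgroup R) [O.Normal]

/-- On `x C_O(x)`, `x` a 2-element, an extension is a scalar of norm one times an irreducible character. -/
theorem exists_single (hab : ∀ a c : R, a * c * a⁻¹ * c⁻¹ ∈ O) (hO : ¬ 2 ∣ Nat.card O) {n : ℕ} (hn : 1 ≤ n)
    {ω : ℂ} (hω : IsPrimitiveRoot ω (2 ^ n)) {x : R} (hx : x ^ 2 ^ n = 1) {η : R → ℂ}
    (hη : IsIrrCharacter R η) (hres : IsIrrCharacter O (fun a : O => η a)) :
    ∃ (χ : IrrCharacter (O ⊓ centralizer ({x} : Set R) : Subgroup R)) (c : ℂ), ‖c‖ = 1 ∧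
      (∀ a : (O ⊓ centralizer ({x} : Set R) : Subgroup R),
        η (x * (a : R)) = c * (χ : (O ⊓ centralizer ({x} : Set R) : Subgroup R) → ℂ) a) ∧
      ∀ [Fintype (O ⊓ centralizer ({x} : Set R) : Subgroup R)]
        (χ' : IrrCharacter (O ⊓ centralizer ({x} : Set R) : Subgroup R)), χ' ≠ χ →
        ∃ k : ℕ, classInner (fun a : (O ⊓ centralizer ({x} : Set R) : Subgroup R) => η a)
          (χ' : (O ⊓ centralizer ({x} : Set R) : Subgroup R) → ℂ) = ((2 * k : ℕ) : ℂ) := by
  classical
  haveI := Fintype.ofFinite O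
  set A := (O ⊓ centralizer ({x} : Set R) : Subgroup R) with hA
  haveI := Fintype.ofFinite A
  haveI := Fintype.ofFinite (IrrCharacter A)
  have hN : (2 ^ n : ℕ) ≠ 0 := by positivity
  haveI : NeZero (2 ^ n) := ⟨hN⟩
  obtain ⟨n', rfl⟩ : ∃ n', n = n' + 1 := ⟨n - 1, by omega⟩
  set h := 2 ^ n' with hh
  set N := 2 ^ (n' + 1) with hNdef
  have hNh : N = h + h := by rw [hh, hNdef, pow_succ]; ring
  have hNC : (N : ℂ) ≠ 0 := Nat.cast_ne_zero.2 hN
  have hcm : ∀ a : A, Commute x (a : R) := fun a => (mem_centralizer_singleton_iff.1 a.2.2).symm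
  set f : ℕ → A → ℂ := fun j a => η (x ^ j * (a : R)) with hf
  have hcop : N.Coprime (Nat.card O) := (Nat.prime_two.coprime_iff_not_dvd.2 hO).pow_left _
  -- odd powers have norm one
  have hnorm : ∀ j, Odd j → classInner (f j) (f j) = 1 := by
    intro j hj
    have hgen : ∃ k, (x ^ j) ^ k = x := by
      have hcj : j.Coprime N := (Nat.prime_two.coprime_iff_not_dvd.2 hj.not_two_dvd_nat).symm.pow_right _
      obtain ⟨k, hk⟩ := Nat.exists_mul_mod_eq_one_of_coprime hcj (by rw [hNdef]; exact Nat.one_lt_two_pow (by omega))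
      exact ⟨k, by rw [← pow_mul, pow_eq_pow_mod _ hx, hk.2, pow_one]⟩
    have hcent : (O ⊓ centralizer ({x ^ j} : Set R) : Subgroup R) = A := by
      refine le_antisymm ?_ ?_ <;> intro a ha <;> refine ⟨ha.1, ?_⟩
      · obtain ⟨k, hk⟩ := hgen
        refine mem_centralizer_singleton_iff.2 ?_
        have hc : Commute a (x ^ j) := mem_centralizer_singleton_iff.1 ha.2
        rw [← hk]; exact hc.pow_right k
      · have hc : Commute a x := mem_centralizer_singleton_iff.1 ha.2
        exact mem_centralizer_singleton_iff.2 (hc.pow_right j)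
    haveI := Fintype.ofFinite (O ⊓ centralizer ({x ^ j} : Set R) : Subgroup R)
    have hpow : (x ^ j) ^ N = 1 := by rw [← pow_mul, mul_comm, pow_mul, hx, one_pow]
    have hcl := IsIrrCharacter.isClassFunction hη
    have hcount := card_centralizer_mul_sum hpow (fun a ha => Subgroup.Normal.conj_mem ‹_› a ha _) hcop
      (fun y => η y * conj (η y)) (fun u _ y => by simp only [hcl y u])
    rw [norm_coset O hab hη hres, mul_comm] at hcount
    have h0 := mul_left_cancel₀ (Nat.cast_ne_zero.2 Nat.card_pos.ne') hcount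
    let e : (O ⊓ centralizer ({x ^ j} : Set R) : Subgroup R) ≃ A := Equiv.subtypeEquivRight fun a => by rw [hcent]
    rw [classInner, ← Fintype.sum_equiv e (fun a => η (x ^ j * (a : R)) * conj (η (x ^ j * (a : R)))) _
      (fun a => rfl), ← h0, Nat.card_congr e, inv_mul_cancel₀ (Nat.cast_ne_zero.2 Nat.card_pos.ne')]
  -- the multiplicities
  set c : IrrCharacter A → ℕ → ℂ := fun χ j => classInner (f j) (χ : A → ℂ) with hc
  let Ψ : Multiplicative (ZMod N) × A →* R :=
    (powHom x hx).noncommCoprod A.subtype fun p a => (hcm a).pow_left (Multiplicative.toAdd p).val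
  have hnat : ∀ (χ : IrrCharacter A) (s : ℕ), ∃ m : ℕ,
      (N : ℂ)⁻¹ * ∑ j ∈ Finset.range N, c χ j * (ω ^ (s * j))⁻¹ = m := by
    intro χ s
    have hs : (ω ^ s) ^ N = 1 := by rw [← pow_mul, mul_comm, pow_mul, hω.pow_eq_one, one_pow]
    have h1 : IsCharacter (Multiplicative (ZMod N) × A) (fun p => η (Ψ p)) :=
      IsCharacter.comp_hom (IsIrrCharacter.isCharacter hη) Ψ
    have h2 : IsCharacter (Multiplicative (ZMod N) × A)
        (fun p => powHom (ω ^ s) hs p.1 * (χ : A → ℂ) p.2) :=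
      IsCharacter.prodMul (IsIrrCharacter.isCharacter (isIrrCharacter_of_hom (powHom (ω ^ s) hs)))
        (IsIrrCharacter.isCharacter χ.2)
    obtain ⟨m, hm⟩ := IsCharacter.classInner_nat h1 h2
    refine ⟨m, hm ▸ ?_⟩
    rw [classInner, Nat.card_prod, Fintype.sum_prod_type,
      show Nat.card (Multiplicative (ZMod N)) = N from (Nat.card_congr Multiplicative.toAdd).trans (Nat.card_zmod N)]
    have hinner : ∀ p : Multiplicative (ZMod N),
        ∑ a : A, η (Ψ (p, a)) * conj (powHom (ω ^ s) hs p * (χ : A → ℂ) a) =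
          (fun j => (Nat.card A : ℂ) * (c χ j * (ω ^ (s * j))⁻¹)) (Multiplicative.toAdd p).val := by
      intro p
      set j := (Multiplicative.toAdd p).val
      have hn1 : ‖ω ^ (s * j)‖ = 1 := by
        rw [norm_pow, Complex.norm_eq_one_of_pow_eq_one hω.pow_eq_one hN, one_pow]
      simp only [hc, classInner, hf]
      rw [← mul_assoc, ← mul_assoc, mul_inv_cancel₀ (Nat.cast_ne_zero.2 Nat.card_pos.ne'), one_mul,
        Finset.sum_mul]
      refine Finset.sum_congr rfl fun a _ => ?_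
      rw [map_mul, powHom_apply, ← pow_mul, ← Complex.inv_eq_conj hn1]
      show η (x ^ j * (a : R)) * _ = _
      ring
    rw [Finset.sum_congr rfl fun p _ => hinner p,
      sum_zmod (N := N) (fun j => (Nat.card A : ℂ) * (c χ j * (ω ^ (s * j))⁻¹)), ← Finset.mul_sum]
    push_cast
    have hA0 : (Nat.card A : ℂ) ≠ 0 := Nat.cast_ne_zero.2 Nat.card_pos.ne'
    field_simp
  choose m hm using hnat
  set d : IrrCharacter A → ℕ → ℤ := fun χ s => (m χ s : ℤ) - m χ (s + h) with hd
  set u : IrrCharacter A → ℕ → ℂ := fun χ j => if Odd j then 2 * c χ j else 0 with hu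
  have hωh : ω ^ h = -1 := by
    refine (mul_self_eq_one_iff.1 (?_ : ω ^ h * ω ^ h = 1)).resolve_left ?_
    · rw [← pow_add, ← hNh]; exact hω.pow_eq_one
    · exact hω.pow_ne_one_of_pos_of_lt (by positivity) (by have : 0 < h := (by positivity); omega)
  have hdu : ∀ χ s, (d χ s : ℂ) = (N : ℂ)⁻¹ * ∑ j ∈ Finset.range N, u χ j * (ω ^ (s * j))⁻¹ := by
    intro χ s
    rw [hd]
    push_cast
    rw [← hm, ← hm, ← mul_sub, ← Finset.sum_sub_distrib]
    refine congrArg _ (Finset.sum_congr rfl fun j _ => ?_)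
    rw [add_mul, pow_add, pow_mul ω h j, hωh, mul_inv, ← inv_pow (-1 : ℂ), inv_neg, inv_one]
    rcases Nat.even_or_odd j with hj | hj
    · rw [hu, hj.neg_one_pow]; simp [Nat.not_odd_iff_even.2 hj]
    · rw [hu, hj.neg_one_pow]; simp [hj]; ring
  -- Parseval
  have hsq : ∀ χ, (N : ℂ) * ((∑ s ∈ Finset.range N, d χ s ^ 2 : ℤ) : ℂ) =
      4 * ∑ j ∈ (Finset.range N).filter Odd, c χ j * conj (c χ j) := by
    intro χ
    have hp := sum_fourier hω (u χ)
    have e1 : ((∑ s ∈ Finset.range N, d χ s ^ 2 : ℤ) : ℂ) =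
        (N : ℂ)⁻¹ * (N : ℂ)⁻¹ * ((N : ℂ) * ∑ j ∈ Finset.range N, u χ j * conj (u χ j)) := by
      rw [← hp, Finset.mul_sum]
      push_cast
      refine Finset.sum_congr rfl fun s _ => ?_
      have e : (d χ s : ℂ) = conj (d χ s : ℂ) := (map_intCast _ _).symm
      rw [pow_two]
      conv_lhs => arg 2; rw [e]
      rw [hdu, map_mul, map_inv₀, Complex.conj_natCast]
      ring
    have e2 : ∑ j ∈ Finset.range N, u χ j * conj (u χ j) =
        4 * ∑ j ∈ (Finset.range N).filter Odd, c χ j * conj (c χ j) := by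
      rw [Finset.sum_filter, Finset.mul_sum]
      refine Finset.sum_congr rfl fun j _ => ?_
      simp only [hu]
      split_ifs with hj
      · rw [map_mul, Complex.conj_ofNat]; ring
      · simp
    rw [e1, ← e2]
    field_simp
  set U : IrrCharacter A → ℤ := fun χ => ∑ s ∈ Finset.range h, d χ s ^ 2 with hU
  have hhalf : ∀ χ, ∑ s ∈ Finset.range N, d χ s ^ 2 = 2 * U χ := by
    intro χ
    rw [hNh, Finset.sum_range_add, two_mul, hU]
    refine congrArg₂ (· + ·) rfl (Finset.sum_congr rfl fun s _ => ?_)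
    have e : m χ (s + h + h) = m χ s := by
      have h1 := hm χ (s + h + h)
      rw [Finset.sum_congr rfl fun j _ => show c χ j * (ω ^ ((s + h + h) * j))⁻¹ = c χ j * (ω ^ (s * j))⁻¹ by
        rw [add_assoc, ← hNh, add_mul, pow_add, pow_mul ω N, hω.pow_eq_one, one_pow, mul_one], hm χ s] at h1
      exact_mod_cast h1.symm
    simp only [hd, add_comm h s, e]
    ring
  have hfcl : ∀ j, IsClassFunction A (f j) := fun j a u => by
    have hcu : Commute (u : R) (x ^ j) := ((hcm u).symm).pow_right j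
    show η (x ^ j * ((u * a * u⁻¹ : A) : R)) = η (x ^ j * (a : R))
    rw [← IsIrrCharacter.isClassFunction hη (x ^ j * (a : R)) (u : R)]
    refine congrArg η ?_
    simp only [Subgroup.coe_mul, Subgroup.coe_inv]
    rw [← mul_assoc (u : R), hcu.eq]
    group
  have htot : ∑ χ, U χ = 1 := by
    have e : ∑ χ, ((N : ℂ) * ((2 * U χ : ℤ) : ℂ)) = 4 * (h : ℂ) := by
      rw [Finset.sum_congr rfl fun χ _ => by rw [← hhalf χ, hsq χ], ← Finset.mul_sum, Finset.sum_comm]
      refine congrArg _ ?_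
      rw [Finset.sum_congr rfl (g := fun _ => (1 : ℂ)) fun j hj => ?_, Finset.sum_const, nsmul_one, hNh,
        card_odd_range]
      rw [← hnorm j (Finset.mem_filter.1 hj).2, classInner_eq_sum (hfcl j)]
    rw [hNh] at e
    push_cast at e
    rw [← Finset.mul_sum, ← Finset.mul_sum] at e
    have hh0 : (h : ℂ) ≠ 0 := Nat.cast_ne_zero.2 (by positivity)
    have e' : ((∑ χ, U χ : ℤ) : ℂ) = ((1 : ℤ) : ℂ) := by
      push_cast
      exact mul_left_cancel₀ hh0 (by linear_combination e / 4)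
    exact_mod_cast e'
  have hU0 : ∀ χ, 0 ≤ U χ := fun χ => Finset.sum_nonneg fun s _ => sq_nonneg _
  obtain ⟨χ₀, hχ₀⟩ : ∃ χ₀, U χ₀ ≠ 0 := by
    by_contra hall
    push Not at hall
    rw [Finset.sum_eq_zero fun χ _ => hall χ] at htot
    exact zero_ne_one htot
  have hother : ∀ χ, χ ≠ χ₀ → c χ 1 = 0 := by
    intro χ hne
    have hz : U χ = 0 := by
      have h1 := Finset.sum_le_sum_of_subset_of_nonneg (Finset.subset_univ ({χ, χ₀} : Finset _))
        (fun χ _ _ => hU0 χ)
      rw [Finset.sum_pair hne, htot] at h1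
      have := hU0 χ
      have := hU0 χ₀
      omega
    have h1 := hsq χ
    rw [hhalf, hz, mul_zero, Int.cast_zero, mul_zero] at h1
    have h2 : ∑ j ∈ (Finset.range N).filter Odd, c χ j * conj (c χ j) = 0 :=
      (mul_eq_zero.1 h1.symm).resolve_left (by norm_num)
    simp only [Complex.mul_conj, ← Complex.ofReal_sum, Complex.ofReal_eq_zero] at h2
    exact Complex.normSq_eq_zero.1 ((Finset.sum_eq_zero_iff_of_nonneg fun j _ => Complex.normSq_nonneg _).1 h2 1
      (Finset.mem_filter.2 ⟨Finset.mem_range.2 (by rw [hNdef]; exact Nat.one_lt_two_pow (by omega)), odd_one⟩))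
  have hval : f 1 = c χ₀ 1 • (χ₀ : A → ℂ) := by
    refine (classFunction_eq_sum (hfcl 1)).trans (Finset.sum_eq_single χ₀ (fun χ _ hne => ?_) fun h => absurd (Finset.mem_univ _) h)
    show c χ 1 • _ = _
    rw [hother χ hne, zero_smul]
  refine ⟨χ₀, c χ₀ 1, ?_, fun a => ?_, fun {inst} χ hne => ⟨∑ s ∈ Finset.range h, m χ s, ?_⟩⟩
  · have h1 := hnorm 1 odd_one
    rw [hval, classInner_smul_left, classInner_smul_right, classInner_irr_self χ₀.2, mul_one,
      Complex.mul_conj, Complex.ofReal_eq_one, Complex.normSq_eq_norm_sq] at h1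
    exact (pow_eq_one_iff_of_nonneg (norm_nonneg _) two_ne_zero).1 h1
  · have := congrFun hval a
    simpa [hf] using this
  · have hz : U χ = 0 := by
      have h1 := Finset.sum_le_sum_of_subset_of_nonneg (Finset.subset_univ ({χ, χ₀} : Finset _))
        (fun χ _ _ => hU0 χ)
      rw [Finset.sum_pair hne, htot] at h1
      have := hU0 χ
      have := hU0 χ₀
      omega
    have hpair : ∀ s ∈ Finset.range h, m χ (h + s) = m χ s := fun s hs => by
      have h1 := (Finset.sum_eq_zero_iff_of_nonneg fun s _ => sq_nonneg (d χ s)).1 hz s hs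
      have h2 : d χ s = 0 := (pow_eq_zero_iff two_ne_zero).1 h1
      simp only [hd, add_comm s h] at h2
      omega
    have hall : ((∑ s ∈ Finset.range N, m χ s : ℕ) : ℂ) = c χ 0 := by
      push_cast
      rw [Finset.sum_congr rfl fun s _ => (hm χ s).symm, ← Finset.mul_sum, Finset.sum_comm,
        Finset.sum_eq_single 0]
      · simp only [mul_zero, pow_zero, inv_one, mul_one, Finset.sum_const, Finset.card_range, nsmul_eq_mul]
        rw [← mul_assoc, inv_mul_cancel₀ hNC, one_mul]
      · intro j hj hj0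
        have hω0 : ω ^ j ≠ 1 := hω.pow_ne_one_of_pos_of_lt hj0 (Finset.mem_range.1 hj)
        rw [← Finset.mul_sum, Finset.sum_congr rfl (g := fun s => ((ω ^ j)⁻¹) ^ s)
          fun s _ => by rw [inv_pow, ← pow_mul, mul_comm], geom_sum_eq (inv_ne_one.2 hω0), inv_pow,
          ← pow_mul, mul_comm j, pow_mul, hω.pow_eq_one, one_pow, inv_one, sub_self, zero_div, mul_zero]
      · exact fun hn => absurd (Finset.mem_range.2 (Nat.pos_of_ne_zero hN)) hn
    rw [hNh, Finset.sum_range_add, Finset.sum_congr rfl hpair, ← two_mul] at hall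
    rw [hall]
    simp only [hc, hf, pow_zero, one_mul]
    convert rfl

end Single

end Cfsg.Agent.SDKeystone.Budget
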