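import Cfsg.Agent.Lib.SDKeystone.Budget.Sums
import Cfsg.Agent.Lib.SDKeystone.Budget.DeviationSetting
import Mathlib.RingTheory.RootsOfUnity.PrimitiveRoots

/-!
# The degree budget, wreathed case with `δ = -1`: the extra data

`Wreath` : what is used beyond `Setting` when the Sylow 2-subgroup is wreathed and `δ = -1`.
Nothing is assumed on field automorphisms in the core: the conclusions are in `Budget.WreathMinus`.

First facts:

* `A0` : the core elements of `C ∩ C(t)` seen in the core at `t` and at `t z`, normalised by `C ∩ C(t)`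
  and by `σ`;
* `t_mem_zpowers`, `t_mem_zpowers_z` : `t` is a power of `γ ^ i` and of `z γ ^ i` for odd `i`;
* `mem_torusPre`, `sigma_conj_torusPre` : `C ∩ C(t)` is in the preimage of the torus, `σ` normalises it.
-/

set_option autoImplicit false
set_option linter.unusedSectionVars false
set_option linter.style.haveILetI false

open scoped commutatorElement

namespace Cfsg.Agent.SDKeystone.Budget

open Subgroup Cfsg Cfsg.Agent.Char Cfsg.Agent.InvolChar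

universe u v w

variable {G : Type u} [Group G] [Fintype G] {H : Type v} [Group H] [Finite H] {X : Type w} [MulAction H X]
  {z t g : G} {C : Subgroup G} [Fintype C] {φ : C →* H} {Z : Subgroup H}
  {n q o : ℕ} {δ : ℤ} {b : IrrCharacter G}

/-- The wreathed case with `δ = -1`.

`γ` generates a cyclic group over `t` and `γ' = σ γ σ⁻¹` one over `t z`; `C ≥ C(z)'` and no element of
`C(z) ∩ C(t)` outside `C` cubes to zero on the torus; `b` is inflated on the elements with `z` among their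
powers and `b (γ ^ i) - b (z γ ^ i)` is known for odd `i`; the irreducible degrees of `H` are `1` or between
`q - 1` and `q + 1`, and no proper normal subgroup contains `φ γ`. -/
structure Wreath (D : Setting X z t g C φ Z n q o δ b) (σ γ γ' : C) (ω : ℂ) : Prop where
  n_two : 2 ≤ n
  neg : δ = -1
  conj_γ : σ * γ * σ⁻¹ = γ'
  comm : Commute γ γ'
  pow_N : γ ^ 2 ^ n = 1
  pow_t : γ ^ 2 ^ (n - 1) = D.tC
  pow_tz : γ' ^ 2 ^ (n - 1) = D.tC * D.zC
  root : IsPrimitiveRoot ω (2 ^ n)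
  g_γ : g * (γ : G) * g⁻¹ ∈ C
  g_γ' : g * (γ' : G) * g⁻¹ ∈ C
  core_norm : ∀ c : G, Commute z c → ∀ x : C, φ x = 1 → c * (x : G) * c⁻¹ ∈ φ.ker.map C.subtype
  comm_mem : ∀ x y : G, Commute z x → Commute z y → ⁅x, y⁆ ∈ C
  cube : ∀ y : G, Commute z y → Commute t y → y ∉ C →
    ∃ x ∈ C, x ∈ centralizer ({z} : Set G) ⊓ centralizer ({t} : Set G) ∧
      ∀ h : ⁅⁅⁅x, y⁆, y⁆, y⁆ ∈ C, φ ⟨_, h⟩ ≠ 1
  sect : ∀ x y : C, z ∈ zpowers (x : G) → z ∈ zpowers (y : G) → φ x = φ y →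
    (b : G → ℂ) (x : G) = (b : G → ℂ) (y : G)
  vals : ∀ i < 2 ^ n, Odd i →
    (b : G → ℂ) ((γ : G) ^ i) - (b : G → ℂ) (z * (γ : G) ^ i) = 2 * (ω ^ (2 * i))⁻¹ + ω ^ i * (1 - (q : ℂ))
  degrees : ∀ (χ : IrrCharacter H) (d : ℕ), (χ : H → ℂ) 1 = (d : ℂ) → d = 1 ∨ q ≤ d + 1 ∧ d ≤ q + 1
  gamma_normal : ∀ N : Subgroup H, N.Normal → φ γ ∈ N → N = ⊤

namespace Wreath

variable {D : Setting X z t g C φ Z n q o δ b} {σ γ γ' : C} {ω : ℂ} (W : Wreath D σ γ γ' ω)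
include W

theorem half_two : 2 * 2 ^ (n - 1) = 2 ^ n := by
  have := W.n_two
  rw [← pow_succ', Nat.sub_add_cancel (by omega)]

theorem half_even : Even (2 ^ (n - 1)) := by
  have := W.n_two
  exact Nat.even_pow.2 ⟨even_two, by omega⟩

theorem four_dvd : 4 ∣ 2 ^ n := by
  have := W.n_two
  exact (show (2 : ℕ) ^ 2 = 4 by norm_num) ▸ pow_dvd_pow 2 this

theorem q_succ : q + 1 = 2 ^ n * o := by
  have h := D.line.q_sub
  rw [W.neg] at h
  have h' : ((q + 1 : ℕ) : ℤ) = ((2 ^ n * o : ℕ) : ℤ) := by push_cast; push_cast at h; linarith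
  exact_mod_cast h'

theorem small (χ : IrrCharacter H) (d : ℕ) (hd : (χ : H → ℂ) 1 = (d : ℂ)) (h : d + 1 < q) : d = 1 :=
  (W.degrees χ d hd).resolve_right fun h' => by omega

theorem zC_two : D.zC * D.zC = 1 := by
  refine Subtype.ext ?_
  show z * z = 1
  rw [← pow_two, ← D.z2, pow_orderOf_eq_one]

theorem zC_comm (x : C) : Commute D.zC x := Subtype.ext (D.le_cent x x.2).eq

theorem tC_two : D.tC * D.tC = 1 := by
  refine Subtype.ext ?_
  show t * t = 1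
  rw [← pow_two, ← D.t2, pow_orderOf_eq_one]

theorem map_t_ne_one : φ D.tC ≠ 1 := fun h => by
  have h2 : orderOf (φ D.tC) = 2 := D.line.t_two
  rw [h, orderOf_one] at h2
  exact absurd h2 (by norm_num)

theorem map_z_ne_one : φ D.zC ≠ 1 := fun h => D.odd_order h (by
  rw [← Subgroup.orderOf_coe, show ((D.zC : C) : G) = z from rfl, D.z2])

/-- `σ` moves `t` to `t z`. -/
theorem conj_t : σ * D.tC * σ⁻¹ = D.tC * D.zC := by
  rw [← W.pow_t, ← conj_pow, W.conj_γ, W.pow_tz, W.pow_t]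

/-- `σ` moves `t z` to `t`. -/
theorem conj_tz : σ * (D.tC * D.zC) * σ⁻¹ = D.tC := by
  calc σ * (D.tC * D.zC) * σ⁻¹ = σ * D.tC * σ⁻¹ * (σ * D.zC * σ⁻¹) := by group
    _ = D.tC * D.zC * D.zC := by rw [W.conj_t, ← (W.zC_comm σ).eq, mul_inv_cancel_right]
    _ = D.tC := by rw [mul_assoc, W.zC_two, mul_one]

theorem mem_cT_iff {y : C} : y ∈ D.cT ↔ Commute D.tC y := by
  rw [Setting.cT, mem_centralizer_singleton_iff]
  exact ⟨fun h => h.symm, fun h => h.eq.symm⟩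

theorem tC_mem_cT : D.tC ∈ D.cT := W.mem_cT_iff.2 (Commute.refl _)

theorem zC_mem_cT : D.zC ∈ D.cT := W.mem_cT_iff.2 (W.zC_comm _).symm

theorem γ_mem_cT : γ ∈ D.cT := W.mem_cT_iff.2 (W.pow_t ▸ (Commute.refl γ).pow_left _)

theorem γ'_mem_cT : γ' ∈ D.cT := W.mem_cT_iff.2 (W.pow_t ▸ W.comm.pow_left _)

/-- `C ∩ C(t) = C ∩ C(t z)` is stable under `σ`. -/
theorem conj_mem_cT {y : C} (hy : y ∈ D.cT) : σ * y * σ⁻¹ ∈ D.cT := by
  refine W.mem_cT_iff.2 ?_
  have h : Commute (D.tC * D.zC) y := (W.mem_cT_iff.1 hy).mul_left (W.zC_comm y)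
  have h' := h.map (MulAut.conj σ).toMonoidHom
  simpa [MulAut.conj_apply, W.conj_tz] using h'

theorem sq_mem_cT : σ * σ ∈ D.cT := by
  refine W.mem_cT_iff.2 (SemiconjBy.eq ?_).symm
  show σ * σ * D.tC = D.tC * (σ * σ)
  calc σ * σ * D.tC = σ * (σ * D.tC * σ⁻¹) * σ⁻¹ * (σ * σ) := by group
    _ = D.tC * (σ * σ) := by rw [W.conj_t, W.conj_tz]

theorem orderOf_γ : orderOf γ = 2 ^ n := by
  have hn := W.n_two
  obtain ⟨m, rfl⟩ : ∃ m, n = m + 1 := ⟨n - 1, by omega⟩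
  have := Fact.mk Nat.prime_two
  refine orderOf_eq_prime_pow (fun h => ?_) W.pow_N
  have ht := W.pow_t
  rw [Nat.add_sub_cancel, h] at ht
  exact W.map_t_ne_one (by rw [← ht, map_one])

theorem pow_N' : γ' ^ 2 ^ n = 1 := by rw [← W.conj_γ, conj_pow, W.pow_N, mul_one, mul_inv_cancel]

theorem sigma_conj_γ' : σ * γ' * σ⁻¹ = σ * σ * γ * (σ * σ)⁻¹ := by rw [← W.conj_γ]; group

/-- An odd power of `γ`, to the half of the order, is `t`. -/
theorem pow_half {i : ℕ} (hi : Odd i) : (γ ^ i) ^ 2 ^ (n - 1) = D.tC := by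
  obtain ⟨s, rfl⟩ := hi
  rw [← pow_mul, add_mul, one_mul, mul_right_comm, W.half_two, pow_add, pow_mul, W.pow_N, one_pow,
    one_mul, W.pow_t]

/-- `t` is a power of `γ ^ i`. -/
theorem t_mem_zpowers {i : ℕ} (hi : Odd i) : D.tC ∈ zpowers (γ ^ i) := by
  rw [← W.pow_half hi]
  exact pow_mem (mem_zpowers _) _

/-- `t` is a power of `z γ ^ i`. -/
theorem t_mem_zpowers_z {i : ℕ} (hi : Odd i) : D.tC ∈ zpowers (D.zC * γ ^ i) := by
  obtain ⟨l, hl⟩ := W.half_even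
  have h : (D.zC * γ ^ i) ^ 2 ^ (n - 1) ∈ zpowers (D.zC * γ ^ i) := pow_mem (mem_zpowers _) _
  rwa [(W.zC_comm _).mul_pow, W.pow_half hi, hl, pow_add, ← (W.zC_comm D.zC).mul_pow, W.zC_two, one_pow,
    one_mul] at h

/-- An element with a power mapped to `φ z` has `z` among its powers. -/
theorem mem_zpowers_of_map {x : C} (h : φ D.zC ∈ zpowers (φ x)) : z ∈ zpowers (x : G) := by
  obtain ⟨m, hm⟩ := mem_zpowers_iff.1 h
  set e := D.zC * x ^ m with he
  have hek : φ e = 1 := by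
    rw [he, map_mul, map_zpow, hm, ← map_mul, W.zC_two, map_one]
  obtain ⟨l, hl⟩ := Nat.odd_iff.2 (Nat.two_dvd_ne_zero.1 (D.odd_order hek))
  have hp : (x ^ m) ^ (orderOf e) = D.zC := by
    have hx : x ^ m = D.zC * e := by rw [he, ← mul_assoc, W.zC_two, one_mul]
    rw [hx, (W.zC_comm e).mul_pow, pow_orderOf_eq_one, mul_one, hl, pow_succ, pow_mul, pow_two, W.zC_two,
      one_pow, one_mul]
  refine mem_zpowers_iff.2 ⟨m * (orderOf e : ℕ), ?_⟩
  rw [zpow_mul, zpow_natCast, ← SubgroupClass.coe_zpow, ← SubgroupClass.coe_pow, hp]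
  rfl

/-! ### The preimage of the torus -/

theorem mem_torusPre {y : C} (hy : y ∈ D.cT) : y ∈ D.torusPre :=
  mem_centralizer_singleton_iff.2 ((W.mem_cT_iff.1 hy).symm.map φ).eq

theorem sigma_conj_torusPre {y : C} (hy : y ∈ D.torusPre) : σ * y * σ⁻¹ ∈ D.torusPre := by
  have hy' : Commute (φ D.tC) (φ y) := (mem_centralizer_singleton_iff.1 hy).symm
  have hz : Commute (φ D.zC) (φ y) := (W.zC_comm y).map φ
  have h := (hy'.mul_left hz).map (MulAut.conj (φ σ)).toMonoidHom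
  simp only [MulEquiv.coe_toMonoidHom, MulAut.conj_apply, ← map_inv, ← map_mul, W.conj_tz] at h
  exact mem_centralizer_singleton_iff.2 h.eq.symm

theorem sigma_notMem_torusPre : σ ∉ D.torusPre := fun h => by
  have h' : φ (σ * D.tC * σ⁻¹) = φ D.tC := by
    rw [map_mul, map_mul, map_inv, (mem_centralizer_singleton_iff.1 h : φ σ * φ D.tC = φ D.tC * φ σ),
      mul_inv_cancel_right]
  rw [W.conj_t, map_mul, mul_eq_left] at h'
  exact W.map_z_ne_one h'

/-! ### Through `g` -/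

theorem mem_img {x : G} : x ∈ φ.ker.map C.subtype ↔ ∃ h : x ∈ C, φ ⟨x, h⟩ = 1 := by
  constructor
  · rintro ⟨a, ha, rfl⟩
    exact ⟨a.2, ha⟩
  · rintro ⟨h, ha⟩
    exact ⟨⟨x, h⟩, ha, rfl⟩

theorem g_conj_comm_z {y : C} (hy : y ∈ D.cT) : Commute z (g * (y : G) * g⁻¹) := by
  have h := (D.mem_cT.1 hy).map (MulAut.conj g)
  simp only [MulAut.conj_apply, D.g_t] at h
  exact h

theorem g_conj_comm_t (y : C) : Commute t (g * (y : G) * g⁻¹) := by
  have h := (D.le_cent _ y.2).map (MulAut.conj g)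
  simp only [MulAut.conj_apply, D.g_z] at h
  exact h

/-- The elements of the core in `C(t)` lying in the core at `t` and at `t z`. -/
def A0 (_ : Wreath D σ γ γ' ω) : Subgroup C :=
  φ.ker ⊓ D.cT ⊓ (φ.ker.map C.subtype).comap ((MulAut.conj g).toMonoidHom.comp C.subtype) ⊓
    (φ.ker.map C.subtype).comap
      ((MulAut.conj g).toMonoidHom.comp (C.subtype.comp (MulAut.conj σ).toMonoidHom))

theorem mem_A0 {a : C} :
    a ∈ W.A0 ↔ φ a = 1 ∧ a ∈ D.cT ∧ g * (a : G) * g⁻¹ ∈ φ.ker.map C.subtype ∧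
      g * ((σ * a * σ⁻¹ : C) : G) * g⁻¹ ∈ φ.ker.map C.subtype := by
  simp only [A0, mem_inf, MonoidHom.mem_ker, mem_comap, MonoidHom.comp_apply, MulEquiv.coe_toMonoidHom,
    MulAut.conj_apply, Subgroup.coe_subtype, and_assoc]

theorem A0_le_ker : W.A0 ≤ φ.ker := fun _ ha => (W.mem_A0.1 ha).1

theorem A0_le_cT : W.A0 ≤ D.cT := fun _ ha => (W.mem_A0.1 ha).2.1

theorem img_conj {y : C} (hy : y ∈ D.cT) {x : G} (hx : x ∈ φ.ker.map C.subtype) :
    g * (y : G) * g⁻¹ * x * (g * (y : G) * g⁻¹)⁻¹ ∈ φ.ker.map C.subtype := by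
  obtain ⟨a, ha, rfl⟩ := hx
  exact W.core_norm _ (W.g_conj_comm_z hy) a ha

/-- `C ∩ C(t)` normalises `A0`. -/
theorem conj_mem_A0 {y a : C} (hy : y ∈ D.cT) (ha : a ∈ W.A0) : y * a * y⁻¹ ∈ W.A0 := by
  obtain ⟨h1, h2, h3, h4⟩ := W.mem_A0.1 ha
  refine W.mem_A0.2 ⟨by rw [map_mul, map_mul, map_inv, h1, mul_one, mul_inv_cancel],
    D.cT.mul_mem (D.cT.mul_mem hy h2) (D.cT.inv_mem hy), ?_, ?_⟩
  · have e : g * ((y * a * y⁻¹ : C) : G) * g⁻¹ =
        g * (y : G) * g⁻¹ * (g * (a : G) * g⁻¹) * (g * (y : G) * g⁻¹)⁻¹ := by push_cast; group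
    rw [e]; exact W.img_conj hy h3
  · have e : g * ((σ * (y * a * y⁻¹) * σ⁻¹ : C) : G) * g⁻¹ =
        g * ((σ * y * σ⁻¹ : C) : G) * g⁻¹ * (g * ((σ * a * σ⁻¹ : C) : G) * g⁻¹) *
          (g * ((σ * y * σ⁻¹ : C) : G) * g⁻¹)⁻¹ := by push_cast; group
    rw [e]; exact W.img_conj (W.conj_mem_cT hy) h4

/-- `σ` normalises `A0`. -/
theorem sigma_conj_mem_A0 {a : C} (ha : a ∈ W.A0) : σ * a * σ⁻¹ ∈ W.A0 := by
  obtain ⟨h1, h2, h3, h4⟩ := W.mem_A0.1 ha
  refine W.mem_A0.2 ⟨by rw [map_mul, map_mul, map_inv, h1, mul_one, mul_inv_cancel], W.conj_mem_cT h2, h4, ?_⟩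
  have e : g * ((σ * (σ * a * σ⁻¹) * σ⁻¹ : C) : G) * g⁻¹ =
      g * ((σ * σ : C) : G) * g⁻¹ * (g * (a : G) * g⁻¹) * (g * ((σ * σ : C) : G) * g⁻¹)⁻¹ := by push_cast; group
  rw [e]; exact W.img_conj W.sq_mem_cT h3

theorem A0_coprime : (2 ^ n).Coprime (Nat.card W.A0) :=
  ((Nat.prime_two.coprime_iff_not_dvd.2 fun h => D.ker_odd (h.trans (card_dvd_of_le W.A0_le_ker)))).pow_left n

end Wreath

end Cfsg.Agent.SDKeystone.Budget
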