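import Cfsg.Agent.EqLemmas
import Mathlib.Algebra.BigOperators.Ring.Finset
import Mathlib.Algebra.Order.BigOperators.Ring.Finset
import Mathlib.Tactic.Linarith
import Mathlib.Tactic.Ring
import Mathlib.Tactic.NormNum

/-!
# Integers of small variance, invariant under a fixed point free involution

* `pair_of_variance` : of `k` integers, `4 ∣ k`, paired by an involution, with
  `∑ (k m - ∑ m) ^ 2 < 2 k ^ 2`, either all are equal, or all but one pair, which differs by one; in the
  second case the sum is at least `k ^ 2`.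
-/

set_option autoImplicit false

namespace Cfsg.Agent.SDKeystone.Budget

variable {α : Type*} [DecidableEq α]

/-- A stable subset is a pair or has at least four elements. -/
theorem pair_or_four {S : Finset α} {f : α → α} (hf : ∀ a ∈ S, f a ∈ S ∧ f (f a) = a ∧ f a ≠ a)
    (hne : S.Nonempty) : (∃ p ∈ S, ∀ a, a ∈ S ↔ a = p ∨ a = f p) ∨ 4 ≤ S.card := by
  obtain ⟨p, hp⟩ := hne
  obtain ⟨hfp, hffp, hfpne⟩ := hf p hp
  by_cases h : ∀ a ∈ S, a = p ∨ a = f p
  · refine Or.inl ⟨p, hp, fun a => ⟨h a, ?_⟩⟩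
    rintro (rfl | rfl) <;> assumption
  · push Not at h
    obtain ⟨a, ha, hap, hafp⟩ := h
    obtain ⟨hfa, hffa, hfane⟩ := hf a ha
    have h1 : f a ≠ p := fun e => hafp (by rw [← e, hffa])
    have h2 : f a ≠ f p := fun e => hap (by rw [← hffa, e, hffp])
    refine Or.inr ?_
    have hsub : ({p, f p, a, f a} : Finset α) ⊆ S := by
      intro x hx
      simp only [Finset.mem_insert, Finset.mem_singleton] at hx
      rcases hx with rfl | rfl | rfl | rfl <;> assumption
    refine le_trans (le_of_eq ?_) (Finset.card_le_card hsub)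
    rw [Finset.card_insert_of_notMem (by simp [hfpne.symm, Ne.symm hap, h1.symm]),
      Finset.card_insert_of_notMem (by simp [Ne.symm hafp, h2.symm]),
      Finset.card_insert_of_notMem (by simp [hfane.symm]), Finset.card_singleton]

/-- Integers of small variance, paired by an involution. -/
theorem pair_of_variance (D : Finset α) (m : α → ℤ) (f : α → α)
    (hf : ∀ a ∈ D, f a ∈ D ∧ f (f a) = a ∧ f a ≠ a ∧ m (f a) = m a) (h4 : 4 ∣ D.card)
    (hv : ∑ a ∈ D, ((D.card : ℤ) * m a - ∑ b ∈ D, m b) ^ 2 < 2 * (D.card : ℤ) ^ 2) :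
    (∀ a ∈ D, (D.card : ℤ) * m a = ∑ b ∈ D, m b) ∨
      ((D.card : ℤ) ^ 2 ≤ ∑ a ∈ D, ((D.card : ℤ) * m a - ∑ b ∈ D, m b) ^ 2 ∧
        ∃ p ∈ D, ∃ c ε : ℤ, (ε = 1 ∨ ε = -1) ∧
          ∀ a ∈ D, m a = c + if a = p ∨ a = f p then ε else 0) := by
  rcases D.eq_empty_or_nonempty with rfl | hDne
  · left; simp
  set k : ℤ := (D.card : ℤ) with hk
  have hk4 : 4 ≤ k := by
    obtain ⟨j, hj⟩ := h4
    have : 0 < D.card := hDne.card_pos
    rw [hk, hj]; push_cast
    have : 0 < j := by omega
    linarith [(Int.ofNat_le.2 this : (1 : ℤ) ≤ (j : ℤ))]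
  set S : ℤ := ∑ b ∈ D, m b with hS
  set c : ℤ := S / k with hc
  set r : ℤ := S % k with hr
  have hr0 : 0 ≤ r := Int.emod_nonneg _ (by omega)
  have hrk : r < k := Int.emod_lt_of_pos _ (by omega)
  have hSc : S = k * c + r := (Int.mul_ediv_add_emod S k).symm
  have hsum : ∑ a ∈ D, (m a - c) = r := by
    rw [Finset.sum_sub_distrib, Finset.sum_const, ← hS, hSc, nsmul_eq_mul]
    ring
  have hform : ∑ a ∈ D, (k * m a - S) ^ 2 =
      k ^ 2 * ∑ a ∈ D, (m a - c) * (m a - c - 1) + k * (r * (k - r)) := by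
    have e : ∀ a ∈ D, (k * m a - S) ^ 2 =
        k ^ 2 * ((m a - c) * (m a - c - 1)) + (k ^ 2 - 2 * k * r) * (m a - c) + r ^ 2 := by
      intro a _; rw [hSc]; ring
    rw [Finset.sum_congr rfl e, Finset.sum_add_distrib, Finset.sum_add_distrib, ← Finset.mul_sum, ← Finset.mul_sum,
      hsum, Finset.sum_const, nsmul_eq_mul, ← hk]
    ring
  have hnn : ∀ a ∈ D, 0 ≤ (m a - c) * (m a - c - 1) := by
    intro a _
    rcases le_or_gt (m a - c) 0 with h | h
    · exact mul_nonneg_of_nonpos_of_nonpos h (by omega)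
    · exact mul_nonneg h.le (by omega)
  have hrr : 0 ≤ k * (r * (k - r)) := mul_nonneg (by omega) (mul_nonneg hr0 (by omega))
  have hzo : ∀ a ∈ D, m a = c ∨ m a = c + 1 := by
    intro a ha
    by_contra hno
    push Not at hno
    obtain ⟨hfa, -, hne, hm⟩ := hf a ha
    have h2 : 2 ≤ (m a - c) * (m a - c - 1) := by
      rcases le_or_gt (m a - c) 0 with h | h
      · nlinarith [show m a - c ≤ -1 by omega]
      · nlinarith [show 2 ≤ m a - c by omega]
    have h4' := Finset.sum_le_sum_of_subset_of_nonneg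
      (Finset.insert_subset ha (Finset.singleton_subset_iff.2 hfa) : ({a, f a} : Finset α) ⊆ D)
      (fun x hx _ => hnn x hx)
    rw [Finset.sum_pair hne.symm, hm] at h4'
    rw [hform] at hv
    nlinarith [sq_nonneg k]
  have hprod : ∑ a ∈ D, (m a - c) * (m a - c - 1) = 0 := Finset.sum_eq_zero fun a ha => by
    rcases hzo a ha with h | h <;> simp [h]
  rw [hform, hprod, mul_zero, zero_add] at hv ⊢
  set S1 := D.filter fun a => m a = c + 1 with hS1
  set S0 := D.filter fun a => ¬ m a = c + 1 with hS0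
  have hr1 : (S1.card : ℤ) = r := by
    rw [← hsum, ← Finset.sum_filter_add_sum_filter_not D (fun a => m a = c + 1),
      Finset.sum_congr rfl (g := fun _ => (1 : ℤ)) (fun a ha => by rw [(Finset.mem_filter.1 ha).2]; ring),
      Finset.sum_eq_zero (s := D.filter fun a => ¬ m a = c + 1) (fun a ha => by
        rw [(hzo a (Finset.mem_filter.1 ha).1).resolve_right (Finset.mem_filter.1 ha).2, sub_self])]
    simp [hS1]
  have hr2 : (S0.card : ℤ) = k - r := by
    have := Finset.card_filter_add_card_filter_not (s := D) (fun a => m a = c + 1)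
    rw [← hS1, ← hS0] at this
    rw [← hr1, hk, ← this]; push_cast; ring
  have hstab : ∀ P : ℤ → Prop, ∀ [DecidablePred fun a => P (m a)], ∀ a ∈ D.filter (fun a => P (m a)),
      f a ∈ D.filter (fun a => P (m a)) ∧ f (f a) = a ∧ f a ≠ a := by
    intro P _ a ha
    obtain ⟨ha, hPa⟩ := Finset.mem_filter.1 ha
    obtain ⟨h1, h2, h3, h4⟩ := hf a ha
    exact ⟨Finset.mem_filter.2 ⟨h1, by rwa [h4]⟩, h2, h3⟩
  have hbound : 2 * (k - 2) ≥ k := by omega
  rcases S1.eq_empty_or_nonempty with h1 | h1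
  · left
    intro a ha
    have hr' : r = 0 := by rw [← hr1, h1]; simp
    have : m a = c := (hzo a ha).resolve_right fun e => by
      have : a ∈ S1 := Finset.mem_filter.2 ⟨ha, e⟩
      simp [h1] at this
    rw [this, hSc, hr', add_zero]
  have h0 : S0.Nonempty := by
    refine Finset.card_pos.1 ?_
    have : (0 : ℤ) < S0.card := by rw [hr2]; omega
    exact_mod_cast this
  right
  rcases pair_or_four (hstab (fun x => x = c + 1)) h1 with ⟨p, hp, hpS⟩ | hfour
  · have hr' : r = 2 := by
      have : S1 = {p, f p} := Finset.ext fun a => by rw [hpS a]; simp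
      rw [← hr1, this, Finset.card_pair ((hstab (fun x => x = c + 1) p hp).2.2).symm]; rfl
    refine ⟨?_, p, (Finset.mem_filter.1 hp).1, c, 1, Or.inl rfl, fun a ha => ?_⟩
    · rw [hr', pow_two]; exact mul_le_mul_of_nonneg_left hbound (by omega)
    · split_ifs with h
      · exact (Finset.mem_filter.1 ((hpS a).2 h)).2
      · rw [add_zero]
        exact (hzo a ha).resolve_right fun e => h ((hpS a).1 (Finset.mem_filter.2 ⟨ha, e⟩))
  rcases pair_or_four (hstab (fun x => ¬ x = c + 1)) h0 with ⟨p, hp, hpS⟩ | hfour'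
  · have hr' : k - r = 2 := by
      have : S0 = {p, f p} := Finset.ext fun a => by rw [hpS a]; simp
      rw [← hr2, this, Finset.card_pair ((hstab (fun x => ¬ x = c + 1) p hp).2.2).symm]; rfl
    refine ⟨?_, p, (Finset.mem_filter.1 hp).1, c + 1, -1, Or.inr rfl, fun a ha => ?_⟩
    · rw [hr', pow_two]; exact mul_le_mul_of_nonneg_left (by omega) (by omega)
    · split_ifs with h
      · rw [(hzo a ha).resolve_right (Finset.mem_filter.1 ((hpS a).2 h)).2]; ring
      · rw [add_zero]
        by_contra e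
        exact h ((hpS a).1 (Finset.mem_filter.2 ⟨ha, e⟩))
  exfalso
  have e1 : 4 ≤ r := by rw [← hr1]; exact_mod_cast hfour
  have e2 : 4 ≤ k - r := by rw [← hr2]; exact_mod_cast hfour'
  have e3 : 4 * (k - 4) ≤ r * (k - r) := by nlinarith [mul_nonneg (sub_nonneg.2 e1) (sub_nonneg.2 e2)]
  have e4 := mul_le_mul_of_nonneg_left e3 (show (0 : ℤ) ≤ k by omega)
  nlinarith

end Cfsg.Agent.SDKeystone.Budget
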