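import Cfsg.Agent.Lib.SDKeystone.Budget.WreathTorus
import Cfsg.Agent.Lib.SDKeystone.Budget.WreathCoset
import Mathlib.GroupTheory.SemidirectProduct

/-!
# The degree budget, wreathed case: the functional on the odd powers of `γ`

* `lam`, `lamT` : `f ↦ ∑ i odd, ∑ a ∈ A0, (ω ^ i)⁻¹ f (γ ^ i a)` on `C` and on the preimage of the torus;
* `lam_oddPart` : its value on the part of `b` negated by `z`;
* `lamT_bound` : for a character negated by `z`, the sum with the `σ`-conjugate is at most `h |A0|` times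
  the degree, and the data of the equality case.
-/

set_option autoImplicit false
set_option linter.unusedSectionVars false
set_option linter.style.haveILetI false

open scoped ComplexConjugate commutatorElement

namespace Cfsg.Agent.SDKeystone.Budget

open Subgroup Cfsg Cfsg.Agent.Char Cfsg.Agent.InvolChar

universe u v w

section General

theorem sum_odd_pow (h : ℕ) {ζ : ℂ} (hζ : ζ ^ (2 * h) = 1) :
    ∑ i ∈ (Finset.range (2 * h)).filter Odd, ζ ^ i = if ζ ^ 2 = 1 then (h : ℂ) * ζ else 0 := by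
  have e : ∑ i ∈ (Finset.range (2 * h)).filter Odd, ζ ^ i = ∑ j ∈ Finset.range h, ζ * (ζ ^ 2) ^ j := by
    refine (Finset.sum_nbij' (fun j => 2 * j + 1) (fun i => i / 2) ?_ ?_ ?_ ?_ ?_).symm
    · intro j hj
      simp only [Finset.mem_range, Finset.mem_filter] at hj ⊢
      exact ⟨by omega, ⟨j, rfl⟩⟩
    · intro i hi
      simp only [Finset.mem_range, Finset.mem_filter] at hi ⊢
      omega
    · intro j _
      show (2 * j + 1) / 2 = j
      omega
    · intro i hi
      simp only [Finset.mem_range, Finset.mem_filter, Nat.odd_iff] at hi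
      show 2 * (i / 2) + 1 = i
      omega
    · intro j _
      rw [← pow_mul, ← pow_succ']
  rw [e, ← Finset.mul_sum]
  split_ifs with h2
  · simp [h2, mul_comm]
  · rw [geom_sum_eq h2, ← pow_mul, hζ, sub_self, zero_div, mul_zero]

/-- A character does not see an element of its kernel. -/
theorem apply_mul_of_ker {R : Type*} [Group R] [Finite R] {χ : R → ℂ} (hχ : IsCharacter R χ) {a : R}
    (ha : χ a = χ 1) (x : R) : χ (x * a) = χ x := by
  obtain ⟨k, ρ, rfl⟩ := hχ
  rw [Representation.char_one] at ha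
  have h := (character_eq_finrank_iff ρ a).1 ha
  show LinearMap.trace ℂ _ (ρ (x * a)) = LinearMap.trace ℂ _ (ρ x)
  rw [map_mul, h, ← Module.End.one_eq_id, mul_one]

end General

variable {G : Type u} [Group G] [Fintype G] {H : Type v} [Group H] [Finite H] {X : Type w} [MulAction H X]
  {z t g : G} {C : Subgroup G} [Fintype C] {φ : C →* H} {Z : Subgroup H}
  {n q o : ℕ} {δ : ℤ} {b : IrrCharacter G}

namespace Wreath

variable {D : Setting X z t g C φ Z n q o δ b} {σ γ γ' : C} {ω : ℂ} (W : Wreath D σ γ γ' ω)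
include W

theorem A0_le_torusPre : W.A0 ≤ D.torusPre := fun _ ha => W.mem_torusPre (W.A0_le_cT ha)

/-- `γ` in the preimage of the torus. -/
def γT : D.torusPre := ⟨γ, W.mem_torusPre W.γ_mem_cT⟩

/-- `γ'` in the preimage of the torus. -/
def γ'T : D.torusPre := ⟨γ', W.mem_torusPre W.γ'_mem_cT⟩

/-- `z` in the preimage of the torus. -/
def zT : D.torusPre := ⟨D.zC, W.mem_torusPre W.zC_mem_cT⟩

/-- `A0` in the preimage of the torus. -/
def aT : W.A0 →* D.torusPre := Subgroup.inclusion W.A0_le_torusPre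

theorem aT_coe (a : W.A0) : ((W.aT a : D.torusPre) : C) = a := rfl

/-- Conjugation by `σ` on the preimage of the torus. -/
noncomputable def sigmaT : D.torusPre ≃* D.torusPre :=
  MulEquiv.ofBijective
    (((MulAut.conj σ).toMonoidHom.comp D.torusPre.subtype).codRestrict D.torusPre
      fun x => W.sigma_conj_torusPre x.2)
    (Finite.injective_iff_bijective.1 fun x y h =>
      Subtype.ext ((MulAut.conj σ).injective (congrArg Subtype.val h)))

theorem sigmaT_coe (x : D.torusPre) : ((W.sigmaT x : D.torusPre) : C) = σ * (x : C) * σ⁻¹ := rfl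

theorem sigmaT_γT : W.sigmaT W.γT = W.γ'T := Subtype.ext W.conj_γ

/-- Conjugation by `σ` on `A0`. -/
noncomputable def sigmaA : W.A0 ≃ W.A0 :=
  Equiv.ofBijective (fun a => ⟨σ * a * σ⁻¹, W.sigma_conj_mem_A0 a.2⟩)
    (Finite.injective_iff_bijective.1 fun x y h =>
      Subtype.ext ((MulAut.conj σ).injective (congrArg Subtype.val h)))

/-- The functional on `C`. -/
noncomputable def lam [Fintype W.A0] (f : C → ℂ) : ℂ :=
  ∑ i ∈ (Finset.range (2 ^ n)).filter Odd, ∑ a : W.A0, (ω ^ i)⁻¹ * f (γ ^ i * (a : C))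

/-- The functional on the preimage of the torus. -/
noncomputable def lamT [Fintype W.A0] (f : D.torusPre → ℂ) : ℂ :=
  ∑ i ∈ (Finset.range (2 ^ n)).filter Odd, ∑ a : W.A0, (ω ^ i)⁻¹ * f (W.γT ^ i * W.aT a)

theorem lam_eq_lamT [Fintype W.A0] (f : C → ℂ) : W.lam f = W.lamT (fun x => f x) := rfl

theorem lam_sum [Fintype W.A0] {ι : Type*} (s : Finset ι) (c : ι → ℂ) (f : ι → C → ℂ) :
    W.lam (fun x => ∑ j ∈ s, c j * f j x) = ∑ j ∈ s, c j * W.lam (f j) := by
  simp only [lam, Finset.mul_sum]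
  rw [Finset.sum_comm (s := s)]
  refine Finset.sum_congr rfl fun i _ => ?_
  rw [Finset.sum_comm (s := s)]
  exact Finset.sum_congr rfl fun a _ => Finset.sum_congr rfl fun j _ => by ring

theorem lamT_sum [Fintype W.A0] {ι : Type*} (s : Finset ι) (c : ι → ℂ) (f : ι → D.torusPre → ℂ) :
    W.lamT (fun x => ∑ j ∈ s, c j * f j x) = ∑ j ∈ s, c j * W.lamT (f j) := by
  simp only [lamT, Finset.mul_sum]
  rw [Finset.sum_comm (s := s)]
  refine Finset.sum_congr rfl fun i _ => ?_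
  rw [Finset.sum_comm (s := s)]
  exact Finset.sum_congr rfl fun a _ => Finset.sum_congr rfl fun j _ => by ring

/-! ### The value on the part of `b` negated by `z` -/

theorem b_mul_A0 {y a : C} (hy : g * (y : G) * g⁻¹ ∈ C) (ht : D.tC ∈ zpowers y) (ha : a ∈ W.A0) :
    (b : G → ℂ) ((y * a : C) : G) = (b : G → ℂ) (y : G) := by
  obtain ⟨hga, hga1⟩ := W.mem_img.1 (W.mem_A0.1 ha).2.2.1
  have hcf := IsIrrCharacter.isClassFunction b.2
  set x : C := ⟨_, hy⟩ with hx
  have hzx : z ∈ zpowers (x : G) := by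
    obtain ⟨m, hm⟩ := mem_zpowers_iff.1 ht
    refine mem_zpowers_iff.2 ⟨m, ?_⟩
    show (g * (y : G) * g⁻¹) ^ m = z
    rw [conj_zpow, ← SubgroupClass.coe_zpow, hm]
    exact D.g_t
  have hφ : φ (x * ⟨_, hga⟩) = φ x := by rw [map_mul, hga1, mul_one]
  have hzz : φ D.zC ∈ zpowers (φ x) := by
    obtain ⟨m, hm⟩ := mem_zpowers_iff.1 hzx
    refine mem_zpowers_iff.2 ⟨m, ?_⟩
    rw [← map_zpow]
    exact congrArg φ (Subtype.ext ((SubgroupClass.coe_zpow x m).trans hm))
  have hs := W.sect (x * ⟨_, hga⟩) x (W.mem_zpowers_of_map (hφ ▸ hzz)) hzx hφ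
  rw [← hcf ((y * a : C) : G) g, ← hcf (y : G) g]
  refine Eq.trans (congrArg (b : G → ℂ) ?_) hs
  show g * ((y : G) * (a : G)) * g⁻¹ = g * (y : G) * g⁻¹ * (g * (a : G) * g⁻¹)
  group

theorem g_pow {i : ℕ} : g * ((γ ^ i : C) : G) * g⁻¹ ∈ C := by
  rw [SubgroupClass.coe_pow, ← conj_pow]
  exact C.pow_mem W.g_γ i

theorem g_z_pow {i : ℕ} : g * ((D.zC * γ ^ i : C) : G) * g⁻¹ ∈ C := by
  have e : g * ((D.zC * γ ^ i : C) : G) * g⁻¹ = g * z * g⁻¹ * (g * ((γ ^ i : C) : G) * g⁻¹) := by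
    show g * (z * ((γ ^ i : C) : G)) * g⁻¹ = _
    group
  rw [e, D.g_z]
  exact C.mul_mem D.t_mem W.g_pow

theorem part_oddPart_apply {i : ℕ} (hi : i < 2 ^ n) (ho : Odd i) {a : C} (ha : a ∈ W.A0) :
    part b D.oddPart (γ ^ i * a) = (ω ^ (2 * i))⁻¹ + ω ^ i * ((1 - (q : ℂ)) / 2) := by
  have h1 := D.apply_eq (γ ^ i * a)
  have h2 := D.apply_z_mul (γ ^ i * a)
  rw [W.b_mul_A0 W.g_pow (W.t_mem_zpowers ho) ha] at h1
  have h3 := W.b_mul_A0 W.g_z_pow (W.t_mem_zpowers_z ho) ha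
  rw [mul_assoc] at h3
  change (b : G → ℂ) (z * ((γ ^ i * a : C) : G)) = (b : G → ℂ) (z * ((γ ^ i : C) : G)) at h3
  rw [h3] at h2
  have hv := W.vals i hi ho
  rw [← SubgroupClass.coe_pow] at hv
  linear_combination h2 / 2 - h1 / 2 + hv / 2

theorem ω_ne_zero : ω ≠ 0 := W.root.ne_zero (by positivity)

theorem ω_half : ω ^ 2 ^ (n - 1) = -1 := by
  refine (mul_self_eq_one_iff.1 (?_ : ω ^ 2 ^ (n - 1) * ω ^ 2 ^ (n - 1) = 1)).resolve_left ?_
  · rw [← pow_add, ← two_mul, W.half_two]; exact W.root.pow_eq_one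
  · exact W.root.pow_ne_one_of_pos_of_lt (by positivity) (Nat.pow_lt_pow_right Nat.one_lt_two
      (by have := W.n_two; omega))

theorem ω_six : ((ω ^ 3)⁻¹) ^ 2 ≠ 1 := by
  rw [inv_pow, ← pow_mul, ne_eq, inv_eq_one]
  intro h
  have h4 := W.four_dvd.trans (W.root.dvd_of_pow_eq_one _ h)
  omega

theorem lam_oddPart [Fintype W.A0] :
    W.lam (part b D.oddPart) = (Nat.card W.A0 : ℂ) * ((2 ^ (n - 1) : ℕ) * ((1 - (q : ℂ)) / 2)) := by
  have e : ∀ i ∈ (Finset.range (2 ^ n)).filter Odd, ∑ a : W.A0, (ω ^ i)⁻¹ * part b D.oddPart (γ ^ i * a) =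
      (Nat.card W.A0 : ℂ) * (((ω ^ 3)⁻¹) ^ i + (1 - (q : ℂ)) / 2) := by
    intro i hi
    obtain ⟨hi, ho⟩ := Finset.mem_filter.1 hi
    rw [Finset.sum_congr rfl fun a _ => by rw [W.part_oddPart_apply (Finset.mem_range.1 hi) ho a.2],
      Finset.sum_const, Finset.card_univ, nsmul_eq_mul, Nat.card_eq_fintype_card]
    refine congrArg _ ?_
    have h0 : ω ^ i ≠ 0 := pow_ne_zero _ W.ω_ne_zero
    have h1 : ω ^ (2 * i) = ω ^ i * ω ^ i := by rw [two_mul, pow_add]
    have h2 : ((ω ^ 3)⁻¹) ^ i = (ω ^ i * ω ^ i * ω ^ i)⁻¹ := by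
      rw [inv_pow, ← pow_mul, ← pow_add, ← pow_add]; congr 2; omega
    rw [h1, h2]
    field_simp
  rw [lam, Finset.sum_congr rfl e, ← Finset.mul_sum, Finset.sum_add_distrib, ← W.half_two,
    sum_odd_pow _ (by rw [W.half_two, inv_pow, ← pow_mul, mul_comm, pow_mul, W.root.pow_eq_one, one_pow,
      inv_one]), if_neg W.ω_six, zero_add, Finset.sum_const, two_mul, card_odd_range, nsmul_eq_mul]

/-! ### The characters of `⟨γ, γ'⟩` in the functional -/

/-- The group `⟨γ, γ'⟩` in the preimage of the torus. -/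
noncomputable def pairT : Multiplicative (ZMod (2 ^ n)) × Multiplicative (ZMod (2 ^ n)) →* D.torusPre :=
  W.pairHom.codRestrict D.torusPre fun p => W.mem_torusPre (W.pairHom_mem_cT p)

theorem pairT_pow (u v : ℕ) :
    W.pairT (Multiplicative.ofAdd (u : ZMod (2 ^ n)), Multiplicative.ofAdd (v : ZMod (2 ^ n))) =
      W.γT ^ u * W.γ'T ^ v :=
  Subtype.ext (W.pairHom_pow u v)

/-- `⟨γ, γ'⟩` acts on `A0`. -/
noncomputable def actA :
    Multiplicative (ZMod (2 ^ n)) × Multiplicative (ZMod (2 ^ n)) →* MulAut W.A0 where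
  toFun p :=
    { toFun := fun a => ⟨W.pairHom p * a * (W.pairHom p)⁻¹, W.conj_mem_A0 (W.pairHom_mem_cT p) a.2⟩
      invFun := fun a => ⟨(W.pairHom p)⁻¹ * a * W.pairHom p, by
        have h := W.conj_mem_A0 (D.cT.inv_mem (W.pairHom_mem_cT p)) a.2
        rwa [inv_inv] at h⟩
      left_inv := fun a => Subtype.ext (show (W.pairHom p)⁻¹ * (W.pairHom p * a * (W.pairHom p)⁻¹) *
        W.pairHom p = a by group)
      right_inv := fun a => Subtype.ext (show W.pairHom p * ((W.pairHom p)⁻¹ * a * W.pairHom p) *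
        (W.pairHom p)⁻¹ = a by group)
      map_mul' := fun a a' => Subtype.ext (show W.pairHom p * ((a : C) * a') * (W.pairHom p)⁻¹ =
        W.pairHom p * a * (W.pairHom p)⁻¹ * (W.pairHom p * a' * (W.pairHom p)⁻¹) by group) }
  map_one' := MulEquiv.ext fun a => Subtype.ext (show W.pairHom 1 * (a : C) * (W.pairHom 1)⁻¹ = a by simp)
  map_mul' := fun p p' => MulEquiv.ext fun a => Subtype.ext
    (show W.pairHom (p * p') * (a : C) * (W.pairHom (p * p'))⁻¹ =
      W.pairHom p * (W.pairHom p' * a * (W.pairHom p')⁻¹) * (W.pairHom p)⁻¹ by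
      rw [map_mul]; group)

/-- The average over the cosets of `A0` on `⟨γ, γ'⟩`. -/
noncomputable def avgPair [Fintype W.A0] (θ : D.torusPre → ℂ)
    (p : Multiplicative (ZMod (2 ^ n)) × Multiplicative (ZMod (2 ^ n))) : ℂ :=
  (Nat.card W.A0 : ℂ)⁻¹ * ∑ a : W.A0, θ (W.pairT p * W.aT a)

variable [NeZero (2 ^ n)]

/-- The average is a combination of linear characters with natural coefficients. -/
theorem avgPair_eq [Fintype W.A0] {θ : D.torusPre → ℂ} (hθ : IsCharacter D.torusPre θ)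
    [Fintype (IrrCharacter (Multiplicative (ZMod (2 ^ n)) × Multiplicative (ZMod (2 ^ n))))] :
    ∃ (l : IrrCharacter (Multiplicative (ZMod (2 ^ n)) × Multiplicative (ZMod (2 ^ n))) →
        (Multiplicative (ZMod (2 ^ n)) × Multiplicative (ZMod (2 ^ n)) →* ℂ))
      (m : IrrCharacter (Multiplicative (ZMod (2 ^ n)) × Multiplicative (ZMod (2 ^ n))) → ℕ),
      (∀ p, W.avgPair θ p = ∑ j, (m j : ℂ) * l j p) ∧
      ∀ j, classInner (W.avgPair θ) (l j) = m j := by
  classical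
  set P := Multiplicative (ZMod (2 ^ n)) × Multiplicative (ZMod (2 ^ n)) with hP
  letI : Fintype (W.A0 ⋊[W.actA] P) := Fintype.ofEquiv _ SemidirectProduct.equivProd.symm
  choose l hl using fun j : IrrCharacter P => exists_hom_of_degree_one (IsIrrCharacter.isCharacter j.2)
    (apply_one_eq_one_of_comm (fun a c => mul_comm a c) j)
  let L : W.A0 ⋊[W.actA] P →* D.torusPre := SemidirectProduct.lift W.aT W.pairT fun p =>
    MonoidHom.ext fun a => Subtype.ext (show W.pairHom p * (a : C) * (W.pairHom p)⁻¹ =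
      W.pairHom p * (a : C) * (W.pairHom p)⁻¹ from rfl)
  have hcl := IsCharacter.isClassFunction hθ
  have hnat : ∀ j : IrrCharacter P, ∃ m : ℕ, classInner (W.avgPair θ) (l j) = m := by
    intro j
    obtain ⟨m, hm⟩ := IsCharacter.classInner_nat (IsCharacter.comp_hom hθ L)
      (isCharacter_of_hom ((l j).comp SemidirectProduct.rightHom))
    refine ⟨m, ?_⟩
    have hsum : ∀ F : W.A0 ⋊[W.actA] P → ℂ, ∑ x, F x = ∑ p : P, ∑ a : W.A0, F ⟨a, p⟩ := fun F => by
      rw [← Equiv.sum_comp (SemidirectProduct.equivProd (φ := W.actA)).symm, Fintype.sum_prod_type,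
        Finset.sum_comm]
      rfl
    have hcard : (Nat.card (W.A0 ⋊[W.actA] P) : ℂ) = (Nat.card W.A0 : ℂ) * (Nat.card P : ℂ) := by
      rw [Nat.card_congr (SemidirectProduct.equivProd (φ := W.actA)), Nat.card_prod, Nat.cast_mul]
    rw [← hm]
    simp only [classInner, hsum, hcard, avgPair]
    rw [mul_inv, mul_comm (Nat.card W.A0 : ℂ)⁻¹, mul_assoc _ (Nat.card W.A0 : ℂ)⁻¹,
      Finset.mul_sum (a := (Nat.card W.A0 : ℂ)⁻¹)]
    refine congrArg _ (Finset.sum_congr rfl fun p _ => ?_)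
    rw [mul_assoc, Finset.sum_mul]
    refine congrArg _ (Finset.sum_congr rfl fun a _ => ?_)
    show _ = θ (W.aT a * W.pairT p) * conj (l j p)
    rw [show W.aT a * W.pairT p = W.aT a * (W.pairT p * W.aT a) * (W.aT a)⁻¹ by group, hcl]
  choose m hm using hnat
  refine ⟨l, m, fun p => ?_, hm⟩
  have hF : IsClassFunction P (W.avgPair θ) := fun p p' => by rw [mul_comm p' p, mul_inv_cancel_right]
  have e := congrFun (classFunction_eq_sum hF) p
  simp only [Finset.sum_apply, Pi.smul_apply, smul_eq_mul] at e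
  rw [e]
  exact Finset.sum_congr rfl fun j _ => by rw [← hm j, hl j]

omit [NeZero (2 ^ n)]

theorem pairT_half : W.pairT (Multiplicative.ofAdd ((2 ^ (n - 1) : ℕ) : ZMod (2 ^ n)),
    Multiplicative.ofAdd ((2 ^ (n - 1) : ℕ) : ZMod (2 ^ n))) = W.zT :=
  Subtype.ext (by
    show W.pairHom _ = D.zC
    rw [W.pairHom_pow, W.pow_t, W.pow_tz, ← mul_assoc, W.tC_two, one_mul])

theorem weight_sum {x : ℂ} (hx : x ^ 2 ^ n = 1) :
    ∑ i ∈ (Finset.range (2 ^ n)).filter Odd, (ω ^ i)⁻¹ * x ^ i =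
      ((2 ^ (n - 1) : ℕ) : ℂ) * (((if x = ω then 1 else if x = -ω then -1 else 0 : ℤ)) : ℂ) := by
  have hω := W.ω_ne_zero
  have hζ : (x * ω⁻¹) ^ (2 * 2 ^ (n - 1)) = 1 := by
    rw [W.half_two, mul_pow, inv_pow, hx, W.root.pow_eq_one, inv_one, one_mul]
  rw [Finset.sum_congr rfl (g := fun i => (x * ω⁻¹) ^ i) fun i _ => by rw [mul_pow, inv_pow, mul_comm],
    ← W.half_two, sum_odd_pow _ hζ]
  have hiff : (x * ω⁻¹) ^ 2 = 1 ↔ x = ω ∨ x = -ω := by
    rw [pow_two, mul_self_eq_one_iff, mul_inv_eq_one₀ hω, mul_inv_eq_iff_eq_mul₀ hω, neg_one_mul]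
  by_cases h1 : x = ω
  · rw [if_pos (hiff.2 (Or.inl h1)), if_pos h1, h1, mul_inv_cancel₀ hω]
    simp
  by_cases h2 : x = -ω
  · rw [if_pos (hiff.2 (Or.inr h2)), if_neg h1, if_pos h2, h2, neg_mul, mul_inv_cancel₀ hω]
    simp
  · rw [if_neg (fun h => (hiff.1 h).elim h1 h2), if_neg h1, if_neg h2]
    simp

/-- The bound for a character negated by `z`, and the data of the equality case. -/
theorem lamT_bound [Fintype W.A0] {θ : D.torusPre → ℂ} (hθ : IsCharacter D.torusPre θ) {d : ℕ}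
    (hd : θ 1 = d) (hodd : ∀ x, θ (W.zT * x) = -θ x) :
    ‖W.lamT θ + W.lamT (fun x => θ (W.sigmaT x))‖ ≤
        ((2 ^ (n - 1) : ℕ) : ℝ) * (Nat.card W.A0 : ℝ) * d ∧
      (‖W.lamT θ + W.lamT (fun x => θ (W.sigmaT x))‖ = ((2 ^ (n - 1) : ℕ) : ℝ) * (Nat.card W.A0 : ℝ) * d →
        (∀ a : W.A0, θ (W.aT a) = θ 1) ∧ ∃ M₁ M₂ : ℕ,
          ‖θ (W.γT ^ 2 ^ (n - 1))‖ = |(M₂ : ℝ) - M₁| ∧
          (M₁ : ℝ) ≤ ‖θ (W.γT ^ 2 ^ (n - 2))‖ ∧ (M₂ : ℝ) ≤ ‖θ (W.γ'T ^ 2 ^ (n - 2))‖ ∧
          (M₁ = 0 → ‖θ W.γ'T‖ = d) ∧ (M₂ = 0 → ‖θ W.γT‖ = d)) := by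
  classical
  haveI : NeZero (2 ^ n) := ⟨by positivity⟩
  set N := 2 ^ n with hN
  set P := Multiplicative (ZMod N) × Multiplicative (ZMod N) with hP
  letI := Fintype.ofFinite (IrrCharacter P)
  obtain ⟨l, m, hF, hm⟩ : ∃ (l : IrrCharacter P → (P →* ℂ)) (m : IrrCharacter P → ℕ),
      (∀ p : P, W.avgPair θ p = ∑ j, (m j : ℂ) * l j p) ∧
        ∀ j, classInner (W.avgPair θ) (l j) = m j := W.avgPair_eq hθ
  set h := 2 ^ (n - 1) with hh
  set c₀ : ℂ := (Nat.card W.A0 : ℂ) with hc₀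
  have hA0 : c₀ ≠ 0 := Nat.cast_ne_zero.2 Nat.card_pos.ne'
  set e1 : P := (Multiplicative.ofAdd ((1 : ℕ) : ZMod N), Multiplicative.ofAdd ((0 : ℕ) : ZMod N)) with he1
  set e2 : P := (Multiplicative.ofAdd ((0 : ℕ) : ZMod N), Multiplicative.ofAdd ((1 : ℕ) : ZMod N)) with he2
  have hpow : ∀ u v : ℕ, e1 ^ u * e2 ^ v =
      (Multiplicative.ofAdd (u : ZMod N), Multiplicative.ofAdd (v : ZMod N)) := fun u v => by
    refine Prod.ext (Multiplicative.toAdd.injective ?_) (Multiplicative.toAdd.injective ?_)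
    · show u • ((1 : ℕ) : ZMod N) + v • ((0 : ℕ) : ZMod N) = (u : ZMod N)
      simp
    · show u • ((0 : ℕ) : ZMod N) + v • ((1 : ℕ) : ZMod N) = (v : ZMod N)
      simp
  have hpT : ∀ u v : ℕ, W.pairT (e1 ^ u * e2 ^ v) = W.γT ^ u * W.γ'T ^ v := fun u v => by
    rw [hpow, W.pairT_pow]
  set lm : IrrCharacter P → ℂ := fun j => l j e1 with hlm
  set mu : IrrCharacter P → ℂ := fun j => l j e2 with hmu
  have hl : ∀ j u v, l j (e1 ^ u * e2 ^ v) = lm j ^ u * mu j ^ v := fun j u v => by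
    rw [map_mul, map_pow, map_pow]
  have hroot : ∀ e : P, ∀ j, l j e ^ N = 1 := fun e j => by
    have hN' : ∀ a : Multiplicative (ZMod N), a ^ N = 1 := fun a => by
      show N • Multiplicative.toAdd a = 0
      rw [nsmul_eq_mul, ZMod.natCast_self, zero_mul]
    rw [← map_pow, show e ^ N = 1 from Prod.ext (hN' e.1) (hN' e.2), map_one]
  have hsq : ∀ x : ℂ, x ^ N = 1 → x ^ h = 1 ∨ x ^ h = -1 := fun x hx => mul_self_eq_one_iff.1 (by
    rw [← pow_add, ← two_mul, W.half_two]; exact hx)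
  -- supported constituents are odd
  have hsign : ∀ j, m j ≠ 0 → lm j ^ h * mu j ^ h = -1 := by
    intro j hj
    have hneg : ∀ p, W.avgPair θ (e1 ^ h * e2 ^ h * p) = -W.avgPair θ p := fun p => by
      rw [avgPair, avgPair, ← mul_neg, ← Finset.sum_neg_distrib]
      refine congrArg _ (Finset.sum_congr rfl fun a _ => ?_)
      rw [map_mul, hpow, W.pairT_half, mul_assoc, hodd]
    have hx : classInner (W.avgPair θ) (l j) = -conj (l j (e1 ^ h * e2 ^ h)) * classInner (W.avgPair θ) (l j) := by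
      conv_lhs => rw [classInner, ← Equiv.sum_comp (Equiv.mulLeft (e1 ^ h * e2 ^ h))]
      rw [classInner, mul_left_comm (-conj _), Finset.mul_sum (a := -conj _)]
      refine congrArg _ (Finset.sum_congr rfl fun p _ => ?_)
      rw [Equiv.coe_mulLeft, hneg, map_mul, map_mul]
      ring
    rw [hm j, eq_comm, mul_eq_right₀ (Nat.cast_ne_zero.2 hj), neg_eq_iff_eq_neg] at hx
    have := congrArg conj hx
    rwa [Complex.conj_conj, map_neg, map_one, hl] at this
  -- the weights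
  set E : ℂ → ℤ := fun x => if x = ω then 1 else if x = -ω then -1 else 0 with hE
  have hEne : ∀ x, E x ≠ 0 → x ^ h = -1 ∧ ∃ s : ℤ, E x = s ∧ (s = 1 ∨ s = -1) ∧ x = (s : ℂ) * ω := by
    intro x hx
    simp only [hE] at hx ⊢
    by_cases h1 : x = ω
    · rw [if_pos h1]
      exact ⟨by rw [h1]; exact W.ω_half, 1, rfl, Or.inl rfl, by rw [h1]; simp⟩
    rw [if_neg h1] at hx ⊢
    by_cases h2 : x = -ω
    · rw [if_pos h2]
      exact ⟨by rw [h2, W.half_even.neg_pow]; exact W.ω_half, -1, rfl, Or.inr rfl, by rw [h2]; simp⟩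
    · rw [if_neg h2] at hx
      exact absurd rfl hx
  set w : IrrCharacter P → ℤ := fun j => E (lm j) + E (mu j) with hw
  have hone : ∀ j, m j ≠ 0 → E (lm j) = 0 ∨ E (mu j) = 0 := by
    intro j hj
    by_contra hno
    push Not at hno
    have h1 := hsign j hj
    rw [(hEne _ hno.1).1, (hEne _ hno.2).1] at h1
    norm_num at h1
  have hwabs : ∀ j, m j ≠ 0 → -1 ≤ w j ∧ w j ≤ 1 := by
    intro j hj
    have hb : ∀ x, -1 ≤ E x ∧ E x ≤ 1 := fun x => by
      simp only [hE]; split_ifs <;> omega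
    rcases hone j hj with h0 | h0 <;> simp only [hw, h0, zero_add, add_zero] <;> exact hb _
  have hval : ∀ u v : ℕ, ∑ a : W.A0, θ (W.γT ^ u * W.γ'T ^ v * W.aT a) =
      c₀ * ∑ j, (m j : ℂ) * (lm j ^ u * mu j ^ v) := by
    intro u v
    have h1 := hF (e1 ^ u * e2 ^ v)
    simp only [hl] at h1
    rw [← hpT, ← h1, avgPair, ← mul_assoc, mul_inv_cancel₀ hA0, one_mul]
  have hL : W.lamT θ + W.lamT (fun x => θ (W.sigmaT x)) =
      c₀ * ((h : ℂ) * ((∑ j, (m j : ℤ) * w j : ℤ) : ℂ)) := by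
    have e1' : W.lamT θ = ∑ i ∈ (Finset.range N).filter Odd, (ω ^ i)⁻¹ * (c₀ * ∑ j, (m j : ℂ) * lm j ^ i) := by
      refine Finset.sum_congr rfl fun i _ => ?_
      have h1 := hval i 0
      simp only [pow_zero, mul_one] at h1
      rw [← Finset.mul_sum, h1]
    have e2' : W.lamT (fun x => θ (W.sigmaT x)) =
        ∑ i ∈ (Finset.range N).filter Odd, (ω ^ i)⁻¹ * (c₀ * ∑ j, (m j : ℂ) * mu j ^ i) := by
      refine Finset.sum_congr rfl fun i _ => ?_
      have h1 := hval 0 i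
      simp only [pow_zero, one_mul] at h1
      rw [← Finset.mul_sum, ← h1, ← Equiv.sum_comp W.sigmaA (fun a => θ (W.γ'T ^ i * W.aT a))]
      refine congrArg _ (Finset.sum_congr rfl fun a _ => congrArg θ ?_)
      rw [map_mul, map_pow, W.sigmaT_γT]
      rfl
    rw [e1', e2', ← Finset.sum_add_distrib]
    push_cast
    simp only [Finset.mul_sum, ← Finset.sum_add_distrib]
    rw [Finset.sum_comm]
    refine Finset.sum_congr rfl fun j _ => ?_
    have h1 := W.weight_sum (hroot e1 j)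
    have h2 := W.weight_sum (hroot e2 j)
    calc _ = c₀ * (m j : ℂ) * (∑ i ∈ (Finset.range N).filter Odd, (ω ^ i)⁻¹ * lm j ^ i +
          ∑ i ∈ (Finset.range N).filter Odd, (ω ^ i)⁻¹ * mu j ^ i) := by
          rw [← Finset.sum_add_distrib, Finset.mul_sum]
          exact Finset.sum_congr rfl fun i _ => by ring
      _ = _ := by
          rw [h1, h2, hw, hh]
          simp only [hE]
          push_cast
          ring
  -- the total
  have hsum1 : ∑ a : W.A0, θ (W.aT a) = c₀ * ((∑ j, m j : ℕ) : ℂ) := by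
    have h1 := hval 0 0
    simp only [pow_zero, one_mul, mul_one] at h1
    rw [h1]; push_cast; rfl
  have hre : ∀ a : W.A0, (θ (W.aT a)).re ≤ d := fun a => by
    refine (Complex.re_le_norm _).trans ((IsCharacter.norm_le hθ _).trans (le_of_eq ?_))
    rw [hd, Complex.natCast_re]
  have hsumre : ∑ a : W.A0, (θ (W.aT a)).re = (Nat.card W.A0 : ℝ) * ((∑ j, m j : ℕ) : ℝ) := by
    rw [← Complex.re_sum, hsum1, hc₀, ← Nat.cast_mul, Complex.natCast_re, Nat.cast_mul]
  have hApos : (0 : ℝ) < (Nat.card W.A0 : ℝ) := Nat.cast_pos.2 Nat.card_pos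
  have htot : (∑ j, m j) ≤ d := by
    have h1 := Finset.sum_le_card_nsmul Finset.univ (fun a : W.A0 => (θ (W.aT a)).re) (d : ℝ) fun a _ => hre a
    rw [hsumre, Finset.card_univ, nsmul_eq_mul, ← Nat.card_eq_fintype_card] at h1
    exact_mod_cast le_of_mul_le_mul_left h1 hApos
  have hSle : |∑ j, (m j : ℤ) * w j| ≤ ((∑ j, m j : ℕ) : ℤ) := by
    refine (Finset.abs_sum_le_sum_abs _ _).trans ?_
    push_cast
    refine Finset.sum_le_sum fun j _ => ?_
    rcases Nat.eq_zero_or_pos (m j) with h0 | h0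
    · simp [h0]
    · rw [abs_mul, Nat.abs_cast]
      refine mul_le_of_le_one_right (by positivity) (abs_le.2 (hwabs j h0.ne'))
  have hnorm : ‖W.lamT θ + W.lamT (fun x => θ (W.sigmaT x))‖ =
      (h : ℝ) * (Nat.card W.A0 : ℝ) * ((|∑ j, (m j : ℤ) * w j| : ℤ) : ℝ) := by
    rw [hL, norm_mul, norm_mul, hc₀, Complex.norm_natCast, Complex.norm_natCast, Complex.norm_intCast,
      Int.cast_abs]
    ring
  refine ⟨?_, fun heq => ?_⟩
  · rw [hnorm]
    refine mul_le_mul_of_nonneg_left ?_ (by positivity)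
    have : |∑ j, (m j : ℤ) * w j| ≤ (d : ℤ) := hSle.trans (by exact_mod_cast htot)
    exact_mod_cast this
  rw [hnorm] at heq
  have hS : |∑ j, (m j : ℤ) * w j| = (d : ℤ) := by
    have h1 := mul_left_cancel₀ (by positivity : ((h : ℝ) * (Nat.card W.A0 : ℝ)) ≠ 0) heq
    exact_mod_cast h1
  have hmd : ∑ j, m j = d := le_antisymm htot (by
    have : (d : ℤ) ≤ ((∑ j, m j : ℕ) : ℤ) := hS ▸ hSle
    exact_mod_cast this)
  have hker : ∀ a : W.A0, θ (W.aT a) = θ 1 := by
    intro a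
    have h1 : ∑ a : W.A0, ((d : ℝ) - (θ (W.aT a)).re) = 0 := by
      rw [Finset.sum_sub_distrib, hsumre, hmd, Finset.sum_const, Finset.card_univ, nsmul_eq_mul,
        ← Nat.card_eq_fintype_card, sub_self]
    have h2 := sub_eq_zero.1
      ((Finset.sum_eq_zero_iff_of_nonneg fun a _ => sub_nonneg.2 (hre a)).1 h1 a (Finset.mem_univ _))
    have h3 : ‖θ (W.aT a)‖ ≤ (θ (W.aT a)).re := by
      rw [← h2]
      exact (IsCharacter.norm_le hθ _).trans (le_of_eq (by rw [hd, Complex.natCast_re]))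
    have h5 := Complex.re_eq_norm.1 (le_antisymm (Complex.re_le_norm _) h3)
    rw [hd]
    exact Complex.ext (by simpa using h2.symm) (by simpa using (Complex.nonneg_iff.1 h5).2.symm)
  obtain ⟨s, hs, hS'⟩ : ∃ s : ℤ, (s = 1 ∨ s = -1) ∧ ∑ j, (m j : ℤ) * w j = s * d := by
    rcases le_or_gt 0 (∑ j, (m j : ℤ) * w j) with h0 | h0
    · exact ⟨1, Or.inl rfl, by rw [abs_of_nonneg h0] at hS; rw [hS, one_mul]⟩
    · exact ⟨-1, Or.inr rfl, by rw [abs_of_neg h0] at hS; rw [← hS]; ring⟩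
  have hsd : ∀ j, m j ≠ 0 → w j = s := by
    have h1 : ∑ j, (m j : ℤ) * (1 - s * w j) = 0 := by
      have hmz : ∑ j, (m j : ℤ) = d := by exact_mod_cast hmd
      rw [Finset.sum_congr rfl (g := fun j => (m j : ℤ) - s * ((m j : ℤ) * w j)) fun j _ => by ring,
        Finset.sum_sub_distrib, ← Finset.mul_sum, hS', hmz]
      rcases hs with rfl | rfl <;> ring
    intro j hj
    have h2 := (Finset.sum_eq_zero_iff_of_nonneg fun j _ => by
      rcases Nat.eq_zero_or_pos (m j) with h0 | h0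
      · simp [h0]
      · obtain ⟨ha, hb⟩ := hwabs j h0.ne'
        refine mul_nonneg (by positivity) ?_
        rcases hs with rfl | rfl <;> omega).1 h1 j (Finset.mem_univ _)
    have h3 := (mul_eq_zero.1 h2).resolve_left (by exact_mod_cast hj)
    rcases hs with rfl | rfl <;> omega
  set ε : ℂ := (s : ℂ) * ω with hε
  have hcases : ∀ j, m j ≠ 0 →
      (lm j = ε ∧ lm j ^ h = -1 ∧ mu j ^ h = 1) ∨ (mu j = ε ∧ mu j ^ h = -1 ∧ lm j ^ h = 1) := by
    intro j hj
    have hs0 : s ≠ 0 := by rcases hs with rfl | rfl <;> omega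
    have hp := hsign j hj
    rcases hone j hj with h0 | h0
    · have h1 : E (mu j) = s := by have := hsd j hj; simp only [hw, h0, zero_add] at this; exact this
      obtain ⟨h2, s', hs', -, h3⟩ := hEne (mu j) (h1 ▸ hs0)
      refine Or.inr ⟨by rw [h3, ← hs', h1], h2, ?_⟩
      rw [h2] at hp; linear_combination -hp
    · have h1 : E (lm j) = s := by have := hsd j hj; simp only [hw, h0, add_zero] at this; exact this
      obtain ⟨h2, s', hs', -, h3⟩ := hEne (lm j) (h1 ▸ hs0)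
      refine Or.inl ⟨by rw [h3, ← hs', h1], h2, ?_⟩
      rw [h2] at hp; linear_combination -hp
  have hεh : ε ^ h = -1 := by
    rw [hε, mul_pow, hh, W.ω_half]
    rcases hs with rfl | rfl
    · simp
    · rw [Int.cast_neg, Int.cast_one, W.half_even.neg_one_pow, one_mul]
  -- the values
  have hvk : ∀ u v : ℕ, θ (W.γT ^ u * W.γ'T ^ v) = ∑ j, (m j : ℂ) * (lm j ^ u * mu j ^ v) := by
    intro u v
    refine mul_left_cancel₀ hA0 ?_
    rw [← hval, Finset.sum_congr rfl fun a _ => apply_mul_of_ker hθ (hker a) _, Finset.sum_const,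
      Finset.card_univ, nsmul_eq_mul, hc₀, Nat.card_eq_fintype_card]
  refine ⟨hker, ∑ j ∈ Finset.univ.filter (fun j => lm j ^ h = -1), m j,
    ∑ j ∈ Finset.univ.filter (fun j => mu j ^ h = -1), m j, ?_, ?_, ?_, ?_, ?_⟩
  · have h1 := hvk h 0
    simp only [pow_zero, mul_one] at h1
    have e : θ (W.γT ^ h) = (((∑ j ∈ Finset.univ.filter (fun j => mu j ^ h = -1), m j : ℕ) : ℤ) -
        ((∑ j ∈ Finset.univ.filter (fun j => lm j ^ h = -1), m j : ℕ) : ℤ) : ℤ) := by
      rw [h1]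
      push_cast
      rw [Finset.sum_filter, Finset.sum_filter, ← Finset.sum_sub_distrib]
      refine Finset.sum_congr rfl fun j _ => ?_
      rcases eq_or_ne (m j) 0 with h0 | h0
      · simp [h0]
      rcases hcases j h0 with ⟨-, ha, hb⟩ | ⟨-, ha, hb⟩
      · rw [if_neg (by rw [hb]; norm_num), if_pos ha, ha]; ring
      · rw [if_pos ha, if_neg (by rw [hb]; norm_num), hb]; ring
    rw [e, Complex.norm_intCast]
    push_cast
    rfl
  · have him : ∀ x : ℂ, x ^ h = 1 → (x ^ 2 ^ (n - 2)).im = 0 := fun x hx => by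
      have h2 : x ^ 2 ^ (n - 2) * x ^ 2 ^ (n - 2) = 1 := by
        rw [← pow_add, ← two_mul, ← pow_succ', show n - 2 + 1 = n - 1 by have := W.n_two; omega]; exact hx
      rcases mul_self_eq_one_iff.1 h2 with h3 | h3 <;> simp [h3]
    have hι : |(ε ^ 2 ^ (n - 2)).im| = 1 := by
      have h2 : ε ^ 2 ^ (n - 2) * ε ^ 2 ^ (n - 2) = -1 := by
        rw [← pow_add, ← two_mul, ← pow_succ', show n - 2 + 1 = n - 1 by have := W.n_two; omega]; exact hεh
      have h3 : (ε ^ 2 ^ (n - 2) - Complex.I) * (ε ^ 2 ^ (n - 2) + Complex.I) = 0 := by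
        linear_combination h2 - Complex.I_mul_I
      rcases mul_eq_zero.1 h3 with h4 | h4
      · rw [sub_eq_zero.1 h4]; simp
      · rw [eq_neg_of_add_eq_zero_left h4]; simp
    have h1 := hvk (2 ^ (n - 2)) 0
    simp only [pow_zero, mul_one] at h1
    refine le_trans (le_of_eq ?_) (Complex.abs_im_le_norm _)
    have e : (θ (W.γT ^ 2 ^ (n - 2))).im =
        ((∑ j ∈ Finset.univ.filter (fun j => lm j ^ h = -1), m j : ℕ) : ℝ) * (ε ^ 2 ^ (n - 2)).im := by
      rw [h1, Complex.im_sum, Nat.cast_sum, Finset.sum_filter, Finset.sum_mul]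
      refine Finset.sum_congr rfl fun j _ => ?_
      rw [Complex.mul_im, Complex.natCast_re, Complex.natCast_im, zero_mul, add_zero]
      rcases eq_or_ne (m j) 0 with h0 | h0
      · simp [h0]
      rcases hcases j h0 with ⟨ha, hb, -⟩ | ⟨-, -, hb⟩
      · rw [if_pos hb, ha]
      · rw [if_neg (by rw [hb]; norm_num), him _ hb]; simp
    rw [e, abs_mul, Nat.abs_cast, hι, mul_one]
  · have him : ∀ x : ℂ, x ^ h = 1 → (x ^ 2 ^ (n - 2)).im = 0 := fun x hx => by
      have h2 : x ^ 2 ^ (n - 2) * x ^ 2 ^ (n - 2) = 1 := by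
        rw [← pow_add, ← two_mul, ← pow_succ', show n - 2 + 1 = n - 1 by have := W.n_two; omega]; exact hx
      rcases mul_self_eq_one_iff.1 h2 with h3 | h3 <;> simp [h3]
    have hι : |(ε ^ 2 ^ (n - 2)).im| = 1 := by
      have h2 : ε ^ 2 ^ (n - 2) * ε ^ 2 ^ (n - 2) = -1 := by
        rw [← pow_add, ← two_mul, ← pow_succ', show n - 2 + 1 = n - 1 by have := W.n_two; omega]; exact hεh
      have h3 : (ε ^ 2 ^ (n - 2) - Complex.I) * (ε ^ 2 ^ (n - 2) + Complex.I) = 0 := by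
        linear_combination h2 - Complex.I_mul_I
      rcases mul_eq_zero.1 h3 with h4 | h4
      · rw [sub_eq_zero.1 h4]; simp
      · rw [eq_neg_of_add_eq_zero_left h4]; simp
    have h1 := hvk 0 (2 ^ (n - 2))
    simp only [pow_zero, one_mul] at h1
    refine le_trans (le_of_eq ?_) (Complex.abs_im_le_norm _)
    have e : (θ (W.γ'T ^ 2 ^ (n - 2))).im =
        ((∑ j ∈ Finset.univ.filter (fun j => mu j ^ h = -1), m j : ℕ) : ℝ) * (ε ^ 2 ^ (n - 2)).im := by
      rw [h1, Complex.im_sum, Nat.cast_sum, Finset.sum_filter, Finset.sum_mul]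
      refine Finset.sum_congr rfl fun j _ => ?_
      rw [Complex.mul_im, Complex.natCast_re, Complex.natCast_im, zero_mul, add_zero]
      rcases eq_or_ne (m j) 0 with h0 | h0
      · simp [h0]
      rcases hcases j h0 with ⟨-, -, hb⟩ | ⟨ha, hb, -⟩
      · rw [if_neg (by rw [hb]; norm_num), him _ hb]; simp
      · rw [if_pos hb, ha]
    rw [e, abs_mul, Nat.abs_cast, hι, mul_one]
  · intro h0
    have h1 := hvk 0 1
    simp only [pow_zero, pow_one, one_mul] at h1
    rw [h1, Finset.sum_congr rfl (g := fun j => (m j : ℂ) * ε) fun j _ => ?_, ← Finset.sum_mul, ← Nat.cast_sum,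
      hmd, norm_mul, Complex.norm_natCast, Complex.norm_eq_one_of_pow_eq_one
        (show ε ^ N = 1 by rw [hN, ← W.half_two, pow_mul', hεh]; norm_num) (by positivity), mul_one]
    rcases eq_or_ne (m j) 0 with hj | hj
    · simp [hj]
    rcases hcases j hj with ⟨-, ha, -⟩ | ⟨ha, -, -⟩
    · exact absurd (Finset.sum_eq_zero_iff.1 h0 j (Finset.mem_filter.2 ⟨Finset.mem_univ _, ha⟩)) hj
    · rw [ha]
  · intro h0
    have h1 := hvk 1 0
    simp only [pow_zero, pow_one, mul_one] at h1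
    rw [h1, Finset.sum_congr rfl (g := fun j => (m j : ℂ) * ε) fun j _ => ?_, ← Finset.sum_mul, ← Nat.cast_sum,
      hmd, norm_mul, Complex.norm_natCast, Complex.norm_eq_one_of_pow_eq_one
        (show ε ^ N = 1 by rw [hN, ← W.half_two, pow_mul', hεh]; norm_num) (by positivity), mul_one]
    rcases eq_or_ne (m j) 0 with hj | hj
    · simp [hj]
    rcases hcases j hj with ⟨ha, -, -⟩ | ⟨-, ha, -⟩
    · rw [ha]
    · exact absurd (Finset.sum_eq_zero_iff.1 h0 j (Finset.mem_filter.2 ⟨Finset.mem_univ _, ha⟩)) hj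

end Wreath

end Cfsg.Agent.SDKeystone.Budget
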