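import Cfsg.Agent.Lib.SDKeystone.Budget.WreathTorus
import Cfsg.Agent.Lib.Char.Perm
import Cfsg.Agent.Lib.CharApp.Schur

/-!
# The degree budget, wreathed case: two facts on the permutation characters of `H`

* `eq_top_of_index_lt` : a subgroup containing `φ γ` of index less than `q` is everything;
* `index_bound` : a subgroup containing `φ γ, φ γ'` but not the torus, meeting it in index `r`, has index
  above `r (q - 1)`.
-/

set_option autoImplicit false
set_option linter.unusedSectionVars false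
set_option linter.style.haveILetI false

open scoped ComplexConjugate

namespace Cfsg.Agent.SDKeystone.Budget

open Subgroup Cfsg Cfsg.Agent.Char Cfsg.Agent.InvolChar

universe u v w

section General

variable {R : Type*} [Group R] [Fintype R]

/-- The sum of the multiplicities of the linear characters trivial on `N`. -/
theorem sum_trivHom_inner {N : Subgroup R} [N.Normal] (hab : ∀ x y : R, x * y * x⁻¹ * y⁻¹ ∈ N) [Fintype N]
    [Fintype (TrivHom N)] (f : R → ℂ) :
    ∑ l : TrivHom N, classInner f (l.1 : R → ℂ) = (Nat.card N : ℂ)⁻¹ * ∑ x : N, f x := by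
  classical
  simp only [classInner]
  rw [← Finset.mul_sum, Finset.sum_comm]
  have e : ∀ x : R, ∑ l : TrivHom N, f x * conj (l.1 x) = if x ∈ N then (N.index : ℂ) * f x else 0 := by
    intro x
    rw [← Finset.mul_sum, sum_trivHom_conj hab]
    split_ifs <;> ring
  rw [Finset.sum_congr rfl fun x _ => e x, ← Finset.sum_filter,
    Finset.sum_subtype (p := fun x : R => x ∈ N) _ (fun x => by simp), ← Finset.mul_sum, ← mul_assoc,
    CharApp.card_eq_index_mul N, mul_inv, mul_comm (N.index : ℂ)⁻¹, mul_assoc (Nat.card N : ℂ)⁻¹,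
    inv_mul_cancel₀ (Nat.cast_ne_zero.2 Subgroup.index_ne_zero_of_finite), mul_one]

/-- A linear constituent of a permutation character is trivial on the stabiliser. -/
theorem constituent_linear {S : Subgroup R} [Fintype S] {χ : IrrCharacter R} (h1 : (χ : R → ℂ) 1 = 1)
    (h : classInner (indFun S (1 : S → ℂ)) (χ : R → ℂ) ≠ 0) :
    ∃ l : R →* ℂ, ⇑l = (χ : R → ℂ) ∧ ∀ s ∈ S, l s = 1 := by
  obtain ⟨l, hl⟩ := exists_hom_of_degree_one (IsIrrCharacter.isCharacter χ.2) h1
  refine ⟨l, hl, fun s hs => ?_⟩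
  rw [frobenius_reciprocity S _ (IsIrrCharacter.isClassFunction χ.2)] at h
  by_contra hne
  refine h (classInner_irr_of_ne isIrrCharacter_one ?_ fun e => hne ?_)
  · rw [← hl]; exact isIrrCharacter_of_hom (l.comp S.subtype)
  · have := congrFun e ⟨s, hs⟩
    rw [← hl] at this
    exact this.symm

/-- A central element in the stabiliser is in the kernel of every constituent. -/
theorem constituent_central {S : Subgroup R} [Fintype S] {χ : IrrCharacter R} {ζ : R} (hζ : ζ ∈ S)
    (hc : ∀ y, Commute ζ y) (h : classInner (indFun S (1 : S → ℂ)) (χ : R → ℂ) ≠ 0) :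
    (χ : R → ℂ) ζ = (χ : R → ℂ) 1 := by
  rw [frobenius_reciprocity S _ (IsIrrCharacter.isClassFunction χ.2)] at h
  obtain ⟨m, ρ, hρ, hρχ⟩ := χ.2
  haveI := hρ
  obtain ⟨c, hc'⟩ := CharApp.exists_scalar_of_mem_center ρ
    (z := ζ) (Subgroup.mem_center_iff.2 fun y => (hc y).eq.symm)
  have hmul : ∀ y, (χ : R → ℂ) (ζ * y) = c * (χ : R → ℂ) y := fun y => by
    rw [← hρχ]
    show LinearMap.trace ℂ _ (ρ (ζ * y)) = c * LinearMap.trace ℂ _ (ρ y)
    rw [map_mul, hc', smul_one_mul, map_smul, smul_eq_mul]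
  have hsum : ∑ s : S, (χ : R → ℂ) s ≠ 0 := by
    intro h0
    refine h ?_
    rw [classInner]
    simp only [Pi.one_apply, one_mul, ← map_sum, h0, map_zero, mul_zero]
  have he : c * ∑ s : S, (χ : R → ℂ) s = ∑ s : S, (χ : R → ℂ) s := by
    conv_rhs => rw [← Equiv.sum_comp (Equiv.mulLeft (⟨ζ, hζ⟩ : S))]
    rw [Finset.mul_sum]
    exact Finset.sum_congr rfl fun s _ => (hmul s).symm
  have hc1 : c = 1 := by
    rwa [mul_eq_right₀ hsum] at he
  have := hmul 1
  rwa [mul_one, hc1, one_mul] at this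

end General

variable {G : Type u} [Group G] [Fintype G] {H : Type v} [Group H] [Finite H] {X : Type w} [MulAction H X]
  {z t g : G} {C : Subgroup G} [Fintype C] {φ : C →* H} {Z : Subgroup H}
  {n q o : ℕ} {δ : ℤ} {b : IrrCharacter G}

namespace Wreath

variable {D : Setting X z t g C φ Z n q o δ b} {σ γ γ' : C} {ω : ℂ} (W : Wreath D σ γ γ' ω)
include W

theorem linear_eq_one (l : H →* ℂ) (hl : l (φ γ) = 1) (x : H) : l x = 1 := by
  haveI := l.normal_ker
  have h := W.gamma_normal l.ker inferInstance (MonoidHom.mem_ker.2 hl)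
  exact MonoidHom.mem_ker.1 (h ▸ mem_top x)

/-- The other constituents of a permutation character have degree at least `q - 1`. -/
theorem perm_decompose {S : Subgroup H} (hγ : φ γ ∈ S) [Fintype H] [Fintype S]
    [Fintype (IrrCharacter H)] {c : IrrCharacter H → ℕ}
    (hc : ∀ χ : IrrCharacter H, classInner (indFun S (1 : S → ℂ)) (χ : H → ℂ) = c χ) :
    c ⟨1, isIrrCharacter_one⟩ = 1 ∧ ∀ χ : IrrCharacter H, χ ≠ ⟨1, isIrrCharacter_one⟩ → c χ ≠ 0 →
      ∃ d : ℕ, (χ : H → ℂ) 1 = d ∧ q ≤ d + 1 ∧ d ≤ q + 1 := by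
  refine ⟨?_, fun χ hne hcχ => ?_⟩
  · have h := hc ⟨1, isIrrCharacter_one⟩
    rw [frobenius_reciprocity S _ (IsIrrCharacter.isClassFunction isIrrCharacter_one)] at h
    have e : classInner (1 : S → ℂ) (fun s : S => (1 : H → ℂ) s) = 1 :=
      classInner_irr_self (isIrrCharacter_one (G := S))
    rw [e] at h
    exact_mod_cast h.symm
  · obtain ⟨d, -, hd⟩ := IsIrrCharacter.exists_degree χ.2
    rcases W.degrees χ d hd with h1 | h1
    · obtain ⟨l, hl, hlS⟩ := constituent_linear (χ := χ) (by rw [hd, h1, Nat.cast_one])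
        (by rw [hc]; exact Nat.cast_ne_zero.2 hcχ)
      exact absurd (Subtype.ext (by rw [← hl]; exact funext fun x => W.linear_eq_one l (hlS _ hγ) x)) hne
    · exact ⟨d, hd, h1⟩

/-- A subgroup containing `φ γ` of index below `q` is everything. -/
theorem eq_top_of_index_lt (S : Subgroup H) (hγ : φ γ ∈ S) (h : S.index < q) : S = ⊤ := by
  classical
  letI := Fintype.ofFinite H
  letI := Fintype.ofFinite S
  letI := Fintype.ofFinite (IrrCharacter H)
  obtain ⟨c, hdec, hc⟩ := IsCharacter.decompose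
    (IsCharacter.indFun S (IsIrrCharacter.isCharacter (isIrrCharacter_one (G := S))))
  obtain ⟨h1, hd⟩ := W.perm_decompose hγ hc
  choose dg hdg using fun χ : IrrCharacter H => IsIrrCharacter.exists_degree χ.2
  have he := congrFun hdec 1
  rw [indFun_one_apply, Pi.one_apply, mul_one, Finset.sum_apply] at he
  simp only [Pi.smul_apply, smul_eq_mul, (hdg _).2] at he
  have hnat : S.index = ∑ χ : IrrCharacter H, c χ * dg χ := by exact_mod_cast he
  have hdg1 : dg ⟨1, isIrrCharacter_one⟩ = 1 := by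
    exact Nat.cast_injective (R := ℂ) ((hdg ⟨1, isIrrCharacter_one⟩).2.symm.trans Nat.cast_one.symm)
  rw [← Finset.add_sum_erase _ _ (Finset.mem_univ ⟨1, isIrrCharacter_one⟩), h1, hdg1, one_mul] at hnat
  rw [← Subgroup.index_eq_one]
  refine hnat.trans (add_eq_left.2 (Finset.sum_eq_zero fun χ hχ => ?_))
  by_contra hne
  have hc0 : c χ ≠ 0 := fun h0 => hne (by rw [h0, zero_mul])
  obtain ⟨d, hd1, hd2, -⟩ := hd χ (Finset.ne_of_mem_erase hχ) hc0
  have hle := Finset.single_le_sum (f := fun χ => c χ * dg χ) (fun _ _ => Nat.zero_le _) hχ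
  have e : dg χ = d := by exact_mod_cast (hdg χ).2.symm.trans hd1
  have : d ≤ c χ * dg χ := e ▸ Nat.le_mul_of_pos_left _ (Nat.pos_of_ne_zero hc0)
  omega

/-- Each linear character of the torus trivial on `Z` occurs at most once in an irreducible character of
degree at most `q + 1` trivial on `Z`. -/
theorem mult_le_one [Fintype H] [Fintype (centralizer ({φ D.tC} : Set H))]
    {χ : IrrCharacter H} {d : ℕ} (hd : (χ : H → ℂ) 1 = d) (hdk : d ≤ q + 1)
    (hZ : ∀ ζ ∈ Z, (χ : H → ℂ) ζ = (χ : H → ℂ) 1) :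
    ∀ (l : centralizer ({φ D.tC} : Set H) →* ℂ),
      (∀ x : centralizer ({φ D.tC} : Set H), (x : H) ∈ Z → l x = 1) →
      (classInner (fun x : centralizer ({φ D.tC} : Set H) => (χ : H → ℂ) x) l).re ≤ 1 := by
  classical
  intro l hl
  set K := Z.subgroupOf (centralizer ({φ D.tC} : Set H))
  have hab : ∀ x y : (centralizer ({φ D.tC} : Set H)), x * y * x⁻¹ * y⁻¹ ∈ K := fun x y => by
    have e : x * y = y * x := Subtype.ext (D.line.torus_comm _ x.2 _ y.2).eq
    rw [e, mul_inv_cancel_right, mul_inv_cancel]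
    exact one_mem _
  haveI : K.Normal := ⟨fun a ha c => by
    have : c * a * c⁻¹ = a := Subtype.ext (by
      push_cast
      rw [← (D.line.central_Z _ (mem_subgroupOf.1 ha) c).eq, mul_inv_cancel_right])
    rwa [this]⟩
  haveI := finite_trivHom hab
  letI := Fintype.ofFinite (TrivHom K)
  letI := Fintype.ofFinite (IrrCharacter (centralizer ({φ D.tC} : Set H)))
  letI := Fintype.ofFinite K
  have hidx : K.index = q + 1 := by
    have h := K.card_mul_index
    rw [Nat.card_congr (subgroupOfEquivOfLe (G := H) (H := Z) (K := (centralizer ({φ D.tC} : Set H))) D.Z_le_torus).toEquiv,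
      D.line.card_Z] at h
    rw [W.q_succ]
    exact mul_left_cancel₀ (pow_ne_zero n two_ne_zero) (h.trans D.line.torus_card)
  have hdev := sum_dev_lt (K := K) hab (M := normalizer ((centralizer ({φ D.tC} : Set H)) : Set H))
    (le_of_eq (D.line.torus_norm.trans (by rw [← D.line.torus_card]; rfl)))
    (fun h x x' hx e => D.line.torus_ti h x x.2 hx (by rw [e]; exact x'.2)) χ.2
  let one : IrrCharacter (centralizer ({φ D.tC} : Set H)) := ⟨1, isIrrCharacter_one⟩
  choose m hm using fun a : TrivHom K => IsCharacter.classInner_nat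
    (IsCharacter.restrict (IsIrrCharacter.isCharacter χ.2) (centralizer ({φ D.tC} : Set H))) (isCharacter_of_hom a.1)
  have htm : ∀ a : TrivHom K, twistMult (χ : H → ℂ) one a = (m a : ℂ) := fun a => by
    rw [twistMult, ← hm a]
    exact congrArg _ (funext fun x => one_mul _)
  have hsum : ∑ a : TrivHom K, (m a : ℂ) = (d : ℂ) := by
    rw [Finset.sum_congr rfl fun a _ => (hm a).symm, sum_trivHom_inner hab,
      Finset.sum_congr rfl fun x (_ : x ∈ (Finset.univ : Finset K)) => (hZ _ (mem_subgroupOf.1 x.2)).trans hd,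
      Finset.sum_const, Finset.card_univ, nsmul_eq_mul, ← Nat.card_eq_fintype_card, ← mul_assoc,
      inv_mul_cancel₀ (Nat.cast_ne_zero.2 Nat.card_pos.ne'), one_mul]
  have hsumR : ∑ a : TrivHom K, (m a : ℝ) = (d : ℝ) := by exact_mod_cast hsum
  have hinj : Function.Injective fun a : TrivHom K => twistIrr a.1 one := fun a a' h => by
    refine Subtype.ext (MonoidHom.ext fun x => ?_)
    simpa [one] using congrFun (congrArg Subtype.val h) x
  have h2 : ∑ a : TrivHom K, ((m a : ℝ) - (d : ℝ) / (K.index : ℝ)) ^ 2 < 2 := by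
    refine lt_of_le_of_lt ?_ hdev
    refine le_of_eq_of_le ?_ (Finset.sum_le_sum_of_subset_of_nonneg
      (Finset.subset_univ (Finset.univ.image fun a : TrivHom K => twistIrr a.1 one))
      fun _ _ _ => sq_nonneg _)
    rw [Finset.sum_image fun _ _ _ _ e => hinj e]
    refine Finset.sum_congr rfl fun a _ => ?_
    have e : twistDev (K := K) (χ : H → ℂ) (twistIrr a.1 one) =
        (((m a : ℝ) - (d : ℝ) / (K.index : ℝ) : ℝ) : ℂ) := by
      rw [twistDev_twist]
      simp only [htm, hsum]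
      push_cast
      ring
    rw [e, Complex.norm_real, Real.norm_eq_abs, sq_abs]
  set a₀ : TrivHom K := ⟨l, fun x hx => hl x hx⟩
  refine ((congrArg Complex.re (hm a₀)).trans (Complex.natCast_re _)).trans_le ?_
  by_contra hgt
  push Not at hgt
  have hk : (0 : ℝ) < (K.index : ℝ) := Nat.cast_pos.2 (by omega)
  have hcard : (Fintype.card (TrivHom K) : ℝ) = (K.index : ℝ) := by rw [card_trivHom hab]
  have hform : ∑ a : TrivHom K, ((m a : ℝ) - (d : ℝ) / (K.index : ℝ)) ^ 2 =
      (∑ a : TrivHom K, (m a : ℝ) * ((m a : ℝ) - 1)) + (d : ℝ) * ((K.index : ℝ) - d) / (K.index : ℝ) := by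
    have e : ∀ a : TrivHom K, ((m a : ℝ) - (d : ℝ) / (K.index : ℝ)) ^ 2 =
        (m a : ℝ) * ((m a : ℝ) - 1) + (1 - 2 * ((d : ℝ) / (K.index : ℝ))) * (m a : ℝ) +
          ((d : ℝ) / (K.index : ℝ)) ^ 2 := fun a => by ring
    rw [Finset.sum_congr rfl fun a _ => e a, Finset.sum_add_distrib, Finset.sum_add_distrib,
      ← Finset.mul_sum, hsumR, Finset.sum_const, Finset.card_univ, nsmul_eq_mul, hcard]
    field_simp
    ring
  have hnn : ∀ a : TrivHom K, 0 ≤ (m a : ℝ) * ((m a : ℝ) - 1) := fun a => by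
    rcases Nat.eq_zero_or_pos (m a) with h | h
    · simp [h]
    · have : (1 : ℝ) ≤ (m a : ℝ) := by exact_mod_cast h
      nlinarith
  have hbig : (2 : ℝ) ≤ (m a₀ : ℝ) * ((m a₀ : ℝ) - 1) := by
    have : (2 : ℕ) ≤ m a₀ := by exact_mod_cast hgt
    have : (2 : ℝ) ≤ (m a₀ : ℝ) := by exact_mod_cast this
    nlinarith
  have h3 := Finset.single_le_sum (f := fun a : TrivHom K => (m a : ℝ) * ((m a : ℝ) - 1))
    (fun a _ => hnn a) (Finset.mem_univ a₀)
  have h4 : 0 ≤ (d : ℝ) * ((K.index : ℝ) - d) / (K.index : ℝ) := by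
    refine div_nonneg (mul_nonneg (Nat.cast_nonneg _) (sub_nonneg.2 ?_)) hk.le
    rw [hidx]; exact_mod_cast hdk
  rw [hform] at h2
  linarith

/-- A subgroup containing `φ γ, φ γ'` but not the torus, meeting it in index `r`, has index above
`r (q - 1)`. -/
theorem index_bound (S : Subgroup H) (h2 : W.twoHom.range ≤ S)
    (hT : ¬ centralizer ({φ D.tC} : Set H) ≤ S) :
    (q - 1) * S.relIndex (centralizer ({φ D.tC} : Set H)) < S.index := by
  classical
  letI := Fintype.ofFinite H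
  set T := centralizer ({φ D.tC} : Set H)
  letI := Fintype.ofFinite T
  letI := Fintype.ofFinite S
  letI := Fintype.ofFinite (IrrCharacter H)
  letI := Fintype.ofFinite (H ⧸ S)
  have hγ : φ γ ∈ S := h2 ⟨(Multiplicative.ofAdd ((1 : ℕ) : ZMod (2 ^ n)), Multiplicative.ofAdd ((0 : ℕ) : ZMod (2 ^ n))), by
    show φ (W.pairHom _) = _
    rw [W.pairHom_pow, pow_one, pow_zero, mul_one]⟩
  set A := S.subgroupOf T with hA
  letI := Fintype.ofFinite A
  set r := S.relIndex T with hr
  have hrA : A.index = r := rfl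
  have hN : (0 : ℕ) < 2 ^ n := by positivity
  have hcardA : Nat.card A * r = 2 ^ n * (2 ^ n * o) := by
    rw [← hrA, A.card_mul_index]; exact D.line.torus_card
  have hdvd : 2 ^ n * 2 ^ n ∣ Nat.card A := by
    rw [← W.card_two, ← Nat.card_congr (subgroupOfEquivOfLe W.twoHom_le).toEquiv]
    exact card_dvd_of_le fun x hx => mem_subgroupOf.2 (h2 (mem_subgroupOf.1 hx))
  obtain ⟨o', ho'⟩ := hdvd
  have hor : o = o' * r := by
    refine mul_left_cancel₀ (show 2 ^ n * 2 ^ n ≠ 0 by positivity) ?_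
    rw [mul_assoc, ← hcardA, ho']; ring
  have hr3 : 3 ≤ r := by
    have hodd : Odd r := Odd.of_dvd_nat D.line.o_odd ⟨o', by rw [hor, mul_comm]⟩
    have h1 : r ≠ 1 := fun h => hT (Subgroup.relIndex_eq_one.1 h)
    obtain ⟨j, hj⟩ := hodd
    omega
  set a := 2 ^ n * o' with ha_def
  have hAa : Nat.card A = 2 ^ n * a := by rw [ho', ha_def, mul_assoc]
  have hka : q + 1 = a * r := by rw [W.q_succ, hor, ha_def, mul_assoc]
  have ha4 : 4 ≤ a := by
    have : 0 < o' := Nat.pos_of_ne_zero fun h => by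
      have := D.line.o_odd.pos; rw [hor, h, zero_mul] at this; omega
    exact (Nat.le_of_dvd hN W.four_dvd).trans (Nat.le_mul_of_pos_right _ this)
  obtain ⟨c, hdec, hc⟩ := IsCharacter.decompose
    (IsCharacter.indFun S (IsIrrCharacter.isCharacter (isIrrCharacter_one (G := S))))
  obtain ⟨h1, hdeg⟩ := W.perm_decompose hγ hc
  have hZS : ∀ ζ ∈ Z, ζ ∈ S := fun ζ hζ => h2 (W.Z_le_two hζ)
  -- the sums over `A` outside `Z`
  set Ao : Finset A := Finset.univ.filter fun x : A => ((x : T) : H) ∉ Z with hAo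
  have hsplit : ∀ F : H → ℂ, ∑ x ∈ Ao, F ((x : T) : H) =
      ∑ x : A, F ((x : T) : H) - ∑ x ∈ Finset.univ.filter (fun x : A => ((x : T) : H) ∈ Z), F ((x : T) : H) := by
    intro F
    rw [eq_sub_iff_add_eq, hAo, add_comm]
    exact Finset.sum_filter_add_sum_filter_not Finset.univ _ _
  have hinZ : (Finset.univ.filter fun x : A => ((x : T) : H) ∈ Z).card = 2 ^ n := by
    letI := Fintype.ofFinite Z
    rw [← D.line.card_Z, Nat.card_eq_fintype_card, ← Finset.card_univ]
    refine Finset.card_bij (fun x hx => ⟨((x : T) : H), (Finset.mem_filter.1 hx).2⟩)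
      (fun _ _ => Finset.mem_univ _) (fun x _ y _ e => Subtype.ext (Subtype.ext (congrArg Subtype.val e :)))
      fun ζ _ => ⟨⟨⟨ζ, D.Z_le_torus ζ.2⟩, mem_subgroupOf.2 (hZS _ ζ.2)⟩,
        Finset.mem_filter.2 ⟨Finset.mem_univ _, ζ.2⟩, rfl⟩
  -- the lower bound
  have hfix : ∀ x : A, (r : ℝ) ≤ (indFun S (1 : S → ℂ) ((x : T) : H)).re := by
    intro x
    rw [indFun_one_eq_fixedPoints, Complex.natCast_re, Nat.cast_le, ← hrA]
    have hwd : ∀ y y' : T, y⁻¹ * y' ∈ A → ((y : H) : H ⧸ S) = ((y' : H) : H ⧸ S) := fun y y' h =>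
      QuotientGroup.eq.2 (mem_subgroupOf.1 h)
    let f : T ⧸ A → MulAction.fixedBy (H ⧸ S) ((x : T) : H) := fun c =>
      ⟨((Quotient.out c : T) : H), by
        show ((x : T) : H) • ((((Quotient.out c : T) : H)) : H ⧸ S) = _
        rw [MulAction.Quotient.smul_coe, smul_eq_mul, eq_comm, QuotientGroup.eq, ← mul_assoc,
          mul_assoc _ ((x : T) : H), (D.line.torus_comm _ (x : T).2 _ (Quotient.out c).2).eq,
          ← mul_assoc, inv_mul_cancel, one_mul]
        exact mem_subgroupOf.1 x.2⟩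
    refine Nat.card_le_card_of_injective f fun c c' h => ?_
    have h' := QuotientGroup.eq.1 (congrArg Subtype.val h)
    rw [← QuotientGroup.out_eq' c, ← QuotientGroup.out_eq' c', QuotientGroup.eq]
    exact mem_subgroupOf.2 h'
  have hlow : (r : ℝ) * (Ao.card : ℝ) ≤ (∑ x ∈ Ao, indFun S (1 : S → ℂ) ((x : T) : H)).re := by
    rw [Complex.re_sum]
    have := Finset.card_nsmul_le_sum Ao (fun x : A => (indFun S (1 : S → ℂ) ((x : T) : H)).re) (r : ℝ)
      fun x _ => hfix x
    rw [nsmul_eq_mul] at this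
    linarith
  have hAocard : (Ao.card : ℝ) = (2 ^ n : ℕ) * ((a : ℝ) - 1) := by
    have h := Finset.sum_filter_add_sum_filter_not (Finset.univ : Finset A)
      (fun x : A => ((x : T) : H) ∈ Z) (fun _ => (1 : ℕ))
    simp only [Finset.sum_const, smul_eq_mul, mul_one, Finset.card_univ, ← Nat.card_eq_fintype_card] at h
    rw [hinZ, hAa] at h
    have h' : ((2 ^ n : ℕ) : ℝ) + (Ao.card : ℝ) = (2 ^ n : ℕ) * (a : ℝ) := by exact_mod_cast h
    linarith
  -- each constituent
  choose dg hdg using fun χ : IrrCharacter H => IsIrrCharacter.exists_degree χ.2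
  have hup : ∀ χ : IrrCharacter H, χ ≠ ⟨1, isIrrCharacter_one⟩ → c χ ≠ 0 →
      (∑ x ∈ Ao, (χ : H → ℂ) ((x : T) : H)).re ≤ 2 * (2 ^ n : ℕ) ∧ q ≤ dg χ + 1 := by
    intro χ hne hcχ
    obtain ⟨d, hd, hd1, hd2⟩ := hdeg χ hne hcχ
    have edg : dg χ = d := by exact_mod_cast (hdg χ).2.symm.trans hd
    refine ⟨?_, by omega⟩
    have hcz : classInner (indFun S (1 : S → ℂ)) (χ : H → ℂ) ≠ 0 := by rw [hc]; exact Nat.cast_ne_zero.2 hcχ
    have hZker : ∀ ζ ∈ Z, (χ : H → ℂ) ζ = (χ : H → ℂ) 1 := fun ζ hζ =>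
      constituent_central (hZS ζ hζ) (D.line.central_Z ζ hζ) hcz
    have habA : ∀ x y : T, x * y * x⁻¹ * y⁻¹ ∈ A := fun x y => by
      have e : x * y = y * x := Subtype.ext (D.line.torus_comm _ x.2 _ y.2).eq
      rw [e, mul_inv_cancel_right, mul_inv_cancel]
      exact one_mem _
    haveI : A.Normal := ⟨fun v hv u => by
      have : u * v * u⁻¹ = v := Subtype.ext (by
        push_cast
        rw [(D.line.torus_comm _ u.2 _ v.2).eq, mul_inv_cancel_right])
      rwa [this]⟩
    haveI := finite_trivHom habA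
    letI := Fintype.ofFinite (TrivHom A)
    have hA0 : (Nat.card A : ℂ) ≠ 0 := Nat.cast_ne_zero.2 Nat.card_pos.ne'
    have hM := sum_trivHom_inner habA (fun x : T => (χ : H → ℂ) x)
    have hAsum : ∑ x : A, (χ : H → ℂ) ((x : T) : H) =
        (Nat.card A : ℂ) * ∑ l : TrivHom A, classInner (fun x : T => (χ : H → ℂ) x) (l.1 : T → ℂ) := by
      rw [hM, ← mul_assoc, mul_inv_cancel₀ hA0, one_mul]
    have hle : (∑ l : TrivHom A, classInner (fun x : T => (χ : H → ℂ) x) (l.1 : T → ℂ)).re ≤ (r : ℝ) := by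
      rw [Complex.re_sum]
      refine (Finset.sum_le_sum fun l _ => W.mult_le_one hd hd2 hZker l.1 fun x hx =>
        l.2 x (mem_subgroupOf.2 (hZS _ hx))).trans_eq ?_
      rw [Finset.sum_const, Finset.card_univ, card_trivHom habA, nsmul_one, hrA]
    rw [hsplit, Complex.sub_re, hAsum, Complex.re_sum (s := Finset.univ.filter _),
      Finset.sum_congr rfl (g := fun _ => (d : ℝ))
        (fun x hx => by rw [hZker _ (Finset.mem_filter.1 hx).2, hd, Complex.natCast_re]),
      Finset.sum_const, hinZ, nsmul_eq_mul]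
    have e1 : ((Nat.card A : ℂ) * ∑ l : TrivHom A, classInner (fun x : T => (χ : H → ℂ) x) (l.1 : T → ℂ)).re =
        (Nat.card A : ℝ) * (∑ l : TrivHom A, classInner (fun x : T => (χ : H → ℂ) x) (l.1 : T → ℂ)).re := by
      rw [Complex.mul_re, Complex.natCast_re, Complex.natCast_im, zero_mul, sub_zero]
    rw [e1]
    have e2 : (Nat.card A : ℝ) = (2 ^ n : ℕ) * (a : ℝ) := by exact_mod_cast hAa
    have e3 : (a : ℝ) * r = (q : ℝ) + 1 := by exact_mod_cast hka.symm
    have e4 : (q : ℝ) ≤ (d : ℝ) + 1 := by exact_mod_cast hd1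
    have hAR : (0 : ℝ) ≤ (Nat.card A : ℝ) := Nat.cast_nonneg _
    have hNR : (0 : ℝ) ≤ ((2 ^ n : ℕ) : ℝ) := Nat.cast_nonneg _
    have h5 := mul_le_mul_of_nonneg_left hle hAR
    rw [e2, mul_assoc _ (a : ℝ) (r : ℝ), e3] at h5
    rw [e2]
    nlinarith [mul_le_mul_of_nonneg_left e4 hNR]
  -- compare
  have hL : (S.index : ℝ) - 1 =
      ∑ χ ∈ Finset.univ.erase (⟨1, isIrrCharacter_one⟩ : IrrCharacter H), (c χ : ℝ) * (dg χ : ℝ) := by
    have he := congrFun hdec 1
    rw [indFun_one_apply, Pi.one_apply, mul_one, Finset.sum_apply] at he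
    simp only [Pi.smul_apply, smul_eq_mul, (hdg _).2] at he
    have hnat : S.index = ∑ χ : IrrCharacter H, c χ * dg χ := by exact_mod_cast he
    have hdg1 : dg ⟨1, isIrrCharacter_one⟩ = 1 := by
      exact Nat.cast_injective (R := ℂ) ((hdg ⟨1, isIrrCharacter_one⟩).2.symm.trans Nat.cast_one.symm)
    rw [← Finset.add_sum_erase _ _ (Finset.mem_univ ⟨1, isIrrCharacter_one⟩), h1, hdg1, one_mul] at hnat
    rw [hnat]; push_cast; ring
  have htot : (∑ x ∈ Ao, indFun S (1 : S → ℂ) ((x : T) : H)).re =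
      (Ao.card : ℝ) + ∑ χ ∈ Finset.univ.erase (⟨1, isIrrCharacter_one⟩ : IrrCharacter H),
        (c χ : ℝ) * (∑ x ∈ Ao, (χ : H → ℂ) ((x : T) : H)).re := by
    rw [Finset.sum_congr rfl fun x (_ : x ∈ Ao) => congrFun hdec ((x : T) : H)]
    simp only [Finset.sum_apply, Pi.smul_apply, smul_eq_mul]
    rw [Finset.sum_comm, ← Finset.add_sum_erase _ _ (Finset.mem_univ ⟨1, isIrrCharacter_one⟩), h1,
      Complex.add_re, Complex.re_sum (s := Finset.univ.erase _)]
    refine congrArg₂ (· + ·) (by simp) (Finset.sum_congr rfl fun χ _ => ?_)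
    rw [← Finset.mul_sum, Complex.mul_re, Complex.natCast_re, Complex.natCast_im, zero_mul, sub_zero]
  have hq1 : (0 : ℝ) ≤ (q : ℝ) - 1 := by
    have : (3 : ℝ) ≤ q := by exact_mod_cast D.line.three_le
    linarith
  have hmain : ((r : ℝ) - 1) * ((2 ^ n : ℕ) * ((a : ℝ) - 1)) * ((q : ℝ) - 1) ≤
      2 * (2 ^ n : ℕ) * ((S.index : ℝ) - 1) := by
    rw [hL, Finset.mul_sum, ← hAocard]
    refine le_trans ?_ (Finset.sum_le_sum (f := fun χ : IrrCharacter H =>
      ((q : ℝ) - 1) * ((c χ : ℝ) * (∑ x ∈ Ao, (χ : H → ℂ) ((x : T) : H)).re)) fun χ hχ => ?_)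
    · rw [← Finset.mul_sum]
      have : ((r : ℝ) - 1) * (Ao.card : ℝ) ≤
          ∑ χ ∈ Finset.univ.erase (⟨1, isIrrCharacter_one⟩ : IrrCharacter H),
            (c χ : ℝ) * (∑ x ∈ Ao, (χ : H → ℂ) ((x : T) : H)).re := by linarith
      nlinarith
    · rcases Nat.eq_zero_or_pos (c χ) with h0 | h0
      · simp [h0]
      obtain ⟨hs, hdχ⟩ := hup χ (Finset.ne_of_mem_erase hχ) h0.ne'
      have hd' : (q : ℝ) - 1 ≤ (dg χ : ℝ) := by
        have : (q : ℝ) ≤ (dg χ : ℝ) + 1 := by exact_mod_cast hdχ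
        linarith
      have hc0 : (0 : ℝ) ≤ (c χ : ℝ) := Nat.cast_nonneg _
      have hN2 : (0 : ℝ) ≤ 2 * ((2 ^ n : ℕ) : ℝ) := by positivity
      calc ((q : ℝ) - 1) * ((c χ : ℝ) * (∑ x ∈ Ao, (χ : H → ℂ) ((x : T) : H)).re)
          ≤ ((q : ℝ) - 1) * ((c χ : ℝ) * (2 * (2 ^ n : ℕ))) :=
            mul_le_mul_of_nonneg_left (mul_le_mul_of_nonneg_left hs hc0) hq1
        _ ≤ (dg χ : ℝ) * ((c χ : ℝ) * (2 * (2 ^ n : ℕ))) :=
            mul_le_mul_of_nonneg_right hd' (mul_nonneg hc0 hN2)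
        _ = _ := by ring
  have hNpos : (0 : ℝ) < ((2 ^ n : ℕ) : ℝ) := by exact_mod_cast hN
  have ha' : (4 : ℝ) ≤ a := by exact_mod_cast ha4
  have hr' : (3 : ℝ) ≤ r := by exact_mod_cast hr3
  have hfin : ((q : ℝ) - 1) * r < (S.index : ℝ) := by
    have h6 : ((r : ℝ) - 1) * ((a : ℝ) - 1) * ((q : ℝ) - 1) ≤ 2 * ((S.index : ℝ) - 1) := by
      refine le_of_mul_le_mul_left ?_ hNpos
      linarith [hmain]
    have h7 : 2 * (r : ℝ) ≤ ((r : ℝ) - 1) * ((a : ℝ) - 1) := by nlinarith
    nlinarith [mul_le_mul_of_nonneg_right h7 hq1]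
  have : ((((q - 1) * r : ℕ)) : ℝ) < (S.index : ℝ) := by
    rw [Nat.cast_mul, Nat.cast_sub (by have := D.line.three_le; omega), Nat.cast_one]
    exact hfin
  exact_mod_cast this

end Wreath

end Cfsg.Agent.SDKeystone.Budget
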