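import Cfsg.Agent.Lib.SDKeystone.Budget.WreathDefs
import Cfsg.Agent.Lib.SDKeystone.Budget.WreathCoset

/-!
# The degree budget, wreathed case: the 2-part of the torus

* `twoHom`, `twoHom_injective` : `φ γ` and `φ γ'` span `(ℤ / 2 ^ n) ^ 2` in the torus;
* `pow_o_mem_two`, `Z_le_two`, `sq_one_cases` : it is the 2-part: it holds `Z` and the involutions;
* `two_fix` : an element of the core in `C(t)`, seen at `t`, centralises the 2-elements of the torus modulo
  the core;
* `comm_γ_mem_A0`, `comm_γ'_mem_A0`, `exists_fix` : so `C_O(γ)` covers `O ∩ C(t)` modulo `A0`.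
-/

set_option autoImplicit false
set_option linter.unusedSectionVars false
set_option linter.style.haveILetI false

open scoped commutatorElement

namespace Cfsg.Agent.SDKeystone.Budget

open Subgroup Cfsg Cfsg.Agent.Char Cfsg.Agent.InvolChar

universe u v w

variable {G : Type u} [Group G] [Fintype G] {H : Type v} [Group H] [Finite H] {X : Type w} [MulAction H X]
  {z t g : G} {C : Subgroup G} [Fintype C] {φ : C →* H} {Z : Subgroup H}
  {n q o : ℕ} {δ : ℤ} {b : IrrCharacter G}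

namespace Wreath

variable {D : Setting X z t g C φ Z n q o δ b} {σ γ γ' : C} {ω : ℂ} (W : Wreath D σ γ γ' ω)
include W

theorem map_mem_torus {y : C} (hy : y ∈ D.cT) : φ y ∈ centralizer ({φ D.tC} : Set H) := W.mem_torusPre hy

/-- The group `⟨γ, γ'⟩` from its exponents. -/
noncomputable def pairHom : Multiplicative (ZMod (2 ^ n)) × Multiplicative (ZMod (2 ^ n)) →* C :=
  haveI : NeZero (2 ^ n) := ⟨by positivity⟩
  (powHom γ W.pow_N).noncommCoprod (powHom γ' W.pow_N') fun a c => by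
    rw [powHom_apply, powHom_apply]; exact (W.comm.pow_left _).pow_right _

theorem pairHom_apply (a c : Multiplicative (ZMod (2 ^ n))) :
    W.pairHom (a, c) = γ ^ (Multiplicative.toAdd a).val * γ' ^ (Multiplicative.toAdd c).val := rfl

theorem pairHom_pow (u v : ℕ) :
    W.pairHom (Multiplicative.ofAdd (u : ZMod (2 ^ n)), Multiplicative.ofAdd (v : ZMod (2 ^ n))) =
      γ ^ u * γ' ^ v := by
  haveI : NeZero (2 ^ n) := ⟨by positivity⟩
  rw [pairHom_apply, toAdd_ofAdd, toAdd_ofAdd, ZMod.val_natCast, ZMod.val_natCast, ← pow_eq_pow_mod _ W.pow_N,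
    ← pow_eq_pow_mod _ W.pow_N']

theorem pairHom_mem_cT (p) : W.pairHom p ∈ D.cT := by
  obtain ⟨a, c⟩ := p
  rw [pairHom_apply]
  exact D.cT.mul_mem (pow_mem W.γ_mem_cT _) (pow_mem W.γ'_mem_cT _)

/-- `⟨φ γ, φ γ'⟩` from its exponents. -/
noncomputable def twoHom : Multiplicative (ZMod (2 ^ n)) × Multiplicative (ZMod (2 ^ n)) →* H :=
  φ.comp W.pairHom

theorem twoHom_le : W.twoHom.range ≤ centralizer ({φ D.tC} : Set H) := by
  rintro _ ⟨p, rfl⟩
  exact W.map_mem_torus (W.pairHom_mem_cT p)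

theorem half_cases {a : ZMod (2 ^ n)} (ha : a + a = 0) : a = 0 ∨ a = ((2 ^ (n - 1) : ℕ) : ZMod (2 ^ n)) := by
  haveI : NeZero (2 ^ n) := ⟨by positivity⟩
  have h := congrArg ZMod.val ha
  rw [ZMod.val_add, ZMod.val_zero] at h
  have hlt := ZMod.val_lt a
  have hh := W.half_two
  rcases Nat.lt_or_ge (a.val + a.val) (2 ^ n) with hl | hl
  · rw [Nat.mod_eq_of_lt hl] at h
    exact Or.inl ((ZMod.val_eq_zero a).1 (by omega))
  · rw [Nat.mod_eq_sub_mod hl, Nat.mod_eq_of_lt (by omega)] at h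
    exact Or.inr ((ZMod.natCast_zmod_val a).symm.trans (congrArg _ (by omega)))

theorem map_tz_ne_one : φ D.tC * φ D.zC ≠ 1 := fun h => by
  have h2 : φ D.tC = φ D.zC := by
    calc φ D.tC = φ D.tC * (φ D.zC * φ D.zC) := by rw [← map_mul φ D.zC, W.zC_two, map_one, mul_one]
      _ = φ D.zC := by rw [← mul_assoc, h, one_mul]
  exact D.line.t_notMem (show φ D.tC ∈ Z from h2 ▸ D.z_bar)

theorem twoHom_injective : Function.Injective W.twoHom := by
  haveI : NeZero (2 ^ n) := ⟨by positivity⟩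
  refine (injective_iff_map_eq_one _).2 fun p hp => ?_
  by_contra hne
  obtain ⟨a, b'⟩ := p
  have hN : ∀ x : Multiplicative (ZMod (2 ^ n)), x ^ 2 ^ n = 1 := fun x => by
    show (2 ^ n) • Multiplicative.toAdd x = 0
    rw [nsmul_eq_mul, ZMod.natCast_self, zero_mul]
  obtain ⟨j, -, hj⟩ := (Nat.dvd_prime_pow Nat.prime_two).1
    (orderOf_dvd_of_pow_eq_one (show (a, b') ^ 2 ^ n = 1 by rw [Prod.pow_mk, hN, hN]; rfl))
  have hj0 : j ≠ 0 := fun h0 => hne (orderOf_eq_one_iff.1 (by rw [hj, h0, pow_zero]))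
  obtain ⟨i, rfl⟩ := Nat.exists_eq_succ_of_ne_zero hj0
  set r := (a, b') ^ 2 ^ i with hr
  have hr1 : r ≠ 1 := pow_ne_one_of_lt_orderOf (by positivity) (by rw [hj]; exact Nat.pow_lt_pow_succ Nat.one_lt_two)
  have hr2 : r * r = 1 := by rw [hr, ← pow_add, ← two_mul, ← pow_succ', ← hj, pow_orderOf_eq_one]
  have hrF : W.twoHom r = 1 := by rw [hr, map_pow, hp, one_pow]
  obtain ⟨c, d⟩ := r
  have hc := W.half_cases (a := Multiplicative.toAdd c) (congrArg (fun x => Multiplicative.toAdd x.1) hr2)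
  have hd := W.half_cases (a := Multiplicative.toAdd d) (congrArg (fun x => Multiplicative.toAdd x.2) hr2)
  have e : ∀ u v : ℕ, Multiplicative.toAdd c = (u : ZMod (2 ^ n)) → Multiplicative.toAdd d = (v : ZMod (2 ^ n)) →
      φ (γ ^ u * γ' ^ v) = 1 := fun u v hu hv => by
    rw [← W.pairHom_pow u v, ← hu, ← hv]
    exact hrF
  rcases hc with hc | hc <;> rcases hd with hd | hd
  · exact hr1 (Prod.ext hc hd)
  · have h := e 0 (2 ^ (n - 1)) (hc.trans Nat.cast_zero.symm) hd
    rw [pow_zero, one_mul, W.pow_tz, map_mul] at h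
    exact W.map_tz_ne_one h
  · have h := e (2 ^ (n - 1)) 0 hc (hd.trans Nat.cast_zero.symm)
    rw [pow_zero, mul_one, W.pow_t] at h
    exact W.map_t_ne_one h
  · have h := e _ _ hc hd
    rw [W.pow_t, W.pow_tz, ← mul_assoc, W.tC_two, one_mul] at h
    exact W.map_z_ne_one h

theorem card_two : Nat.card W.twoHom.range = 2 ^ n * 2 ^ n := by
  haveI : NeZero (2 ^ n) := ⟨by positivity⟩
  rw [← Nat.card_congr (MonoidHom.ofInjective W.twoHom_injective).toEquiv, Nat.card_prod,
    Nat.card_congr Multiplicative.toAdd, Nat.card_zmod]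

theorem pow_o_mem_two {x : H} (hx : x ∈ centralizer ({φ D.tC} : Set H)) : x ^ o ∈ W.twoHom.range := by
  set T := centralizer ({φ D.tC} : Set H)
  haveI : (W.twoHom.range.subgroupOf T).Normal := ⟨fun a ha c => by
    have : c * a * c⁻¹ = a := Subtype.ext (by
      push_cast
      rw [(D.line.torus_comm _ c.2 _ a.2).eq, mul_inv_cancel_right])
    rwa [this]⟩
  have hidx : (W.twoHom.range.subgroupOf T).index = o := by
    have h := (W.twoHom.range.subgroupOf T).card_mul_index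
    rw [Nat.card_congr (subgroupOfEquivOfLe W.twoHom_le).toEquiv, W.card_two] at h
    exact mul_left_cancel₀ (show 2 ^ n * 2 ^ n ≠ 0 by positivity)
      ((h.trans D.line.torus_card).trans (by ring))
  have h := Subgroup.pow_index_mem (W.twoHom.range.subgroupOf T) ⟨x, hx⟩
  rwa [hidx, mem_subgroupOf, SubgroupClass.coe_pow] at h

theorem mem_two_of_pow {x : H} (hx : x ∈ centralizer ({φ D.tC} : Set H)) {j : ℕ} (h : x ^ 2 ^ j = 1) :
    x ∈ W.twoHom.range := by
  have hc : o.Coprime (orderOf x) := Nat.Coprime.coprime_dvd_right (orderOf_dvd_of_pow_eq_one h)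
    ((Nat.prime_two.coprime_iff_not_dvd.2 D.line.o_odd.not_two_dvd_nat).symm.pow_right _)
  obtain ⟨m, hm⟩ := exists_pow_eq_self_of_coprime hc
  exact hm ▸ pow_mem (W.pow_o_mem_two hx) m

theorem Z_le_two : Z ≤ W.twoHom.range := fun x hx => by
  refine W.mem_two_of_pow (j := n) (mem_centralizer_singleton_iff.2 (D.line.central_Z x hx _).eq) ?_
  rw [← D.line.card_Z]
  have h : (⟨x, hx⟩ : Z) ^ Nat.card Z = 1 := pow_card_eq_one'
  exact congrArg Subtype.val h

/-- The involutions of the torus. -/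
theorem sq_one_cases {x : H} (hx : x ∈ centralizer ({φ D.tC} : Set H)) (h : x * x = 1) :
    ∃ d : C, Commute t (d : G) ∧ (d = 1 ∨ d = D.tC ∨ d = D.zC ∨ d = D.tC * D.zC) ∧ φ d = x := by
  haveI : NeZero (2 ^ n) := ⟨by positivity⟩
  obtain ⟨⟨c, d⟩, rfl⟩ := W.mem_two_of_pow hx (j := 1) (by rw [pow_one, pow_two, h])
  have h2 : ((c, d) * (c, d) : Multiplicative (ZMod (2 ^ n)) × Multiplicative (ZMod (2 ^ n))) = 1 :=
    W.twoHom_injective (by rw [map_mul, h, map_one])
  refine ⟨W.pairHom (c, d), D.mem_cT.1 (W.pairHom_mem_cT _), ?_, rfl⟩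
  have hc := W.half_cases (a := Multiplicative.toAdd c) (congrArg (fun x => Multiplicative.toAdd x.1) h2)
  have hd := W.half_cases (a := Multiplicative.toAdd d) (congrArg (fun x => Multiplicative.toAdd x.2) h2)
  have e : ∀ u v : ℕ, Multiplicative.toAdd c = (u : ZMod (2 ^ n)) → Multiplicative.toAdd d = (v : ZMod (2 ^ n)) →
      W.pairHom (c, d) = γ ^ u * γ' ^ v := fun u v hu hv => by
    rw [← W.pairHom_pow u v, ← hu, ← hv]; rfl
  rcases hc with hc | hc <;> rcases hd with hd | hd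
  · left; rw [e 0 0 (hc.trans Nat.cast_zero.symm) (hd.trans Nat.cast_zero.symm), pow_zero, pow_zero, one_mul]
  · right; right; right
    rw [e 0 _ (hc.trans Nat.cast_zero.symm) hd, pow_zero, one_mul, W.pow_tz]
  · right; left
    rw [e _ 0 hc (hd.trans Nat.cast_zero.symm), pow_zero, mul_one, W.pow_t]
  · right; right; left
    rw [e _ _ hc hd, W.pow_t, W.pow_tz, ← mul_assoc, W.tC_two, one_mul]

/-- Conjugation by an element of `C(z) ∩ C(t)` keeps `C` in `C`. -/
theorem conj_mem_C {y x : G} (hy : Commute z y) (hx : x ∈ C) : y * x * y⁻¹ ∈ C := by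
  have e : y * x * y⁻¹ = ⁅y, x⁆ * x := by rw [commutatorElement_def]; group
  rw [e]
  exact C.mul_mem (W.comm_mem y x hy (D.le_cent x hx)) hx

/-- An element of the core in `C(t)`, seen at `t`, fixes the 2-elements modulo the core. -/
theorem two_fix {a x : C} (ha : φ a = 1) (hat : a ∈ D.cT) (hxt : x ∈ D.cT)
    (hgx : g * (x : G) * g⁻¹ ∈ C) {j : ℕ} (hxN : x ^ 2 ^ j = 1) :
    g * ((⁅a, x⁆ : C) : G) * g⁻¹ ∈ φ.ker.map C.subtype := by
  set y := g * (a : G) * g⁻¹ with hydef
  have hzy : Commute z y := W.g_conj_comm_z hat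
  have hty : Commute t y := W.g_conj_comm_t a
  have hyl : y ^ orderOf a = 1 := by
    rw [hydef, conj_pow, ← SubgroupClass.coe_pow, pow_orderOf_eq_one, OneMemClass.coe_one, mul_one,
      mul_inv_cancel]
  let c : C → C := fun v => ⟨y * (v : G) * y⁻¹, W.conj_mem_C hzy v.2⟩
  have hcmul : ∀ v v' : C, c (v * v') = c v * c v' := fun v v' => Subtype.ext (by simp [c, mul_assoc])
  have hcker : ∀ v : C, φ v = 1 → φ (c v) = 1 := fun v hv => by
    obtain ⟨h, h'⟩ := W.mem_img.1 (W.core_norm y hzy v hv)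
    exact h'
  have hcφ : ∀ v v' : C, φ v = φ v' → φ (c v) = φ (c v') := fun v v' h => by
    have h1 : φ (v'⁻¹ * v) = 1 := by rw [map_mul, map_inv, h, inv_mul_cancel]
    have h2 := hcker _ h1
    rw [show v = v' * (v'⁻¹ * v) by group, hcmul, map_mul, h2, mul_one]
  have hct : ∀ v ∈ D.cT, c v ∈ D.cT := fun v hv => D.mem_cT.2 (by
    have h := (D.mem_cT.1 hv).map (MulAut.conj y)
    simp only [MulAut.conj_apply, hty.symm.eq] at h
    rwa [mul_inv_cancel_right] at h)
  have main : ∀ i : ℕ, ∀ v ∈ D.cT, φ v ^ 2 ^ i = 1 → φ (c v) = φ v := by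
    intro i
    induction i with
    | zero =>
      intro v _ h
      rw [pow_zero, pow_one] at h
      rw [h, hcker v h]
    | succ i ih =>
      intro v hv h
      have hsq := ih (v * v) (D.cT.mul_mem hv hv) (by rwa [map_mul, ← pow_two, ← pow_mul, ← pow_succ'])
      rw [hcmul, map_mul, map_mul] at hsq
      have hcomm := D.line.torus_comm _ (W.map_mem_torus (hct v hv)) _ (W.map_mem_torus hv)
      obtain ⟨d, -, hd, hdx⟩ := W.sq_one_cases
        (Subgroup.mul_mem _ (W.map_mem_torus (hct v hv)) (Subgroup.inv_mem _ (W.map_mem_torus hv)))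
        (by
          calc φ (c v) * (φ v)⁻¹ * (φ (c v) * (φ v)⁻¹)
              = φ (c v) * φ (c v) * ((φ v)⁻¹ * (φ v)⁻¹) := by
                rw [mul_assoc (φ (c v)), ← mul_assoc (φ v)⁻¹, ← hcomm.inv_right.eq]; group
            _ = 1 := by rw [hsq]; group)
      have hdfix : c d = d := by
        have hyz : Commute y z := hzy.symm
        have hyt : Commute y t := hty.symm
        refine Subtype.ext ?_
        show y * (d : G) * y⁻¹ = d
        rcases hd with rfl | rfl | rfl | rfl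
        · simp
        · show y * t * y⁻¹ = t
          rw [hyt.eq, mul_inv_cancel_right]
        · show y * z * y⁻¹ = z
          rw [hyz.eq, mul_inv_cancel_right]
        · show y * (t * z) * y⁻¹ = t * z
          rw [(hyt.mul_right hyz).eq, mul_inv_cancel_right]
      have hiter : ∀ l : ℕ, φ (c^[l] v) = φ d ^ l * φ v := by
        intro l
        induction l with
        | zero => simp
        | succ l ihl =>
          rw [Function.iterate_succ', Function.comp_apply,
            hcφ _ (d ^ l * v) (by rw [ihl, map_mul, map_pow]), hcmul, map_mul, pow_succ, mul_assoc]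
          have hp : c (d ^ l) = d ^ l := by
            clear ihl
            induction l with
            | zero => exact Subtype.ext (by simp [c])
            | succ l ihp => rw [pow_succ, hcmul, ihp, hdfix]
          rw [hp, map_pow, hdx, inv_mul_cancel_right]
      have hpow : ∀ (l : ℕ) (v : C), ((c^[l] v : C) : G) = y ^ l * (v : G) * (y ^ l)⁻¹ := by
        intro l
        induction l with
        | zero => simp
        | succ l ihl =>
          intro v
          rw [Function.iterate_succ', Function.comp_apply]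
          show y * _ * y⁻¹ = _
          rw [ihl v, pow_succ']
          group
      obtain ⟨l, hl⟩ := Nat.odd_iff.2 (Nat.two_dvd_ne_zero.1 (D.odd_order ha))
      have hback : c^[orderOf a] v = v := Subtype.ext (by rw [hpow, hyl]; simp)
      have h1 := hiter (orderOf a)
      rw [hback, eq_comm, mul_eq_right, hl, pow_succ, pow_mul, pow_two, ← map_mul] at h1
      have hdd : d * d = 1 := by
        rcases hd with rfl | rfl | rfl | rfl
        · simp
        · exact W.tC_two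
        · exact W.zC_two
        · rw [show D.tC * D.zC * (D.tC * D.zC) = D.tC * (D.zC * D.tC) * D.zC by group,
            (W.zC_comm D.tC).eq, ← mul_assoc D.tC, W.tC_two, one_mul, W.zC_two]
      rw [hdd, map_one, one_pow, one_mul] at h1
      rw [h1, eq_comm, mul_inv_eq_one] at hdx
      exact hdx
  have hgxT : (⟨_, hgx⟩ : C) ∈ D.cT := D.mem_cT.2 (W.g_conj_comm_t x)
  have hp : φ (⟨_, hgx⟩ : C) ^ 2 ^ j = 1 := by
    rw [← map_pow, show ((⟨_, hgx⟩ : C) ^ 2 ^ j) = 1 from Subtype.ext (by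
      push_cast
      rw [conj_pow, ← SubgroupClass.coe_pow, hxN, OneMemClass.coe_one, mul_one, mul_inv_cancel]), map_one]
  have h := main j _ hgxT hp
  refine W.mem_img.2 ⟨?_, ?_⟩
  · have e : g * ((⁅a, x⁆ : C) : G) * g⁻¹ = (c ⟨_, hgx⟩ : G) * (g * (x : G) * g⁻¹)⁻¹ := by
      simp only [c, hydef, commutatorElement_def]; push_cast; group
    rw [e]
    exact C.mul_mem (c ⟨_, hgx⟩).2 (C.inv_mem hgx)
  · have e : ∀ hh, (⟨g * ((⁅a, x⁆ : C) : G) * g⁻¹, hh⟩ : C) = c ⟨_, hgx⟩ * (⟨_, hgx⟩ : C)⁻¹ :=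
      fun hh => Subtype.ext (by simp only [c, hydef, commutatorElement_def]; push_cast; group)
    rw [e, map_mul, map_inv, h, mul_inv_cancel]

theorem comm_mem_ker {a : C} (ha : φ a = 1) (x : C) : φ ⁅a, x⁆ = 1 := by
  rw [map_commutatorElement, ha, commutatorElement_one_left]

theorem comm_mem_cT {a x : C} (ha : a ∈ D.cT) (hx : x ∈ D.cT) : ⁅a, x⁆ ∈ D.cT := by
  rw [commutatorElement_def]
  exact D.cT.mul_mem (D.cT.mul_mem (D.cT.mul_mem ha hx) (D.cT.inv_mem ha)) (D.cT.inv_mem hx)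

theorem comm_γ_mem_A0 {a : C} (ha : φ a = 1) (hat : a ∈ D.cT) : ⁅a, γ⁆ ∈ W.A0 := by
  refine W.mem_A0.2 ⟨W.comm_mem_ker ha γ, W.comm_mem_cT hat W.γ_mem_cT,
    W.two_fix ha hat W.γ_mem_cT W.g_γ W.pow_N, ?_⟩
  rw [show σ * ⁅a, γ⁆ * σ⁻¹ = ⁅σ * a * σ⁻¹, γ'⁆ by rw [← W.conj_γ, commutatorElement_def, commutatorElement_def]; group]
  exact W.two_fix (by rw [map_mul, map_mul, map_inv, ha, mul_one, mul_inv_cancel]) (W.conj_mem_cT hat)
    W.γ'_mem_cT W.g_γ' W.pow_N'

theorem comm_γ'_mem_A0 {a : C} (ha : φ a = 1) (hat : a ∈ D.cT) : ⁅a, γ'⁆ ∈ W.A0 := by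
  refine W.mem_A0.2 ⟨W.comm_mem_ker ha γ', W.comm_mem_cT hat W.γ'_mem_cT,
    W.two_fix ha hat W.γ'_mem_cT W.g_γ' W.pow_N', ?_⟩
  rw [show σ * ⁅a, γ'⁆ * σ⁻¹ = ⁅σ * a * σ⁻¹, σ * γ' * σ⁻¹⁆ by
    rw [commutatorElement_def, commutatorElement_def]; group]
  refine W.two_fix (by rw [map_mul, map_mul, map_inv, ha, mul_one, mul_inv_cancel]) (W.conj_mem_cT hat)
    (W.conj_mem_cT W.γ'_mem_cT) ?_ (j := n) (by rw [conj_pow, W.pow_N', mul_one, mul_inv_cancel])
  have e : g * ((σ * γ' * σ⁻¹ : C) : G) * g⁻¹ =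
      g * ((σ * σ : C) : G) * g⁻¹ * (g * (γ : G) * g⁻¹) * (g * ((σ * σ : C) : G) * g⁻¹)⁻¹ := by
    rw [W.sigma_conj_γ']; push_cast; group
  rw [e]
  exact W.conj_mem_C (W.g_conj_comm_z W.sq_mem_cT) W.g_γ

/-- `C_O(γ)` covers the core in `C(t)` modulo `A0`. -/
theorem exists_fix {a : C} (ha : φ a = 1) (hat : a ∈ D.cT) :
    ∃ v ∈ W.A0, Commute (v⁻¹ * a) γ := by
  have he : γ⁻¹ * (⁅a, γ⁆ * γ) ∈ W.A0 := by
    have h := W.conj_mem_A0 (D.cT.inv_mem W.γ_mem_cT) (W.comm_γ_mem_A0 ha hat)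
    rwa [inv_inv, mul_assoc] at h
  obtain ⟨v, hv, c, hc, e⟩ := exists_conj_mul W.pow_N (fun b hb => W.conj_mem_A0 W.γ_mem_cT hb)
    W.A0_coprime he
  refine ⟨v, hv, ?_⟩
  have e1 : v * (γ * c) * v⁻¹ = a * γ * a⁻¹ := by
    rw [e, commutatorElement_def]; group
  have e2 : v⁻¹ * a * (γ * 1) * (v⁻¹ * a)⁻¹ = γ * c := by
    calc v⁻¹ * a * (γ * 1) * (v⁻¹ * a)⁻¹ = v⁻¹ * (a * γ * a⁻¹) * v := by group
      _ = γ * c := by rw [← e1]; group
  have h1 : v⁻¹ * a * γ * (v⁻¹ * a)⁻¹ = γ := conj_fix_of_conj W.pow_N W.A0 W.A0_coprime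
    (one_mem _) hc e2
  exact mul_inv_eq_iff_eq_mul.1 h1

end Wreath

end Cfsg.Agent.SDKeystone.Budget
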